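import Groth.Agent.Lib.Gen43.Affine

/-!
# Extending perfect objects from quasi-compact opens of affine schemes
-/

set_option autoImplicit false
set_option linter.style.haveILetI false
set_option linter.unusedSectionVars false

universe u

open CategoryTheory Limits AlgebraicGeometry Pretriangulated

attribute [local instance] HasDerivedCategory.standard

namespace Groth.Agent.Lib.Gen43.Extend

open Groth.Agent.Lib.Gen43.Restrict Groth.Agent.Lib.DerivedOX

variable {X : Scheme.{u}}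

/-- Push-forward from `U` of an object vanishing on `U ∩ V` vanishes on `V`. -/
theorem van_push (U V : X.Opens) [DCoh.HasRpush U.ι] {G : DCoh.D (U : Scheme.{u})}
    (hG : Van (U.ι ⁻¹ᵁ V) G) : Van V ((DCoh.Rpush U.ι).obj G) := by
  haveI := Exists.hasRpush (U.ι ∣_ V)
  exact van_of_isZero (((DCoh.Rpush (U.ι ∣_ V)).map_isZero hG.isZero).of_iso
    ((RestrictRpush.restrictD_Rpush_iso U.ι V).app G))

lemma van_preimage {U V : X.Opens} {B : DCoh.D X} (hB : Van (U ⊓ V) B) :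
    Van (U.ι ⁻¹ᵁ V) ((DCoh.restrictD U.ι).obj B) := by
  rw [van_restrict_iff, Scheme.Hom.image_preimage_eq_opensRange_inf, Scheme.Opens.opensRange_ι]
  exact hB

/-- An object vanishing on `S` is, on `S ∪ V`, pushed forward from `V`. -/
theorem isIso_restrict_unit_of_van {S V W : X.Opens} [DCoh.HasRpush V.ι] (hW : W ≤ S ⊔ V)
    {B : DCoh.D X} (hB : Van S B) : IsIso ((DCoh.restrictD W.ι).map (unit V.ι B)) := by
  obtain ⟨C, g, δ, hT⟩ := distinguished_cocone_triangle (unit V.ι B)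
  refine (isIso_restrict_iff hT).2 (Van.mono (Van.sup ?_ ?_) hW)
  · exact van₃ hT hB (van_push V S (van_preimage (hB.mono inf_le_right)))
  · exact (isIso_restrict_iff hT).1 (isIso_restrict_unit V.ι B)

section Affine

variable [IsAffine X]

/-- Morphisms over a quasi-compact open extend after modifying the source away from the open. -/
theorem exists_lift {U : X.Opens} (hU : IsCompact (U : Set X)) {E E' : DCoh.D X}
    (hE : DCoh.IsPerfect E) (hE' : DCoh.IsQCohD E')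
    (α : (DCoh.restrictD U.ι).obj E ⟶ (DCoh.restrictD U.ι).obj E') :
    ∃ (E₁ : DCoh.D X) (β : E₁ ⟶ E) (γ : E₁ ⟶ E'), DCoh.IsPerfect E₁ ∧
      IsIso ((DCoh.restrictD U.ι).map β) ∧
      (DCoh.restrictD U.ι).map β ≫ α = (DCoh.restrictD U.ι).map γ ∧
      ∀ V : X.Opens, Van V E → Van V E₁ := by
  haveI := Exists.hasRpush U.ι
  haveI := quasiCompact_ι hU
  let adj := OpenImm.restrictPushAdj U.ι
  obtain ⟨C, g, δ, hT⟩ := distinguished_cocone_triangle (unit U.ι E')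
  have hC : DCoh.IsQCohD C := TildeEquiv.isQCohD_mor₃ _ hT hE'
    (RpushQCoh.isQCohD_Rpush U.ι _ (CompactUnit.isQCohD_restrictD _ hE'))
  have hCU : Van U C := (isIso_restrict_iff hT).1 (isIso_restrict_unit U.ι E')
  let ψ := adj.homEquiv E _ α
  obtain ⟨Q, a, b, hab, hQ, hQU, hV⟩ := Affine.exists_factor hU hE hC hCU (ψ ≫ g)
  obtain ⟨E₁, β, c, hT₁⟩ := distinguished_cocone_triangle₁ a
  obtain ⟨(γ : E₁ ⟶ E'), (hγ : β ≫ ψ = γ ≫ unit U.ι E')⟩ :=
    Triangle.coyoneda_exact₂ _ hT (β ≫ ψ) (by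
      show (β ≫ ψ) ≫ g = 0
      have h0 : β ≫ a = 0 := comp_distTriang_mor_zero₁₂ _ hT₁
      rw [Category.assoc, ← hab, ← Category.assoc, h0, zero_comp])
  refine ⟨E₁, β, γ, Perfect.Triangle.isPerfect₁ hT₁ hE hQ, (isIso_restrict_iff hT₁).2 hQU, ?_,
    fun V h => van₁ hT₁ h (hV V h)⟩
  apply (adj.homEquiv E₁ _).injective
  rw [Adjunction.homEquiv_naturality_left]
  exact hγ.trans (by rw [Adjunction.homEquiv_unit]; exact adj.unit.naturality γ |>.trans rfl)

/-- `F` is a retract of the restriction of a perfect object. -/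
def RetExt (W : X.Opens) (F : DCoh.D (W : Scheme.{u})) : Prop :=
  ∃ P : DCoh.D X, DCoh.IsPerfect P ∧ Nonempty (Retract F ((DCoh.restrictD W.ι).obj P))

variable {W : X.Opens} (hW : IsCompact (W : Set X))

lemma RetExt.of_retract {F G : DCoh.D (W : Scheme.{u})} (r : Retract F G) (h : RetExt W G) :
    RetExt W F := by
  obtain ⟨P, hP, ⟨s⟩⟩ := h
  exact ⟨P, hP, ⟨r.trans s⟩⟩

lemma retExt_of_iso {F : DCoh.D (W : Scheme.{u})} {P : DCoh.D X} (hP : DCoh.IsPerfect P)
    (e : F ≅ (DCoh.restrictD W.ι).obj P) : RetExt W F :=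
  ⟨P, hP, ⟨⟨e.hom, e.inv, e.hom_inv_id⟩⟩⟩

lemma RetExt.shift {F : DCoh.D (W : Scheme.{u})} (h : RetExt W F) (n : ℤ) : RetExt W (F⟦n⟧) := by
  obtain ⟨P, hP, ⟨s⟩⟩ := h
  exact RetExt.of_retract (s.map (shiftFunctor _ n))
    (retExt_of_iso (Perfect.Triangle.isPerfect_shift hP n)
      (((DCoh.restrictD W.ι).commShiftIso n).app P).symm)

include hW in
lemma retExt₃ {T : Triangle (DCoh.D (W : Scheme.{u}))} (hT : T ∈ distTriang _)
    (h₁ : RetExt W T.obj₁) (h₂ : RetExt W T.obj₂) : RetExt W T.obj₃ := by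
  obtain ⟨PA, hPA, ⟨rA⟩⟩ := h₁
  obtain ⟨PB, hPB, ⟨rB⟩⟩ := h₂
  obtain ⟨P₁, β, γ, hP₁, hβ, hγ, -⟩ := exists_lift hW hPA (Perfect.QCohD.isQCohD_of_isPerfect hPB)
    (rA.r ≫ T.mor₁ ≫ rB.i)
  obtain ⟨G, g, h, hG⟩ := distinguished_cocone_triangle γ
  obtain ⟨r⟩ := Tri.nonempty_retract_cone (rA.i ≫ inv ((DCoh.restrictD W.ι).map β))
    ((DCoh.restrictD W.ι).map β ≫ rA.r) (by rw [Category.assoc, IsIso.inv_hom_id_assoc, rA.retract])
    rB.i rB.r rB.retract T.mor₁ T.mor₂ T.mor₃ hT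
    ((DCoh.restrictD W.ι).map γ) _ _ ((DCoh.restrictD W.ι).map_distinguished _ hG)
    (by rw [Category.assoc]; exact hγ.symm)
  exact ⟨G, Perfect.Triangle.isPerfect₃ hG hP₁ hPB, ⟨r⟩⟩

include hW in
lemma retExt₂ {T : Triangle (DCoh.D (W : Scheme.{u}))} (hT : T ∈ distTriang _)
    (h₁ : RetExt W T.obj₁) (h₃ : RetExt W T.obj₃) : RetExt W T.obj₂ :=
  retExt₃ hW (inv_rot_of_distTriang _ hT) (h₃.shift (-1)) h₁

lemma retExt_zero {F : DCoh.D (W : Scheme.{u})} (hF : IsZero F) : RetExt W F :=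
  ⟨_, Affine.isPerfect_oneD X, ⟨⟨0, 0, hF.eq_of_src _ _⟩⟩⟩

/-- The affine case. -/
lemma retExt_of_isAffineOpen {V : X.Opens} (hV : IsAffineOpen V) (F : DCoh.D (V : Scheme.{u}))
    (hF : DCoh.IsPerfect F) : RetExt V F := by
  haveI : IsAffine (V : Scheme.{u}) := hV
  refine Affine.perfect_induction (fun F => RetExt V F) (fun K h => retExt_zero h)
    (fun K L r h => h.of_retract r) (fun T hT => retExt₂ hV.isCompact hT) (fun n => ?_) hF
  exact retExt_of_iso (Perfect.Triangle.isPerfect_shift (Affine.isPerfect_oneD X) n)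
    ((shiftFunctor _ n).mapIso (CompactUnit.restrictOneIso V.ι).symm ≪≫
      (((DCoh.restrictD V.ι).commShiftIso n).app _).symm)

include hW in
/-- A retract of a restriction is, after adding its translate, a restriction. -/
lemma exists_extend_sum {F : DCoh.D (W : Scheme.{u})} {P : DCoh.D X} (hP : DCoh.IsPerfect P)
    (r : Retract F ((DCoh.restrictD W.ι).obj P)) [HasBinaryBiproduct F (F⟦(1 : ℤ)⟧)] :
    ∃ G : DCoh.D X, DCoh.IsPerfect G ∧ (∀ V : X.Opens, Van V P → Van V G) ∧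
      Nonempty ((DCoh.restrictD W.ι).obj G ≅ F ⊞ F⟦(1 : ℤ)⟧) := by
  obtain ⟨P₁, β, γ, hP₁, hβ, hγ, hV⟩ := exists_lift hW hP (Perfect.QCohD.isQCohD_of_isPerfect hP)
    (𝟙 _ - r.r ≫ r.i)
  obtain ⟨G, g, h, hG⟩ := distinguished_cocone_triangle γ
  refine ⟨G, Perfect.Triangle.isPerfect₃ hG hP₁ hP, fun V hv => van₃ hG (hV V hv) hv, ?_⟩
  let T := (DCoh.restrictD W.ι).mapTriangle.obj (Triangle.mk γ g h)
  let b := (DCoh.restrictD W.ι).map β
  have hT : T ∈ distTriang _ := (DCoh.restrictD W.ι).map_distinguished _ hG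
  let T' := Triangle.mk (𝟙 ((DCoh.restrictD W.ι).obj P) - r.r ≫ r.i) T.mor₂ (T.mor₃ ≫ b⟦(1 : ℤ)⟧')
  have hT' : T' ∈ distTriang _ := isomorphic_distinguished _ hT _
    (Triangle.isoMk _ _ (asIso b).symm (Iso.refl _) (Iso.refl _)
      (by
        show (𝟙 _ - r.r ≫ r.i) ≫ 𝟙 _ = inv b ≫ (DCoh.restrictD W.ι).map γ
        rw [Category.comp_id, ← hγ, IsIso.inv_hom_id_assoc])
      (by show T.mor₂ ≫ 𝟙 _ = 𝟙 _ ≫ T.mor₂; rw [Category.comp_id, Category.id_comp])
      (by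
        show (T.mor₃ ≫ b⟦(1 : ℤ)⟧') ≫ (inv b)⟦(1 : ℤ)⟧' = 𝟙 _ ≫ T.mor₃
        exact (Category.assoc _ _ _).trans ((congrArg (T.mor₃ ≫ ·)
          (((shiftFunctor _ (1 : ℤ)).map_comp _ _).symm.trans
            ((congrArg _ (IsIso.hom_inv_id b)).trans ((shiftFunctor _ (1 : ℤ)).map_id _)))).trans
          ((Category.comp_id _).trans (Category.id_comp _).symm))))
  exact Tri.nonempty_cone_idem r.i r.r r.retract _ _ hT'

/-- Every perfect object on a quasi-compact open is a retract of a restriction. -/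
theorem retExt (W : X.Opens) (hW : IsCompact (W : Set X)) :
    ∀ F : DCoh.D (W : Scheme.{u}), DCoh.IsPerfect F → RetExt W F := by
  refine compact_open_induction_on
    (P := fun W : X.Opens => ∀ F : DCoh.D (W : Scheme.{u}), DCoh.IsPerfect F → RetExt W F)
    W hW ?_ ?_
  · intro F _
    haveI : IsEmpty ((⊥ : X.Opens) : Scheme.{u}) := ⟨fun x => x.2.elim⟩
    exact retExt_zero (OpenImm.isZero_of_supports fun _ => Set.eq_empty_of_isEmpty _)
  · intro S hS V ih F hF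
    let W : X.Opens := S ⊔ V.1
    have hW : IsCompact (W : Set X) := by
      rw [TopologicalSpace.Opens.coe_sup]; exact hS.union V.2.isCompact
    haveI := Exists.hasRpush W.ι
    haveI := Exists.hasRpush V.1.ι
    haveI := quasiCompact_ι hW
    let F' := F ⊞ F⟦(1 : ℤ)⟧
    have hF' : DCoh.IsPerfect F' := Perfect.Triangle.isPerfect₂
      (binaryBiproductTriangle_distinguished F (F⟦(1 : ℤ)⟧)) hF (Perfect.Triangle.isPerfect_shift hF 1)
    let k₁ := X.homOfLE (le_sup_left : S ≤ W)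
    let R' := (DCoh.Rpush W.ι).obj F'
    have hR' : DCoh.IsQCohD R' :=
      RpushQCoh.isQCohD_Rpush W.ι _ (Perfect.QCohD.isQCohD_of_isPerfect hF')
    let eR : (DCoh.restrictD W.ι).obj R' ≅ F' := (OpenImm.counitIso W.ι).app F'
    let eS : DCoh.restrictD W.ι ⋙ DCoh.restrictD k₁ ≅ DCoh.restrictD S.ι :=
      compIso' k₁ W.ι (X.homOfLE_ι _)
    -- step 1: `F'` extends from `S`
    obtain ⟨P, hP, ⟨r⟩⟩ := ih _ (isPerfect_restrict k₁ hF)
    obtain ⟨P₁, hP₁, -, ⟨e₁⟩⟩ := exists_extend_sum hS hP r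
    haveI := preservesBinaryBiproducts_of_preservesBiproducts (DCoh.restrictD k₁)
    let α : (DCoh.restrictD S.ι).obj P₁ ≅ (DCoh.restrictD S.ι).obj R' :=
      e₁ ≪≫ biprod.mapIso (Iso.refl _) (((DCoh.restrictD k₁).commShiftIso (1 : ℤ)).app F).symm ≪≫
        ((DCoh.restrictD k₁).mapBiprod F (F⟦(1 : ℤ)⟧)).symm ≪≫
        (DCoh.restrictD k₁).mapIso eR.symm ≪≫ eS.app R'
    obtain ⟨P₂, β, γ, hP₂, hβ, hγ, -⟩ := exists_lift hS hP₁ hR' α.hom
    haveI : IsIso ((DCoh.restrictD S.ι).map γ) := by rw [← hγ]; infer_instance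
    -- step 2: the cone lives on `V`
    obtain ⟨C, g, h, hT⟩ := distinguished_cocone_triangle γ
    have hTW : (DCoh.restrictD W.ι).mapTriangle.obj (Triangle.mk γ g h) ∈ distTriang _ :=
      (DCoh.restrictD W.ι).map_distinguished _ hT
    have hC : DCoh.IsQCohD C :=
      TildeEquiv.isQCohD_mor₃ _ hT (Perfect.QCohD.isQCohD_of_isPerfect hP₂) hR'
    have hCS : Van S C := (isIso_restrict_iff hT).1 ‹IsIso ((DCoh.restrictD S.ι).map γ)›
    have hCW : DCoh.IsPerfect ((DCoh.restrictD W.ι).obj C) :=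
      Perfect.Triangle.isPerfect₃ hTW (isPerfect_restrict _ hP₂)
        (Perfect.Triangle.isPerfect_of_iso eR.symm hF')
    have hCV : DCoh.IsPerfect ((DCoh.restrictD V.1.ι).obj C) :=
      Perfect.Triangle.isPerfect_of_iso
        ((compIso' (X.homOfLE (le_sup_right : V.1 ≤ W)) W.ι (X.homOfLE_ι _)).app C)
        (isPerfect_restrict _ hCW)
    obtain ⟨Q₀, hQ₀, ⟨rV⟩⟩ := retExt_of_isAffineOpen V.2 _ hCV
    obtain ⟨Q₁, β', γ', hQ₁, hβ', hγ', -⟩ := exists_lift V.2.isCompact hQ₀ hC rV.r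
    obtain ⟨Q, a, b, hab, hQ, hQS, -⟩ := Affine.exists_factor hS hQ₁ hC hCS γ'
    let s : (DCoh.restrictD V.1.ι).obj C ⟶ (DCoh.restrictD V.1.ι).obj Q :=
      rV.i ≫ inv ((DCoh.restrictD V.1.ι).map β') ≫ (DCoh.restrictD V.1.ι).map a
    have hs : s ≫ (DCoh.restrictD V.1.ι).map b = 𝟙 _ := by
      simp only [s, Category.assoc]
      rw [← Functor.map_comp, hab, ← hγ', IsIso.inv_hom_id_assoc, rV.retract]
    let adj := OpenImm.restrictPushAdj V.1.ι
    let σ₀ := adj.homEquiv C _ s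
    haveI := isIso_restrict_unit_of_van (V := V.1) (le_refl W) hQS
    haveI := isIso_restrict_unit_of_van (V := V.1) (le_refl W) hCS
    let σ := (DCoh.restrictD W.ι).map σ₀ ≫ inv ((DCoh.restrictD W.ι).map (unit V.1.ι Q))
    have hσ : σ ≫ (DCoh.restrictD W.ι).map b = 𝟙 _ := by
      apply (cancel_mono ((DCoh.restrictD W.ι).map (unit V.1.ι C))).1
      have hn : b ≫ unit V.1.ι C = unit V.1.ι Q ≫
          (DCoh.Rpush V.1.ι).map ((DCoh.restrictD V.1.ι).map b) := adj.unit.naturality b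
      simp only [σ, Category.assoc, Category.id_comp]
      rw [← Functor.map_comp, hn, Functor.map_comp, IsIso.inv_hom_id_assoc, ← Functor.map_comp,
        ← Adjunction.homEquiv_naturality_right, hs, Adjunction.homEquiv_unit,
        CategoryTheory.Functor.map_id]
      exact congrArg _ (Category.comp_id _)
    have hCr : RetExt W ((DCoh.restrictD W.ι).obj C) := ⟨Q, hQ, ⟨⟨σ, _, hσ⟩⟩⟩
    exact RetExt.of_retract (G := F') ⟨biprod.inl, biprod.fst, biprod.inl_fst⟩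
      (RetExt.of_retract ⟨eR.inv, eR.hom, eR.inv_hom_id⟩
        (retExt₂ hW hTW (retExt_of_iso hP₂ (Iso.refl _)) hCr))

include hW in
/-- Extension of `F ⊕ F[1]`, with supports. -/
theorem exists_extension {T' : X.Opens} (hT' : IsCompact (T' : Set X))
    {F : DCoh.D (W : Scheme.{u})} (hF : DCoh.IsPerfect F) (hFT : Van (W.ι ⁻¹ᵁ T') F)
    [HasBinaryBiproduct F (F⟦(1 : ℤ)⟧)] :
    ∃ G : DCoh.D X, DCoh.IsPerfect G ∧ Van T' G ∧
      Nonempty ((DCoh.restrictD W.ι).obj G ≅ F ⊞ F⟦(1 : ℤ)⟧) := by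
  haveI := Exists.hasRpush W.ι
  haveI := quasiCompact_ι hW
  obtain ⟨P, hP, ⟨r⟩⟩ := retExt W hW F hF
  let adj := OpenImm.restrictPushAdj W.ι
  let R' := (DCoh.Rpush W.ι).obj F
  have hR' : DCoh.IsQCohD R' :=
    RpushQCoh.isQCohD_Rpush W.ι _ (Perfect.QCohD.isQCohD_of_isPerfect hF)
  obtain ⟨Q, a, b, hab, hQ, hQT, -⟩ :=
    Affine.exists_factor hT' hP hR' (van_push W T' hFT) (adj.homEquiv P F r.r)
  let r' : Retract F ((DCoh.restrictD W.ι).obj Q) :=
    { i := r.i ≫ (DCoh.restrictD W.ι).map a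
      r := (DCoh.restrictD W.ι).map b ≫ adj.counit.app F
      retract := by
        rw [Category.assoc, ← Functor.map_comp_assoc, hab]
        have : (DCoh.restrictD W.ι).map (adj.homEquiv P F r.r) ≫ adj.counit.app F = r.r :=
          (Adjunction.homEquiv_counit adj P F _).symm.trans ((adj.homEquiv P F).symm_apply_apply _)
        rw [this, r.retract] }
  obtain ⟨G, hG, hV, he⟩ := exists_extend_sum hW hQ r'
  exact ⟨G, hG, hV _ hQT, he⟩

end Affine

end Groth.Agent.Lib.Gen43.Extend
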