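import Groth.Agent.Lib.Gen43.Affine
import Groth.Agent.Lib.Gen43.Extend
import Groth.Agent.Lib.DerivedOX.RpushCoprod
import Groth.Agent.Lib.Triangulated.Sums
import Groth.Agent.Lib.DR.CompactPerf
import Groth.Prelude.Def_PerfAux

/-!
# Compact objects of `D_QCoh` with supports are the perfect ones
-/

set_option autoImplicit false
set_option linter.style.haveILetI false
set_option linter.unusedSectionVars false

universe u

open CategoryTheory Limits AlgebraicGeometry Pretriangulated

attribute [local instance] HasDerivedCategory.standard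

namespace Groth.Agent.Lib.Gen43.Compact

open Groth.Agent.Lib.Gen43.Restrict Groth.Agent.Lib.DerivedOX Groth.Agent.Lib.DerCat.FixCoprod
open Groth.Agent.Lib.DerivedOX.CompactUnit (qcD qcD_shift hasCoproduct oneD)

variable {X Y : Scheme.{u}}

/-! ### Perfect objects are compact -/

/-- Every perfect object is compact for `D_QCoh`. -/
def GoodP (X : Scheme.{u}) : Prop := ∀ P : DCoh.D X, DCoh.IsPerfect P → Fix.{u} (qcD X) P

lemma fix_restrict_iso (e : X ≅ Y) {K : DCoh.D X} (h : Fix.{u} (qcD X) K) :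
    Fix.{u} (qcD Y) ((DCoh.restrictD e.inv).obj K) :=
  haveI := CompactUnit.preservesColimits_restrictD e.hom
  let adj : Scheme.Modules.restrictFunctor e.inv ⊣ Scheme.Modules.restrictFunctor e.hom :=
    (OpenImm.isoEquiv e).toAdjunction
  fix_adj (RestrictRpush.derivedAdjExact adj) hasCoproduct
    (fun _ hM => CompactUnit.isQCohD_restrictD e.hom hM) h

lemma fix_of_restrict_iso (e : X ≅ Y) {K : DCoh.D Y}
    (h : Fix.{u} (qcD X) ((DCoh.restrictD e.hom).obj K)) : Fix.{u} (qcD Y) K :=
  fix_of_iso ((compIso' e.inv e.hom e.inv_hom_id).app K ≪≫ (idIso Y).app K) (fix_restrict_iso e h)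

lemma goodP_of_iso (e : X ≅ Y) (h : GoodP X) : GoodP Y := fun _ hP =>
  fix_of_restrict_iso e (h _ (isPerfect_restrict e.hom hP))

lemma goodP_of_isEmpty (X : Scheme.{u}) [IsEmpty X] : GoodP X := fun _ _ =>
  fix_of_isZero (OpenImm.isZero_of_supports fun _ => Set.eq_empty_of_isEmpty _)

lemma goodP_of_range (j : X ⟶ Y) [IsOpenImmersion j] (U : Y.Opens) (hr : j.opensRange = U)
    (h : GoodP U) : GoodP X := by
  subst hr
  exact goodP_of_iso j.isoOpensRange.symm h

lemma goodP_of_cover (U V : X.Opens) (hUV : U ⊔ V = ⊤) (hU : GoodP U) (hV : GoodP V)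
    (hUV' : GoodP (U ⊓ V : X.Opens)) : GoodP X := fun P hP => by
  obtain ⟨a, b, c, hT⟩ := MVExtZero.exists_mv_triangle U V hUV P
  exact fix_ext₃ qcD_shift hasCoproduct (Triangle.mk a b c) hT
    (CompactUnit.fix_extZero _ (hUV' _ (isPerfect_restrict _ hP)))
    (fix_biprod (CompactUnit.fix_extZero _ (hU _ (isPerfect_restrict _ hP)))
      (CompactUnit.fix_extZero _ (hV _ (isPerfect_restrict _ hP))))

lemma goodP_of_isAffine (X : Scheme.{u}) [IsAffine X] : GoodP X := fun _ hP =>
  Affine.perfect_induction (fun K => Fix.{u} (qcD X) K) (fun _ h => fix_of_isZero h)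
    (fun _ _ r h => fix_of_retract r h) (fun T hT => fix_ext₂ T hT)
    (fun n => fix_shift qcD_shift hasCoproduct (CompactUnit.good_of_isAffine X) n) hP

lemma goodP_sup (S U : X.Opens) (hS : GoodP S) (hU : GoodP U) (hSU : GoodP (S ⊓ U : X.Opens)) :
    GoodP (S ⊔ U : X.Opens) := by
  let W : X.Opens := S ⊔ U
  have hm : ∀ T : X.Opens, T ≤ W → GoodP T → GoodP (W.ι ⁻¹ᵁ T : (W : Scheme.{u}).Opens) :=
    fun T hT h => by
    refine goodP_of_range ((W.ι ⁻¹ᵁ T).ι ≫ W.ι) T ?_ h
    rw [Scheme.Hom.opensRange_comp, Scheme.Opens.opensRange_ι,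
      Scheme.Hom.image_preimage_eq_opensRange_inf, Scheme.Opens.opensRange_ι, inf_eq_right.2 hT]
  refine goodP_of_cover (W.ι ⁻¹ᵁ S) (W.ι ⁻¹ᵁ U) ?_ (hm _ le_sup_left hS) (hm _ le_sup_right hU) ?_
  · rw [← Scheme.Hom.preimage_sup]
    exact eq_top_iff.2 fun x _ => x.2
  · rw [← Scheme.Hom.preimage_inf]
    exact hm _ (inf_le_left.trans le_sup_left) hSU

lemma goodP_bot : GoodP ((⊥ : X.Opens) : Scheme.{u}) :=
  haveI : IsEmpty ((⊥ : X.Opens) : Scheme.{u}) := ⟨fun x => x.2.elim⟩
  goodP_of_isEmpty _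

lemma goodP_of_separated [X.IsSeparated] (S : X.Opens) (hS : IsCompact (S : Set X)) : GoodP S := by
  suffices GoodP S ∧ ∀ W : X.affineOpens, GoodP (S ⊓ W.1 : X.Opens) from this.1
  refine compact_open_induction_on (P := fun S => GoodP S ∧
    ∀ W : X.affineOpens, GoodP (S ⊓ W.1 : X.Opens)) S hS ?_ ?_
  · exact ⟨goodP_bot, fun W => by rw [bot_inf_eq]; exact goodP_bot⟩
  · intro S hS U ih
    haveI : IsAffine (U.1 : Scheme.{u}) := U.2
    refine ⟨goodP_sup _ _ ih.1 (goodP_of_isAffine _) (ih.2 U), fun W => ?_⟩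
    have hUW : IsAffineOpen (U.1 ⊓ W.1) := U.2.inf W.2
    haveI : IsAffine ((U.1 ⊓ W.1 : X.Opens) : Scheme.{u}) := hUW
    rw [inf_sup_right]
    refine goodP_sup _ _ (ih.2 W) (goodP_of_isAffine _) ?_
    have : S ⊓ W.1 ⊓ (U.1 ⊓ W.1) = S ⊓ (U.1 ⊓ W.1) := by
      rw [inf_assoc, inf_left_comm W.1 U.1, inf_idem]
    rw [this]
    exact ih.2 ⟨_, hUW⟩

/-- Perfect objects are compact for `D_QCoh`. -/
theorem goodP (X : Scheme.{u}) [CompactSpace X] [QuasiSeparatedSpace X] : GoodP X := by
  suffices ∀ S : X.Opens, IsCompact (S : Set X) → GoodP S from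
    goodP_of_range (𝟙 X) ⊤ (Scheme.Hom.opensRange_of_isIso _) (this ⊤ isCompact_univ)
  intro S hS
  refine compact_open_induction_on (P := fun S => GoodP S) S hS ?_ ?_
  · exact goodP_bot
  · intro S hS U ih
    haveI : IsAffine (U.1 : Scheme.{u}) := U.2
    refine goodP_sup _ _ ih (goodP_of_isAffine _) ?_
    haveI := quasiCompact_ι (X := X) U.2.isCompact
    refine goodP_of_iso ?_ (goodP_of_separated ((U.1).ι ⁻¹ᵁ S) ((U.1).ι.isCompact_preimage hS))
    exact IsOpenImmersion.isoOfRangeEq (((U.1).ι ⁻¹ᵁ S).ι ≫ (U.1).ι) (S ⊓ U.1).ι (by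
      rw [← Scheme.Hom.coe_opensRange, Scheme.Hom.opensRange_comp, Scheme.Opens.opensRange_ι,
        Scheme.Hom.image_preimage_eq_opensRange_inf, Scheme.Opens.opensRange_ι, inf_comm,
        Scheme.Opens.range_ι])

/-! ### Compact objects are perfect -/

section Spec

variable (R : CommRingCat.{u}) [PreservesFiniteLimits (tilde.functor R)]

lemma preservesColimit_tildeD {ι : Type u} (L : ι → DerivedCategory (ModuleCat.{u} R)) :
    PreservesColimit (Discrete.functor L) (DCoh.tildeD R) := by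
  let M := fun i => DerivedCategory.Q.objPreimage (L i)
  haveI := CompactUnit.preservesColimit_Φ R M
  haveI := RightDerived.isLeftAdjoint_Qh (A := ModuleCat.{u} R) DerCat.KInjExists.hasKInjRes
  haveI := DerCat.HocolimQ.preservesColimitsOfShape_Q (A := ModuleCat.{u} R) ι
  haveI : PreservesColimit (Discrete.functor M ⋙ DerivedCategory.Q) (DCoh.tildeD R) :=
    preservesColimit_of_preserves_colimit_cocone
      (isColimitOfPreserves DerivedCategory.Q (coproductIsCoproduct M))
      (isColimitOfPreserves (DerivedCategory.Q ⋙ DCoh.tildeD R) (coproductIsCoproduct M))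
  exact preservesColimit_of_iso_diagram _ (K₁ := Discrete.functor M ⋙ DerivedCategory.Q)
    (Discrete.natIso fun j => DerivedCategory.Q.objObjPreimageIso (L j.as))

end Spec

variable (A : Type u) [CommRing A]

theorem isPerfect_of_fix_spec {K : DCoh.D (Affine.S A)} (hK : DCoh.IsQCohD K)
    (h : Fix.{u} (qcD _) K) : DCoh.IsPerfect K := by
  obtain ⟨K₀, ⟨e⟩⟩ := TildeEquiv.exists_preimage (CommRingCat.of A) K hK
  refine Perfect.Triangle.isPerfect_of_iso e (Affine.isPerfect_T ?_)
  haveI := TildeEquiv.faithful (CommRingCat.of A)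
  have hc : ∀ (I : Type u) (E : I → Dual.D A) [HasCoproduct fun i : ULift.{u + 1} I => E i.down],
      Function.Bijective (CohDer.homSumToHomCoprod K₀ (fun i : ULift.{u + 1} I => E i.down)) := by
    classical
    intro I E _
    refine ⟨DerCat.Compact.homSum_injective _, fun f => ?_⟩
    haveI : HasColimitsOfShape (Discrete I) (Dual.D A) :=
      DR.CountSum.hasColimitsOfShape_D A I
    let E' : ULift.{u + 1} I → Dual.D A := fun i => E i.down
    haveI := hasCoproduct (X := Affine.S A) I fun i => (Affine.T A).obj (E i)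
    haveI : PreservesColimit (Discrete.functor E) (Affine.T A) :=
      preservesColimit_tildeD (CommRingCat.of A) E
    let a : (∐ E') ⟶ ∐ E := Sigma.desc fun i => Sigma.ι E i.down
    let b : (∐ E) ⟶ ∐ E' := Sigma.desc fun i => Sigma.ι E' ⟨i⟩
    have hab : a ≫ b = 𝟙 _ := Sigma.hom_ext _ _ fun i => by
      simp only [a, b, colimit.ι_desc_assoc, colimit.ι_desc, Cofan.mk_ι_app, Category.comp_id]
    let θ := PreservesCoproduct.iso (Affine.T A) E
    obtain ⟨s, hs⟩ := h I (fun i => (Affine.T A).obj (E i)) (fun i => TildeEquiv.isQCohD_obj _ _)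
      (e.inv ≫ (Affine.T A).map (f ≫ a) ≫ θ.hom)
    have key : θ.hom ≫ cut (fun i => (Affine.T A).obj (E i)) s ≫ θ.inv =
        (Affine.T A).map (cut E s) := by
      rw [← cancel_epi θ.inv, Iso.inv_hom_id_assoc]
      simp only [θ, PreservesCoproduct.inv_hom]
      exact (map_cut_comp E (Affine.T A) s).symm
    have h1 : (f ≫ a) ≫ cut E s = f ≫ a := (Affine.T A).map_injective (by
      rw [Functor.map_comp (Affine.T A) (f ≫ a) (cut E s), ← key,
        ← cancel_epi e.inv, ← cancel_mono θ.hom]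
      simp only [Category.assoc, Iso.inv_hom_id, Category.comp_id]
      simpa only [Category.assoc] using hs)
    rw [cut_eq_sum, Preadditive.comp_sum] at h1
    have hf : f = (∑ i ∈ s, (f ≫ a) ≫ proj E i ≫ Sigma.ι E i) ≫ b := by
      rw [h1, Category.assoc, hab, Category.comp_id]
    have hmem : f ∈ (CohDer.homSumToHomCoprod K₀ E').range := by
      rw [hf, Preadditive.sum_comp]
      refine AddSubgroup.sum_mem _ fun i _ => ?_
      simp only [Category.assoc, b, colimit.ι_desc, Cofan.mk_ι_app]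
      rw [← Category.assoc, ← Category.assoc]
      exact DerCat.Compact.ι_comp_mem_range E' ⟨i⟩ _
    exact hmem
  obtain ⟨L, a, b, hv, hp, ⟨r⟩⟩ := DR.CompactPerf.exists_retract_of_compact hc
  exact (DR.Perfect.pf_iff _).1 (DR.CompactPerf.isPerfect_of_retract r
    ⟨a, b, L, hv, hp, ⟨Iso.refl _⟩⟩)

/-- Quasi-coherent and supported off `W`. -/
def qcVan {X : Scheme.{u}} (W : X.Opens) : ObjectProperty (DCoh.D X) :=
  fun K => DCoh.IsQCohD K ∧ Van W K

variable {A}

/-- Compactness restricts to opens. -/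
theorem fix_restrict [QuasiSeparatedSpace X] {T' : X.Opens} {V : X.Opens} (hV : IsCompact (V : Set X))
    {K : DCoh.D X} (h : Fix.{u} (qcVan T') K) :
    Fix.{u} (qcVan (V.ι ⁻¹ᵁ T')) ((DCoh.restrictD V.ι).obj K) := by
  intro ι L _ hL f
  haveI := quasiCompact_ι hV
  haveI := Exists.hasRpush V.ι
  haveI := RpushCoprod.preservesColimit_Rpush V.ι L fun i => (hL i).1
  haveI := hasCoproduct ι fun i => (DCoh.Rpush V.ι).obj (L i)
  let θ := asIso (sigmaComparison (DCoh.Rpush V.ι) L)
  obtain ⟨s, hs⟩ := h ι (fun i => (DCoh.Rpush V.ι).obj (L i))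
    (fun i => ⟨RpushQCoh.isQCohD_Rpush V.ι _ (hL i).1, Extend.van_push V T' (hL i).2⟩)
    ((OpenImm.restrictPushAdj V.ι).homEquiv K _ f ≫ θ.inv)
  refine ⟨s, ((OpenImm.restrictPushAdj V.ι).homEquiv K _).injective ?_⟩
  rw [Adjunction.homEquiv_naturality_right]
  have key : θ.inv ≫ cut (fun i => (DCoh.Rpush V.ι).obj (L i)) s ≫ θ.hom =
      (DCoh.Rpush V.ι).map (cut L s) := by
    rw [Iso.inv_comp_eq]; exact (map_cut_comp L (DCoh.Rpush V.ι) s).symm
  rw [← key, ← Category.assoc, ← Category.assoc, hs, Category.assoc, θ.inv_hom_id, Category.comp_id]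

/-- On an affine scheme compactness with supports implies compactness. -/
theorem fix_of_fix_van [IsAffine X] {W : X.Opens} (hW : IsCompact (W : Set X)) {K : DCoh.D X}
    (hKW : Van W K) (h : Fix.{u} (qcVan W) K) : Fix.{u} (qcD X) K := by
  intro ι L _ hL f
  classical
  haveI := quasiCompact_ι hW
  haveI := Exists.hasRpush W.ι
  let R := fun i => (DCoh.Rpush W.ι).obj ((DCoh.restrictD W.ι).obj (L i))
  choose F a δ hT using fun i => distinguished_cocone_triangle₁ (unit W.ι (L i))
  have hR : ∀ i, DCoh.IsQCohD (R i) := fun i =>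
    RpushQCoh.isQCohD_Rpush W.ι _ (CompactUnit.isQCohD_restrictD _ (hL i))
  have hF : ∀ i, qcVan W (F i) := fun i => by
    refine ⟨fun n => ?_, (isIso_restrict_iff₂ (hT i)).1 (isIso_restrict_unit W.ι (L i))⟩
    have h3 := qcD_shift _ (-1)
      (TildeEquiv.isQCohD_mor₃ _ (rot_of_distTriang _ (hT i)) (hL i) (hR i))
    exact (WayOut.Scheme.qc _).prop_of_iso ((DerivedCategory.homologyFunctor _ n).mapIso
      ((shiftFunctorCompIsoId (DCoh.D X) (1 : ℤ) (-1) (by omega)).app (F i))) (h3 n)
  haveI := hasCoproduct ι F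
  haveI := hasCoproduct ι R
  let T : ι → Triangle (DCoh.D X) := fun i => Triangle.mk (a i) (unit W.ι (L i)) (δ i)
  haveI : HasCoproduct fun i => (T i).obj₁ := inferInstanceAs (HasCoproduct F)
  haveI : HasCoproduct fun i => (T i).obj₂ := inferInstanceAs (HasCoproduct L)
  haveI : HasCoproduct fun i => (T i).obj₃ := inferInstanceAs (HasCoproduct R)
  have hT' := Triangulated.Sums.coproduct_distinguished T hT
  let rL := fun i => (DCoh.restrictD W.ι).obj (L i)
  haveI := hasCoproduct ι rL
  haveI : HasCoproduct fun i => (DCoh.Rpush W.ι).obj (rL i) := inferInstanceAs (HasCoproduct R)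
  haveI := RpushCoprod.preservesColimit_Rpush W.ι rL fun i =>
    CompactUnit.isQCohD_restrictD _ (hL i)
  have h0 : f ≫ Limits.Sigma.map (f := L) (g := R) (fun i => unit W.ι (L i)) = 0 :=
    OpenImm.eq_zero_of_isZero_restrict W.ι hKW.isZero (F := ∐ rL)
      (asIso (sigmaComparison (DCoh.Rpush W.ι) rL)) _
  obtain ⟨(g : K ⟶ ∐ F), (hg : f = g ≫ Limits.Sigma.map (f := F) (g := L) a)⟩ :=
    Triangle.coyoneda_exact₂ _ hT' f h0
  obtain ⟨s, hs⟩ := h ι F hF g
  refine ⟨s, ?_⟩
  have hcut : Limits.Sigma.map (f := F) (g := L) a ≫ cut L s =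
      cut F s ≫ Limits.Sigma.map (f := F) (g := L) a := Sigma.hom_ext _ _ fun i => by
    rw [Sigma.ι_map_assoc, ι_cut, ← Category.assoc, ι_cut]
    split_ifs
    · rw [Sigma.ι_map]
    · simp
  rw [hg, Category.assoc, hcut, ← Category.assoc, hs]

/-- Compact objects are perfect. -/
theorem isPerfect_of_fix [QuasiSeparatedSpace X] {T' : X.Opens}
    (hT' : IsCompact (T' : Set X)) {K : DCoh.D X} (hK : DCoh.IsQCohD K) (hKT : Van T' K)
    (h : Fix.{u} (qcVan T') K) : DCoh.IsPerfect K := by
  refine isPerfect_of_cover fun x => ?_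
  obtain ⟨V, hV, hxV, -⟩ := exists_isAffineOpen_mem_and_subset (X := X) (x := x) (U := ⊤) trivial
  haveI : IsAffine (V : Scheme.{u}) := hV
  refine ⟨_, V.ι, inferInstance, ⟨x, hxV⟩, rfl, (Affine.isPerfect_Φ_iff _).1 ?_⟩
  haveI := quasiCompact_ι (X := X) hV.isCompact
  refine isPerfect_of_fix_spec _ (CompactUnit.isQCohD_restrictD _ (CompactUnit.isQCohD_restrictD _ hK)) ?_
  exact fix_restrict_iso (V : Scheme.{u}).isoSpec
    (fix_of_fix_van (V.ι.isCompact_preimage hT') (Extend.van_preimage (hKT.mono inf_le_right))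
      (fix_restrict hV.isCompact h))

section HomSum

open Classical in
lemma homSum_of (K : DCoh.D X) {ι : Type u} (L : ι → DCoh.D X) [HasCoproduct L] (i : ι)
    (g : K ⟶ L i) :
    PerfAux.homSumToHomCoprod K L (DirectSum.of _ i g) = g ≫ Sigma.ι L i := by
  simp [PerfAux.homSumToHomCoprod]
  rfl

/-- The comparison with the prelude's notion. -/
theorem isCompactObjRel_iff (P : ObjectProperty (DCoh.D X)) (K : DCoh.D X) :
    PerfAux.IsCompactObjRel.{u} (fun L => P L) K ↔ Fix.{u} P K := by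
  classical
  constructor
  · intro h ι L _ hL f
    obtain ⟨z, rfl⟩ := (h ι L hL).2 f
    induction z using DirectSum.induction_on with
    | zero => exact ⟨∅, by simp⟩
    | of i g =>
      refine ⟨{i}, ?_⟩
      rw [homSum_of, Category.assoc, ι_cut, if_pos (Finset.mem_singleton_self i)]
    | add a b ha hb =>
      obtain ⟨s, hs⟩ := ha
      obtain ⟨t, ht⟩ := hb
      refine ⟨s ∪ t, ?_⟩
      rw [map_add, Preadditive.add_comp, fix_mono L Finset.subset_union_left hs,
        fix_mono L Finset.subset_union_right ht]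
  · intro h ι L _ hL
    refine ⟨(injective_iff_map_eq_zero _).2 fun a ha => ?_, fun f => ?_⟩
    · have key : ∀ (a : DirectSum ι fun i => K ⟶ L i) (i : ι),
          PerfAux.homSumToHomCoprod K L a ≫ proj L i = a i := by
        intro a i
        induction a using DirectSum.induction_on with
        | zero => simp
        | of j g =>
          rw [homSum_of, Category.assoc, ι_proj]
          split_ifs with hji
          · subst hji
            rw [DirectSum.of_eq_same]; simp
          · rw [DirectSum.of_eq_of_ne _ _ _ (Ne.symm hji), comp_zero]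
        | add a b ha hb => rw [map_add, Preadditive.add_comp, ha, hb, DirectSum.add_apply]
      exact DFinsupp.ext fun i => (key a i).symm.trans (by rw [ha, zero_comp]; rfl)
    · obtain ⟨s, hs⟩ := h ι L hL f
      have : f ∈ (PerfAux.homSumToHomCoprod K L).range := by
        rw [← hs, cut_eq_sum, Preadditive.comp_sum]
        refine AddSubgroup.sum_mem _ fun i _ => ?_
        rw [← Category.assoc]
        exact ⟨_, homSum_of K L i _⟩
      exact this

end HomSum

end Groth.Agent.Lib.Gen43.Compact
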