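import Groth.Agent.Lib.Gen43.Glue

/-!
# A perfect generator of `D_QCoh` with supports
-/

set_option autoImplicit false
set_option linter.style.haveILetI false
set_option linter.unusedSectionVars false

universe u

open CategoryTheory Limits AlgebraicGeometry Pretriangulated

attribute [local instance] HasDerivedCategory.standard

namespace Groth.Agent.Lib.Gen43.Generator

open Groth.Agent.Lib.Gen43.Restrict Groth.Agent.Lib.Gen43.Glue Groth.Agent.Lib.DerivedOX

variable {X : Scheme.{u}}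

/-- Restricting a morphism to a smaller open kills it if it is killed on the larger one. -/
lemma restrict_eq_zero_of_le {U Z : X.Opens} (hUZ : U ≤ Z) {A B : DCoh.D X} (f : A ⟶ B)
    (hf : (DCoh.restrictD Z.ι).map f = 0) : (DCoh.restrictD U.ι).map f = 0 := by
  let e := compIso' (X.homOfLE hUZ) Z.ι (X.homOfLE_ι hUZ)
  have h := e.hom.naturality f
  refine (cancel_epi (e.hom.app A)).1 ?_
  rw [← h, Functor.comp_map, hf, Functor.map_zero, zero_comp, comp_zero]

lemma isPerfect_of_isZero {K : DCoh.D X} (h : IsZero K) : DCoh.IsPerfect K :=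
  isPerfect_of_retract (L := CompactUnit.oneD X) ⟨0, 0, h.eq_of_src _ _⟩ (Affine.isPerfect_oneD' X)

variable [CompactSpace X] [QuasiSeparatedSpace X]
variable (T' : X.Opens) (hT' : IsCompact (T' : Set X))

/-- The induction hypothesis: a generator over `S`. -/
def HasGen (S : X.Opens) : Prop :=
  ∃ P : DCoh.D X, DCoh.IsPerfect ((DCoh.restrictD S.ι).obj P) ∧ Van (S ⊓ T') P ∧
    ∀ E : DCoh.D X, DCoh.IsQCohD E → Van T' E →
      (∀ (n : ℤ) (φ : (DCoh.restrictD S.ι).obj P ⟶ (DCoh.restrictD S.ι).obj (E⟦n⟧)), φ = 0) →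
      Van S E

include hT' in
theorem hasGen_sup {S V : X.Opens} (hS : IsCompact (S : Set X)) (hV : IsAffineOpen V)
    (h : HasGen T' S) : HasGen T' (S ⊔ V) := by
  obtain ⟨P₀, hP₀, hP₀T, hgen⟩ := h
  haveI : IsAffine (V : Scheme.{u}) := hV
  haveI := quasiCompact_ι (X := X) hV.isCompact
  haveI := quasiCompact_ι (X := X) hS
  haveI := Exists.hasRpush S.ι
  have hW : IsCompact ((V.ι ⁻¹ᵁ (S ⊔ T') : (V : Scheme.{u}).Opens) : Set (V : Scheme.{u})) :=
    V.ι.isCompact_preimage (by rw [TopologicalSpace.Opens.coe_sup]; exact hS.union hT')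
  obtain ⟨K, hK, hKW, hKgen⟩ := Affine.exists_gen hW
  have hKS : Van (V.ι ⁻¹ᵁ S) K := hKW.mono fun x hx => Or.inl hx
  have hKT : Van (V.ι ⁻¹ᵁ T') K := hKW.mono fun x hx => Or.inr hx
  have hP₀T' : Van (S.ι ⁻¹ᵁ T') ((DCoh.restrictD S.ι).obj P₀) := by
    rw [van_restrict_iff, Scheme.Hom.image_preimage_eq_opensRange_inf, Scheme.Opens.opensRange_ι]
    exact hP₀T
  obtain ⟨R, -, i, p, hRS, hRV, hRT, hip, -⟩ := exists_step T' hT' hS hV
    (Perfect.QCohD.isQCohD_of_isPerfect (Affine.isPerfect_oneD' X)) hP₀ hP₀T'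
    (0 : _ ⟶ (DCoh.restrictD S.ι).obj (CompactUnit.oneD X))
  let Z : X.Opens := S ⊔ V
  let J := (ez V.ι).obj K
  have hJS : Van S J := van_ez V S hKS
  have hbip : ∀ W : X.Opens, DCoh.IsPerfect ((DCoh.restrictD W.ι).obj R) →
      DCoh.IsPerfect ((DCoh.restrictD W.ι).obj J) → DCoh.IsPerfect ((DCoh.restrictD W.ι).obj (R ⊞ J)) :=
    fun W h₁ h₂ => Perfect.Triangle.isPerfect₂
      ((DCoh.restrictD W.ι).map_distinguished _ (binaryBiproductTriangle_distinguished R J)) h₁ h₂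
  refine ⟨R ⊞ J, ?_, ?_, fun E hE hET hhom => ?_⟩
  · refine isPerfect_of_cover fun x => ?_
    rcases (x.2 : x.1 ∈ S ⊔ V) with hx | hx
    · exact ⟨_, X.homOfLE (le_sup_left : S ≤ Z), inferInstance, ⟨x.1, hx⟩, Subtype.ext (by simp),
        Perfect.Triangle.isPerfect_of_iso ((compIso' _ _ (X.homOfLE_ι _)).app _).symm
          (hbip S hRS (isPerfect_of_isZero hJS.isZero))⟩
    · exact ⟨_, X.homOfLE (le_sup_right : V ≤ Z), inferInstance, ⟨x.1, hx⟩, Subtype.ext (by simp),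
        Perfect.Triangle.isPerfect_of_iso ((compIso' _ _ (X.homOfLE_ι _)).app _).symm
          (hbip V hRV (Perfect.Triangle.isPerfect_of_iso (asIso ((adjEz V.ι).unit.app K)) hK))⟩
  · exact van₂ (binaryBiproductTriangle_distinguished R J) hRT
      ((van_ez V T' hKT).mono inf_le_right)
  have hR : ∀ (n : ℤ) (φ : (DCoh.restrictD Z.ι).obj R ⟶ (DCoh.restrictD Z.ι).obj (E⟦n⟧)), φ = 0 := by
    intro n φ
    have := hhom n ((DCoh.restrictD Z.ι).map biprod.fst ≫ φ)
    calc φ = (DCoh.restrictD Z.ι).map (biprod.inl : R ⟶ R ⊞ J) ≫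
        (DCoh.restrictD Z.ι).map (biprod.fst : R ⊞ J ⟶ R) ≫ φ := by
          rw [← Functor.map_comp_assoc, biprod.inl_fst, CategoryTheory.Functor.map_id, Category.id_comp]
      _ = 0 := by rw [this, comp_zero]
  have hKE : ∀ (n : ℤ) (ψ : K ⟶ (DCoh.restrictD V.ι).obj (E⟦n⟧)), ψ = 0 := by
    intro n ψ
    let ψ' := ((adjEz V.ι).homEquiv _ _).symm ψ
    have h0 : (DCoh.restrictD Z.ι).map ψ' = 0 := by
      have := hhom n ((DCoh.restrictD Z.ι).map (biprod.snd ≫ ψ'))
      calc (DCoh.restrictD Z.ι).map ψ' =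
            (DCoh.restrictD Z.ι).map (biprod.inr : J ⟶ R ⊞ J) ≫
              (DCoh.restrictD Z.ι).map ((biprod.snd : R ⊞ J ⟶ J) ≫ ψ') := by
            rw [← Functor.map_comp, biprod.inr_snd_assoc]
        _ = 0 := by rw [this, comp_zero]
    have h1 := restrict_eq_zero_of_le (le_sup_right : V ≤ Z) ψ' h0
    calc ψ = (adjEz V.ι).unit.app K ≫ (DCoh.restrictD V.ι).map ψ' :=
          ((Adjunction.homEquiv_unit ..).symm.trans (Equiv.apply_symm_apply _ ψ)).symm
      _ = 0 := by rw [h1, comp_zero]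
  have hunit : ∀ n : ℤ, IsIso ((DCoh.restrictD Z.ι).map (unit S.ι (E⟦n⟧))) := by
    intro n
    obtain ⟨C, g, δ, hT⟩ := distinguished_cocone_triangle (unit S.ι (E⟦n⟧))
    refine (isIso_restrict_iff hT).2 (Van.sup ((isIso_restrict_iff hT).1 (isIso_restrict_unit S.ι _)) ?_)
    have hCS : Van S C := (isIso_restrict_iff hT).1 (isIso_restrict_unit S.ι _)
    have hCT : Van T' C := van₃ hT (hET.shift n)
      (Extend.van_push S T' (Extend.van_preimage ((hET.shift n).mono inf_le_right)))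
    have hCq : DCoh.IsQCohD C := TildeEquiv.isQCohD_mor₃ _ hT (CompactUnit.qcD_shift _ n hE)
      (RpushQCoh.isQCohD_Rpush S.ι _ (CompactUnit.isQCohD_restrictD _ (CompactUnit.qcD_shift _ n hE)))
    apply van_of_isZero
    refine hKgen _ (CompactUnit.isQCohD_restrictD _ hCq) ?_ fun m φ => ?_
    · rw [van_restrict_iff, Scheme.Hom.image_preimage_eq_opensRange_inf, Scheme.Opens.opensRange_ι]
      exact (hCS.sup hCT).mono inf_le_right
    let F := DCoh.restrictD V.ι
    have hTV := F.map_distinguished _ hT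
    let δ' : F.obj C ⟶ (F.obj (E⟦n⟧))⟦(1 : ℤ)⟧ := (F.mapTriangle.obj (Triangle.mk (unit S.ι (E⟦n⟧)) g δ)).mor₃
    have h0 : φ ≫ δ' = 0 := by
      refine (DerCat.Tri.hom_shift_left_eq_zero_iff _ _ m).2 (fun f => ?_) _
      let e : ((F.obj (E⟦n⟧))⟦(1 : ℤ)⟧)⟦-m⟧ ≅ F.obj (E⟦n + (1 + -m)⟧) :=
        (shiftFunctorAdd (DCoh.D (V : Scheme.{u})) (1 : ℤ) (-m)).symm.app _ ≪≫
          ((F.commShiftIso (1 + -m)).app _).symm ≪≫
          F.mapIso ((shiftFunctorAdd (DCoh.D X) n (1 + -m)).symm.app E)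
      exact (cancel_mono e.hom).1 ((hKE _ (f ≫ e.hom)).trans zero_comp.symm)
    obtain ⟨(ψ : K⟦m⟧ ⟶ F.obj ((DCoh.Rpush S.ι).obj ((DCoh.restrictD S.ι).obj (E⟦n⟧)))), hψ⟩ :=
      Triangle.coyoneda_exact₃ _ hTV φ h0
    have hψ0 : ψ = 0 := by
      apply ((adjEz V.ι).homEquiv _ _).symm.injective
      apply ((OpenImm.restrictPushAdj S.ι).homEquiv _ _).symm.injective
      exact (van_ez V S (hKS.shift m)).isZero.eq_of_src _ _
    exact hψ.trans ((congrArg (· ≫ _) hψ0).trans zero_comp)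
  have hES : Van S E := by
    refine hgen E hE hET fun n φ₀ => ?_
    let φ := p ≫ φ₀
    suffices φ = 0 by
      calc φ₀ = i ≫ φ := by simp only [φ]; rw [← Category.assoc, hip, Category.id_comp]
        _ = 0 := by rw [this, comp_zero]
    let σ := (OpenImm.restrictPushAdj S.ι).homEquiv _ _ φ
    haveI := hunit n
    have h0 := hR n ((DCoh.restrictD Z.ι).map σ ≫ inv ((DCoh.restrictD Z.ι).map (unit S.ι (E⟦n⟧))))
    have h1 : (DCoh.restrictD Z.ι).map σ = 0 := by
      calc (DCoh.restrictD Z.ι).map σ = ((DCoh.restrictD Z.ι).map σ ≫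
            inv ((DCoh.restrictD Z.ι).map (unit S.ι (E⟦n⟧)))) ≫
            (DCoh.restrictD Z.ι).map (unit S.ι (E⟦n⟧)) := by
            rw [Category.assoc, IsIso.inv_hom_id, Category.comp_id]
        _ = 0 := by rw [h0, zero_comp]
    have h2 := restrict_eq_zero_of_le (le_sup_left : S ≤ Z) σ h1
    calc φ = (DCoh.restrictD S.ι).map σ ≫ (OpenImm.restrictPushAdj S.ι).counit.app _ :=
          ((Adjunction.homEquiv_counit ..).symm.trans (Equiv.symm_apply_apply _ φ)).symm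
      _ = 0 := by rw [h2, zero_comp]
  haveI := hunit 0
  have hz : IsZero ((DCoh.restrictD Z.ι).obj
      ((DCoh.Rpush S.ι).obj ((DCoh.restrictD S.ι).obj (E⟦(0 : ℤ)⟧)))) :=
    (DCoh.restrictD Z.ι).map_isZero ((DCoh.Rpush S.ι).map_isZero (hES.shift 0).isZero)
  exact (van_of_isZero (hz.of_iso (asIso ((DCoh.restrictD Z.ι).map (unit S.ι (E⟦(0 : ℤ)⟧)))))).of_iso
    ((shiftFunctorZero (DCoh.D X) ℤ).app E)

include hT' in
theorem hasGen (S : X.Opens) (hS : IsCompact (S : Set X)) : HasGen T' S := by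
  refine compact_open_induction_on (P := fun S : X.Opens => HasGen T' S) S hS ?_
    fun S hS V ih => hasGen_sup T' hT' hS V.2 ih
  haveI : IsEmpty ((⊥ : X.Opens) : Scheme.{u}) := ⟨fun x => x.2.elim⟩
  exact ⟨CompactUnit.oneD X, isPerfect_of_isEmpty _, fun _ x hx => hx.1.elim,
    fun E _ _ _ => van_bot E⟩

include hT' in
/-- A perfect object supported off `T'` generating the objects of `D_QCoh` supported off `T'`. -/
theorem exists_generator : ∃ P : DCoh.D X, DCoh.IsPerfect P ∧ Van T' P ∧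
    ∀ E : DCoh.D X, DCoh.IsQCohD E → Van T' E → (∀ (n : ℤ) (φ : P⟦n⟧ ⟶ E), φ = 0) → IsZero E := by
  obtain ⟨P, hP, hPT, hgen⟩ := hasGen T' hT' ⊤ isCompact_univ
  refine ⟨P, isPerfect_of_cover fun x => ⟨_, (⊤ : X.Opens).ι, inferInstance, ⟨x, trivial⟩, rfl, hP⟩,
    hPT.mono (by simp), fun E hE hET h => isZero_of_van_top (hgen E hE hET fun n φ => ?_)⟩
  haveI : IsIso (⊤ : X.Opens).ι := inferInstanceAs (IsIso X.topIso.hom)
  obtain ⟨χ, rfl⟩ := (DCoh.restrictD (⊤ : X.Opens).ι).map_surjective φ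
  rw [(DerCat.Tri.hom_shift_right_eq_zero_iff P E n).2 (h (-n)) χ, Functor.map_zero]

end Groth.Agent.Lib.Gen43.Generator
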