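import Groth.Agent.Lib.Gen43.Extend

/-!
# Extending `F ⊕ F[odd]` from a quasi-compact open of an affine scheme
-/

set_option autoImplicit false
set_option linter.style.haveILetI false
set_option linter.unusedSectionVars false

universe u

open CategoryTheory Limits AlgebraicGeometry Pretriangulated

attribute [local instance] HasDerivedCategory.standard

namespace Groth.Agent.Lib.Gen43.ExtendOdd

open Groth.Agent.Lib.Gen43.Restrict Groth.Agent.Lib.DerivedOX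

section Tri

variable {D : Type*} [Category D] [Preadditive D] [HasZeroObject D] [HasShift D ℤ]
  [∀ n : ℤ, (shiftFunctor D n).Additive] [Pretriangulated D]

/-- The triangle of the second summand. -/
lemma inr_fst_distinguished (Y C : D) [HasBinaryBiproduct Y C] [HasBinaryBiproduct C Y] :
    Triangle.mk (biprod.inr : C ⟶ Y ⊞ C) biprod.fst (0 : Y ⟶ C⟦(1 : ℤ)⟧) ∈ distTriang D :=
  isomorphic_distinguished _ (binaryBiproductTriangle_distinguished C Y) _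
    (Triangle.isoMk _ _ (Iso.refl _) (biprod.braiding Y C) (Iso.refl _)
      (by change biprod.inr ≫ (biprod.braiding Y C).hom = 𝟙 C ≫ biprod.inl
          simp [biprod.hom_ext_iff])
      (by change biprod.fst ≫ 𝟙 Y = (biprod.braiding Y C).hom ≫ biprod.snd
          simp)
      (by change (0 : Y ⟶ C⟦(1 : ℤ)⟧) ≫ _ = 𝟙 Y ≫ 0
          simp))

variable [IsTriangulated D]

/-- The cone of a map which is an isomorphism between two summands and zero elsewhere. -/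
theorem nonempty_cone_partial [HasBinaryBiproducts D] {X₁ Y₁ C Z : D} (g : Y₁ ⊞ C ⟶ Z)
    (h : Z ⟶ (X₁ ⊞ C)⟦(1 : ℤ)⟧)
    (hT : Triangle.mk ((biprod.snd : X₁ ⊞ C ⟶ C) ≫ (biprod.inr : C ⟶ Y₁ ⊞ C)) g h ∈ distTriang D) :
    Nonempty (Z ≅ X₁⟦(1 : ℤ)⟧ ⊞ Y₁) := by
  let O := Triangulated.someOctahedron rfl
    (rot_of_distTriang _ (binaryBiproductTriangle_distinguished X₁ C))
    (inr_fst_distinguished Y₁ C) hT
  have h3 : O.triangle.mor₃ = 0 := by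
    change (0 : Y₁ ⟶ C⟦(1 : ℤ)⟧) ≫ _ = 0
    exact zero_comp
  obtain ⟨e, -, -⟩ := exists_iso_binaryBiproduct_of_distTriang O.triangle O.mem h3
  exact ⟨e⟩

end Tri

variable {X : Scheme.{u}} [IsAffine X]

/-- Extension of `F ⊕ F[2k+1]`, with supports. -/
theorem exists_extension_odd {W : X.Opens} (hW : IsCompact (W : Set X)) {T' : X.Opens}
    (hT' : IsCompact (T' : Set X)) {F : DCoh.D (W : Scheme.{u})} (hF : DCoh.IsPerfect F)
    (hFT : Van (W.ι ⁻¹ᵁ T') F) (k : ℕ) :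
    ∃ G : DCoh.D X, DCoh.IsPerfect G ∧ Van T' G ∧
      Nonempty ((DCoh.restrictD W.ι).obj G ≅ F ⊞ F⟦(2 * k + 1 : ℤ)⟧) := by
  haveI := preservesBinaryBiproducts_of_preservesBiproducts (shiftFunctor (DCoh.D (W : Scheme.{u})) (1 : ℤ))
  obtain ⟨G₀, hG₀, hG₀T, ⟨e₀⟩⟩ := Extend.exists_extension hW hT' hF hFT
  induction k with
  | zero => exact ⟨G₀, hG₀, hG₀T, ⟨e₀ ≪≫ biprod.mapIso (Iso.refl _) (eqToIso (by simp))⟩⟩
  | succ k ih =>
    obtain ⟨G, hG, hGT, ⟨e⟩⟩ := ih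
    let n : ℤ := 2 * k + 1
    haveI := preservesBinaryBiproducts_of_preservesBiproducts (shiftFunctor (DCoh.D (W : Scheme.{u})) n)
    let eS : (DCoh.restrictD W.ι).obj (G₀⟦n⟧) ≅ (F⟦(1 : ℤ)⟧)⟦n⟧ ⊞ F⟦n⟧ :=
      ((DCoh.restrictD W.ι).commShiftIso n).app G₀ ≪≫ (shiftFunctor _ n).mapIso e₀ ≪≫
        (shiftFunctor _ n).mapBiprod _ _ ≪≫ biprod.braiding _ _
    obtain ⟨P₁, β, γ, hP₁, hβ, hγ, hV⟩ := Extend.exists_lift hW (Perfect.Triangle.isPerfect_shift hG₀ n)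
      (Perfect.QCohD.isQCohD_of_isPerfect hG)
      (eS.hom ≫ ((biprod.snd : _ ⟶ F⟦n⟧) ≫ (biprod.inr : F⟦n⟧ ⟶ F ⊞ F⟦n⟧)) ≫ e.inv)
    obtain ⟨G', g, h, hT⟩ := distinguished_cocone_triangle γ
    refine ⟨G', Perfect.Triangle.isPerfect₃ hT hP₁ hG, van₃ hT (hV _ (hG₀T.shift n)) hGT, ?_⟩
    obtain ⟨Z, g', h', hT'⟩ := distinguished_cocone_triangle
      ((biprod.snd : (F⟦(1 : ℤ)⟧)⟦n⟧ ⊞ F⟦n⟧ ⟶ F⟦n⟧) ≫ (biprod.inr : F⟦n⟧ ⟶ F ⊞ F⟦n⟧))
    obtain ⟨eZ⟩ := nonempty_cone_partial g' h' hT'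
    obtain ⟨t, -⟩ := exists_iso_of_arrow_iso _ _ ((DCoh.restrictD W.ι).map_distinguished _ hT) hT'
      (Arrow.isoMk (@asIso _ _ _ _ ((DCoh.restrictD W.ι).map β) hβ ≪≫ eS) e (by
        change ((DCoh.restrictD W.ι).map β ≫ eS.hom) ≫ _ = (DCoh.restrictD W.ι).map γ ≫ e.hom
        rw [← hγ]
        simp only [Category.assoc, Iso.inv_hom_id, Category.comp_id]
        rfl))
    exact ⟨Triangle.π₃.mapIso t ≪≫ eZ ≪≫ biprod.braiding _ _ ≪≫ biprod.mapIso (Iso.refl _)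
      (((shiftFunctorAdd' _ n 1 _ rfl).symm.app (F⟦(1 : ℤ)⟧)) ≪≫
        ((shiftFunctorAdd' _ 1 (n + 1) _ rfl).symm.app F) ≪≫
        eqToIso (by congr 2; simp only [n]; push_cast; ring))⟩

end Groth.Agent.Lib.Gen43.ExtendOdd
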