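import Groth.Agent.Lib.Gen43.ApproxAffine
import Groth.Agent.Lib.Gen43.ExtendOdd
import Groth.Agent.Lib.Gen43.Generator

/-!
# Approximation by perfect complexes
-/

set_option autoImplicit false
set_option linter.style.haveILetI false
set_option linter.unusedSectionVars false

universe u

open CategoryTheory Limits AlgebraicGeometry Pretriangulated

attribute [local instance] HasDerivedCategory.standard

namespace Groth.Agent.Lib.Gen43.Approx

open Groth.Agent.Lib.Gen43.Restrict Groth.Agent.Lib.Gen43.ApproxAffine Groth.Agent.Lib.Gen43.Glue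
  Groth.Agent.Lib.DerivedOX Groth.Agent.Lib.Perfect

variable {X U : Scheme.{u}} {W W' : X.Opens} {a : ℤ}

lemma not_mem_support_of_restrict {M : X.Modules} (hM : IsZero (M.restrict W.ι)) {x : X}
    (hx : x ∈ W) : x ∉ CohB1.support M := by
  intro h
  haveI := (Modules.Stalk.isZero_iff_stalk_subsingleton).1 hM ⟨x, hx⟩
  exact h (Modules.StalkRestrict.restrictStalkAddEquiv W.ι M ⟨x, hx⟩).symm.injective.subsingleton

lemma vanGE_iff (E : DCoh.D X) :
    VanGE W a E ↔ ∀ i, a ≤ i → IsZero (DCoh.HD ((DCoh.restrictD W.ι).obj E) i) :=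
  ⟨fun h i hi => (isZero_restrict_of_not_mem W _ (h i hi)).of_iso (Coherent.homologyIso W.ι E i),
    fun h i hi _ hx => not_mem_support_of_restrict
      ((h i hi).of_iso (Coherent.homologyIso W.ι E i).symm) hx⟩

lemma vanGE_sup {E : DCoh.D X} (h : VanGE W a E) (h' : VanGE W' a E) : VanGE (W ⊔ W') a E :=
  fun i hi x hx => hx.elim (h i hi x) (h' i hi x)

lemma good_of_cover {U V : X.Opens} (hUV : U ⊔ V = ⊤) (m : ℤ) {A B : DCoh.D X} (f : A ⟶ B)
    (hU : Ascent.Good m ((DCoh.restrictD U.ι).map f))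
    (hV : Ascent.Good m ((DCoh.restrictD V.ι).map f)) : Ascent.Good m f := by
  obtain ⟨C, g, δ, hT⟩ := distinguished_cocone_triangle f
  have key : ∀ W : X.Opens, Ascent.Good m ((DCoh.restrictD W.ι).map f) → VanGE W m C :=
    fun W hW => (vanGE_iff C).2
      ((Ascent.good_iff m _ ((DCoh.restrictD W.ι).map_distinguished _ hT)).1 hW)
  have h := vanGE_sup (key U hU) (key V hV)
  rw [hUV] at h
  exact (Ascent.good_iff m _ hT).2 fun i hi => (Modules.Stalk.isZero_iff_stalk_subsingleton).2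
    fun x => not_not.1 (h i hi x trivial)

lemma pcAt_perfect {K : DCoh.D X} (h : DCoh.IsPerfect K) (n : ℤ) (x : X) :
    PseudoCoh.PCAt n K x := by
  obtain ⟨U, j, _, y, F, hy, hF, ⟨i⟩⟩ := (Triangle.isPerfect_iff K).1 h x
  exact ⟨U, j, inferInstance, y, F, i.inv, hy, hF, Ascent.Good.of_isIso n _⟩

/-- Approximation for `(T, E, m)` holds with bound `r`. -/
def Approx (X : Scheme.{u}) (T' : X.Opens) (r : ℕ) : Prop :=
  ∀ (m : ℤ) (E : DCoh.D X), DCoh.IsQCohD E → DCoh.IsPseudoCoherentD (m - r) E →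
    VanGE T' (m - r) E → ∃ (P : DCoh.D X) (α : P ⟶ E), DCoh.IsPerfect P ∧ Van T' P ∧
      Ascent.Good m α

lemma approx_of_isEmpty [IsEmpty X] (T' : X.Opens) : Approx X T' 0 := fun m E _ _ _ => by
  have hz : ∀ K : DCoh.D X, IsZero K := fun K =>
    OpenImm.isZero_of_supports fun _ => Set.eq_empty_of_isEmpty _
  exact ⟨E, 𝟙 E, isPerfect_of_isEmpty E, fun i x => isEmptyElim x, Ascent.Good.of_isIso m _⟩

lemma exists_finset [IsAffine X] (hW : IsCompact (W : Set X)) :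
    ∃ fs : Finset Γ(X, ⊤), (W : Set X) = (X.zeroLocus (U := ⊤) (↑fs : Set Γ(X, ⊤)))ᶜ := by
  obtain ⟨t, ht⟩ := (PrimeSpectrum.isCompact_isOpen_iff (R := Γ(X, ⊤))
    (s := X.isoSpec.inv ⁻¹' (W : Set X))).1
      ⟨(Scheme.homeoOfIso X.isoSpec.symm).isCompact_preimage.2 hW, W.2.preimage X.isoSpec.inv.continuous⟩
  refine ⟨t, ?_⟩
  rw [← Set.image_preimage_eq (W : Set X) (Scheme.homeoOfIso X.isoSpec.symm).surjective]
  change X.isoSpec.inv '' (X.isoSpec.inv ⁻¹' (W : Set X)) = _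
  exact (congrArg (X.isoSpec.inv '' ·) ht.symm).trans
    ((Set.image_compl_eq (Scheme.homeoOfIso X.isoSpec.symm).bijective).trans
      (congrArg (·ᶜ) (X.isoSpec_inv_image_zeroLocus _)))

/-- Adding an affine open. -/
theorem approx_sup {U V : X.Opens} (hUV : U ⊔ V = ⊤)
    (hU : IsCompact (U : Set X)) (hV : IsAffineOpen V) (T' : X.Opens)
    (hVU : IsCompact ((V.ι ⁻¹ᵁ U : (V : Scheme.{u}).Opens) : Set (V : Scheme.{u})))
    (hVT : IsCompact ((V.ι ⁻¹ᵁ T' : (V : Scheme.{u}).Opens) : Set (V : Scheme.{u})))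
    {r : ℕ} (h : Approx (U : Scheme.{u}) (U.ι ⁻¹ᵁ T') r) :
    ∃ r', Approx X T' r' := by
  haveI : IsAffine (V : Scheme.{u}) := hV
  obtain ⟨fs, hfs⟩ := exists_finset (W := V.ι ⁻¹ᵁ (U ⊔ T')) (by
    rw [TopologicalSpace.Opens.map_coe, TopologicalSpace.Opens.coe_sup, Set.preimage_union]
    exact hVU.union hVT)
  refine ⟨r + fs.card + 1, fun m E hE hpc hvan => ?_⟩
  -- approximate over `U`
  obtain ⟨P, α, hP, hPT, hα⟩ := h (m - fs.card) ((DCoh.restrictD U.ι).obj E)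
    (CompactUnit.isQCohD_restrictD _ hE)
    ((PseudoCoh.iff_forall _ _).2 fun y => (PseudoCoh.PCAt.restrict U.ι y
      ((PseudoCoh.iff_forall _ _).1 hpc _)).mono' (by omega))
    (fun i hi => (hvan.restrict U.ι) i (by omega))
  haveI : CompactSpace (U : Scheme.{u}) := isCompact_iff_compactSpace.1 hU
  obtain ⟨-, b, -, hb⟩ := Coherent.bounded_of_isPerfect hP
  obtain ⟨k, hk⟩ : ∃ k : ℕ, b - (2 * k + 1) < m - fs.card :=
    ⟨(b - m + fs.card).toNat, by omega⟩
  let N : ℤ := 2 * k + 1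
  let P₂ := P ⊞ P⟦N⟧
  let α₂ : P₂ ⟶ (DCoh.restrictD U.ι).obj E := biprod.fst ≫ α
  have hα₂ : Ascent.Good (m - fs.card) α₂ := by
    refine Ascent.Good.comp ?_ hα
    refine (Ascent.good_iff _ _ (rot_of_distTriang _ (ExtendOdd.inr_fst_distinguished P (P⟦N⟧)))).2
      fun i hi => ?_
    haveI := hb
    exact ((DerivedCategory.isZero_of_isLE P b (N + (1 + i)) (by omega)).of_iso
      (((DerivedCategory.homologyFunctor _ 0).shiftIso N (1 + i) _ rfl).app P)).of_iso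
      (((DerivedCategory.homologyFunctor _ 0).shiftIso 1 i _ rfl).app (P⟦N⟧))
  -- extend over `V`
  let M := (ez U.ι).obj P₂
  let αM : M ⟶ E := ((adjEz U.ι).homEquiv _ _).symm α₂
  have hM : IsIso ((adjEz (Glue.k U V)).counit.app ((DCoh.restrictD V.ι).obj M)) := by
    have h := isIso_counit_of_ez U.ι V P₂
    rw [Scheme.Opens.opensRange_ι] at h
    exact h
  let W₀ : (V : Scheme.{u}).Opens := V.ι ⁻¹ᵁ U
  have hW₀ : IsCompact (W₀ : Set (V : Scheme.{u})) := hVU
  let l : (W₀ : Scheme.{u}) ⟶ U := V.ι ∣_ U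
  haveI := preservesBinaryBiproducts_of_preservesBiproducts (DCoh.restrictD l)
  let F := (DCoh.restrictD l).obj P
  have hFT : Van (W₀.ι ⁻¹ᵁ (V.ι ⁻¹ᵁ T')) F := by
    rw [van_restrict_iff]
    refine hPT.mono ?_
    rintro _ ⟨w, hw, rfl⟩
    show U.ι (l w) ∈ T'
    rw [← Scheme.Hom.comp_apply, morphismRestrict_ι]
    exact hw
  obtain ⟨G, hG, hGT, ⟨eG⟩⟩ := ExtendOdd.exists_extension_odd hW₀ hVT
    (isPerfect_restrict l hP) hFT k
  let c₀ : (DCoh.restrictD (Glue.k U V)).obj G ≅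
      (DCoh.restrictD (Glue.k U V)).obj ((DCoh.restrictD V.ι).obj M) :=
    eG ≪≫ biprod.mapIso (Iso.refl _) (((DCoh.restrictD l).commShiftIso N).app P).symm ≪≫
      ((DCoh.restrictD l).mapBiprod P (P⟦N⟧)).symm ≪≫
      (DCoh.restrictD l).mapIso (asIso ((adjEz U.ι).unit.app P₂)) ≪≫
      (compIso' l U.ι (morphismRestrict_ι V.ι U)).app M ≪≫ (compIso W₀.ι V.ι).app M
  obtain ⟨G₁, β₁, γ₁, hG₁, hβ₁, hγ₁, hVG⟩ := Extend.exists_lift hW₀ hG
    (CompactUnit.isQCohD_restrictD V.ι hE)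
    (c₀.hom ≫ (DCoh.restrictD (Glue.k U V)).map ((DCoh.restrictD V.ι).map αM))
  obtain ⟨R, a, eV, ha, hβ⟩ := exists_glue hM G₁ (asIso ((DCoh.restrictD W₀.ι).map β₁) ≪≫ c₀)
  obtain ⟨β, hβa, -⟩ := hβ E αM γ₁ (by
    rw [← hγ₁]; simp only [Iso.trans_hom, asIso_hom, Category.assoc])
  let eU : (DCoh.restrictD U.ι).obj R ≅ P₂ :=
    (asIso ((DCoh.restrictD U.ι).map a)).symm ≪≫ (asIso ((adjEz U.ι).unit.app P₂)).symm
  have hP₂ : DCoh.IsPerfect P₂ := Triangle.isPerfect₂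
    (binaryBiproductTriangle_distinguished P (P⟦N⟧)) hP (Triangle.isPerfect_shift hP N)
  have hR : DCoh.IsPerfect R := isPerfect_of_two hUV (Triangle.isPerfect_of_iso eU.symm hP₂)
    (Triangle.isPerfect_of_iso eV.symm hG₁)
  have hRT : Van T' R := by
    have h2 := (van₂ (binaryBiproductTriangle_distinguished P (P⟦N⟧)) hPT (hPT.shift N)).of_iso eU.symm
    have h3 := (hVG _ hGT).of_iso eV.symm
    rw [van_restrict_iff, Scheme.Hom.image_preimage_eq_opensRange_inf,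
      Scheme.Opens.opensRange_ι] at h2 h3
    exact (h2.sup h3).mono (by rw [← inf_sup_right, hUV, top_inf_eq])
  have hβU : Ascent.Good (m - fs.card) ((DCoh.restrictD U.ι).map β) := by
    have hu : (adjEz U.ι).unit.app P₂ ≫ (DCoh.restrictD U.ι).map αM = α₂ :=
      (Adjunction.homEquiv_unit ..).symm.trans (Equiv.apply_symm_apply _ _)
    have : (DCoh.restrictD U.ι).map β = eU.hom ≫ α₂ := by
      simp only [eU, Iso.trans_hom, Iso.symm_hom, asIso_inv, Category.assoc]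
      rw [← hu, IsIso.inv_hom_id_assoc, ← hβa, Functor.map_comp, IsIso.inv_hom_id_assoc]
    rw [this]
    exact (Ascent.Good.of_isIso _ _).comp hα₂
  -- the cone lives on `V`
  obtain ⟨E', g, δ, hT⟩ := distinguished_cocone_triangle β
  have hE'U : VanGE U (m - fs.card) E' := (vanGE_iff E').2
    ((Ascent.good_iff _ _ ((DCoh.restrictD U.ι).map_distinguished _ hT)).1 hβU)
  have hE'T : VanGE T' (m - fs.card) E' := (vanGE_iff E').2 fun i hi => by
    haveI : IsIso ((DCoh.restrictD T'.ι).map g) :=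
      (isIso_restrict_iff₂ (T := Triangle.mk β g δ) hT).2 hRT
    exact ((vanGE_iff E).1 hvan i (by omega)).of_iso
      ((DerivedCategory.homologyFunctor _ i).mapIso (asIso ((DCoh.restrictD T'.ι).map g)).symm)
  have hE' : DCoh.IsQCohD E' :=
    TildeEquiv.isQCohD_mor₃ _ hT (QCohD.isQCohD_of_isPerfect hR) hE
  obtain ⟨Q, γ, hQ, hQW, hγ⟩ := ApproxAffine.approx fs (V.ι ⁻¹ᵁ (U ⊔ T')) hfs m
    (E := (DCoh.restrictD V.ι).obj E') (CompactUnit.isQCohD_restrictD _ hE')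
    ((PseudoCoh.iff_forall _ _).2 fun y => PseudoCoh.PCAt.restrict V.ι y
      (PseudoCoh.pcAt₃ hT (m := m) (pcAt_perfect hR (m + 1) _)
        (((PseudoCoh.iff_forall _ _).1 hpc _).mono' (by omega))))
    (fun i hi => ((vanGE_sup hE'U hE'T).restrict V.ι) i (by omega))
  let P' := (ez V.ι).obj Q
  let β' : P' ⟶ E' := ((adjEz V.ι).homEquiv _ _).symm γ
  have hP'U : Van U P' := van_ez V U (hQW.mono (fun x hx => Or.inl hx))
  have hP'T : Van T' P' := van_ez V T' (hQW.mono (fun x hx => Or.inr hx))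
  have hP' : DCoh.IsPerfect P' := isPerfect_of_two hUV (Generator.isPerfect_of_isZero hP'U.isZero)
    (Triangle.isPerfect_of_iso (asIso ((adjEz V.ι).unit.app Q)) hQ)
  have hβ' : Ascent.Good m β' := by
    refine good_of_cover hUV m β' ?_ ?_
    · refine ⟨fun i hi => ⟨0, ?_, ?_⟩, ⟨fun _ _ _ => ?_⟩⟩
      · exact ((DerivedCategory.homologyFunctor _ i).map_isZero hP'U.isZero).eq_of_src _ _
      · exact ((vanGE_iff E').1 hE'U i (by omega)).eq_of_src _ _
      · exact ((vanGE_iff E').1 hE'U m (by omega)).eq_of_src _ _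
    · have hu : (adjEz V.ι).unit.app Q ≫ (DCoh.restrictD V.ι).map β' = γ :=
        (Adjunction.homEquiv_unit ..).symm.trans (Equiv.apply_symm_apply _ _)
      rw [show (DCoh.restrictD V.ι).map β' = inv ((adjEz V.ι).unit.app Q) ≫ γ from
        (IsIso.eq_inv_comp _).2 hu]
      exact (Ascent.Good.of_isIso m _).comp hγ
  obtain ⟨C', g', δ', hT₁⟩ := distinguished_cocone_triangle β'
  obtain ⟨P₀, α₀, c, a', b', c', h13, hmem⟩ := ApproxRing.exists_fibre hT hT₁
  let e : P₀⟦(1 : ℤ)⟧⟦(-1 : ℤ)⟧ ≅ P₀ :=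
    (shiftFunctorCompIsoId (DCoh.D X) (1 : ℤ) (-1) (by omega)).app P₀
  exact ⟨P₀, α₀,
    Triangle.isPerfect_of_iso e (Triangle.isPerfect_shift
      (Triangle.isPerfect₂ hmem (Triangle.isPerfect_shift hR 1) (Triangle.isPerfect_shift hP' 1)) _),
    ((van₂ hmem (hRT.shift 1) (hP'T.shift 1)).shift (-1)).of_iso e,
    (Ascent.good_iff m _ h13).2 ((Ascent.good_iff m _ hT₁).1 hβ')⟩

/-- Approximation by perfect complexes holds on quasi-compact quasi-separated schemes. -/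
theorem exists_approx [CompactSpace X] [QuasiSeparatedSpace X] (T' : X.Opens)
    (hT' : IsCompact (T' : Set X)) : ∃ r, Approx X T' r := by
  suffices ∀ S : X.Opens, IsCompact (S : Set X) → ∀ (Y : Scheme.{u}) (j : Y ⟶ X) [IsOpenImmersion j],
      j.opensRange = S → ∃ r, Approx Y (j ⁻¹ᵁ T') r from
    this ⊤ isCompact_univ X (𝟙 X) (Scheme.Hom.opensRange_of_isIso _)
  intro S hS
  refine compact_open_induction_on (P := fun S : X.Opens => ∀ (Y : Scheme.{u}) (j : Y ⟶ X)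
    [IsOpenImmersion j], j.opensRange = S → ∃ r, Approx Y (j ⁻¹ᵁ T') r) S hS ?_ ?_
  · intro Y j _ hj
    haveI : IsEmpty Y := ⟨fun y => (hj ▸ (⟨y, rfl⟩ : j y ∈ j.opensRange) : j y ∈ (⊥ : X.Opens)).elim⟩
    exact ⟨0, approx_of_isEmpty _⟩
  · intro S hS V ih Y j _ hj
    have hr : (j.opensRange : Set X) = (S : Set X) ∪ (V.1 : Set X) := by
      rw [hj, TopologicalSpace.Opens.coe_sup]
    have hc : ∀ W : X.Opens, W ≤ j.opensRange → IsCompact (W : Set X) →
        IsCompact ((j ⁻¹ᵁ W : Y.Opens) : Set Y) := fun W hW h => by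
      rw [j.isOpenEmbedding.isInducing.isCompact_iff]
      rwa [TopologicalSpace.Opens.map_coe, Set.image_preimage_eq_of_subset hW]
    haveI : CompactSpace Y := ⟨by
      rw [j.isOpenEmbedding.isInducing.isCompact_iff, Set.image_univ, ← Scheme.Hom.coe_opensRange, hr]
      exact hS.union V.2.isCompact⟩
    haveI : QuasiSeparatedSpace Y := QuasiSeparatedSpace.of_isOpenEmbedding j.isOpenEmbedding
    have hS' : S ≤ j.opensRange := hj ▸ le_sup_left
    have hV' : V.1 ≤ j.opensRange := hj ▸ le_sup_right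
    haveI := Restrict.quasiCompact_ι (X := X) (U := j.opensRange) (hr ▸ hS.union V.2.isCompact)
    have hT : IsCompact ((j ⁻¹ᵁ T' : Y.Opens) : Set Y) := by
      have := hc (j.opensRange ⊓ T') inf_le_left ((hr ▸ hS.union V.2.isCompact).inter_of_isOpen hT'
        j.opensRange.2 T'.2)
      simpa using this
    obtain ⟨r, hr'⟩ := ih (j ⁻¹ᵁ S : Y.Opens) ((j ⁻¹ᵁ S).ι ≫ j) (by
      rw [Scheme.Hom.opensRange_comp, Scheme.Opens.opensRange_ι,
        Scheme.Hom.image_preimage_eq_opensRange_inf, inf_eq_right.2 hS'])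
    haveI := Restrict.quasiCompact_ι (X := Y) (U := j ⁻¹ᵁ V.1) (hc _ hV' V.2.isCompact)
    refine approx_sup (U := j ⁻¹ᵁ S) (V := j ⁻¹ᵁ V.1) ?_ (hc S hS' hS)
      (V.2.preimage_of_isOpenImmersion j hV') _ ((j ⁻¹ᵁ V.1).ι.isCompact_preimage (hc S hS' hS))
      ((j ⁻¹ᵁ V.1).ι.isCompact_preimage hT) hr'
    ext y
    have : j y ∈ S ⊔ V.1 := hj ▸ ⟨y, rfl⟩
    simpa using this

end Groth.Agent.Lib.Gen43.Approx
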