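import Groth.Agent.Lib.KoszulOrth36.Sheaf
import Groth.Agent.Lib.DR.Perfect
import Groth.Agent.Lib.DMod.Cones
import Mathlib.RingTheory.Finiteness.Projective
import Mathlib.Algebra.Category.ModuleCat.Biproducts

/-!
# Perfect complexes of modules: induction, and factoring through torsion perfect complexes
-/

set_option autoImplicit false
set_option linter.style.haveILetI false
set_option linter.unusedSectionVars false

universe u

open CategoryTheory Limits Pretriangulated
open Groth.Agent.Lib.DR.FiniteComplex Groth.Agent.Lib.DR.PseudoCoherent Groth.Agent.Lib.DR.Perfect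

attribute [local instance] HasDerivedCategory.standard

namespace Groth.Agent.Lib.Gen43.Ring

variable {A : Type u} [CommRing A]

/-- `single n`. -/
noncomputable abbrev sg (n : ℤ) : ModuleCat.{u} A ⥤ Dual.D A :=
  DerivedCategory.singleFunctor (ModuleCat.{u} A) n

/-- A class closed under extensions and retracts containing the translates of `A` contains all
perfect complexes. -/
theorem pf_induction (C : ObjectProperty (Dual.D A))
    (hzero : ∀ K : Dual.D A, IsZero K → C K)
    (hretr : ∀ K L : Dual.D A, Retract K L → C L → C K)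
    (hext : ∀ T : Triangle (Dual.D A), T ∈ distTriang (Dual.D A) → C T.obj₁ → C T.obj₃ → C T.obj₂)
    (h1 : ∀ n : ℤ, C ((sg n).obj (ModuleCat.of A A)))
    {K : Dual.D A} (hK : Pf K) : C K := by
  have hiso : ∀ {P Q : Dual.D A}, (P ≅ Q) → C P → C Q :=
    fun e h => hretr _ _ ⟨e.inv, e.hom, e.inv_hom_id⟩ h
  have hfree : ∀ (k : ℕ) (n : ℤ), C ((sg n).obj (ModuleCat.of A (Fin k → A))) := by
    intro k
    induction k with
    | zero => exact fun n => hzero _ ((sg n).map_isZero
        (ModuleCat.isZero_of_subsingleton _))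
    | succ k ih =>
      intro n
      haveI := preservesBinaryBiproducts_of_preservesBiproducts (sg (A := A) n)
      let e : ModuleCat.of A (Fin (k + 1) → A) ≅
          ModuleCat.of A A ⊞ ModuleCat.of A (Fin k → A) :=
        (Fin.consLinearEquiv A (fun _ : Fin (k + 1) => A)).symm.toModuleIso ≪≫
          (ModuleCat.biprodIsoProd (ModuleCat.of A A) (ModuleCat.of A (Fin k → A))).symm
      exact hiso ((sg n).mapIso e ≪≫ (sg n).mapBiprod _ _).symm
        (hext _ (binaryBiproductTriangle_distinguished _ _) (h1 n) (ih n))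
  have hproj : ∀ (M : ModuleCat.{u} A) (n : ℤ), fproj A M → C ((sg n).obj M) := by
    intro M n hM
    haveI := hM.1
    haveI := hM.2
    obtain ⟨k, f, g, -, -, hfg⟩ := Module.Finite.exists_comp_eq_id_of_projective A M
    refine hretr _ _ (Retract.map (X := M) (Y := ModuleCat.of A (Fin k → A))
      ⟨ModuleCat.ofHom g, ModuleCat.ofHom f, ?_⟩ (sg n)) (hfree k n)
    exact ModuleCat.hom_ext hfg
  have hcx : ∀ (k : ℕ) (a : ℤ) (E : CochainComplex (ModuleCat.{u} A) ℤ),
      (∀ i, i < a ∨ a + k ≤ i → IsZero (E.X i)) → (∀ i, fproj A (E.X i)) →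
      C (DerivedCategory.Q.obj E) := by
    intro k
    induction k with
    | zero =>
      intro a E hE _
      refine hzero _ (DerivedCategory.Q.map_isZero ?_)
      rw [IsZero.iff_id_eq_zero]
      ext i : 1
      exact (hE i (by omega)).eq_of_src _ _
    | succ k ih =>
      intro a E hE hp
      obtain ⟨S, φ, hz, hSp, hSz, hφ, -⟩ := exists_stupidTrunc good_fproj E (a + 1) hp
      haveI : ∀ i, Mono (φ.f i) := fun i => by
        by_cases h : a + 1 ≤ i
        · haveI := hφ i h; infer_instance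
        · exact ⟨fun _ _ _ => (hz i (by omega)).eq_of_tgt _ _⟩
      haveI : Mono φ := HomologicalComplex.mono_of_mono_f φ inferInstance
      let S' := ShortComplex.mk φ (cokernel.π φ) (cokernel.condition φ)
      have hS : S'.ShortExact :=
        { exact := ShortComplex.exact_of_g_is_cokernel _ (cokernelIsCokernel φ) }
      have hev : ∀ i, (S'.map (HomologicalComplex.eval _ (.up ℤ) i)).ShortExact := fun i =>
        hS.map_of_exact _
      have hY : ∀ i, i ≠ a → IsZero ((cokernel φ).X i) := fun i hi => by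
        by_cases h : a + 1 ≤ i
        · haveI := hφ i h
          haveI : Epi ((cokernel.π φ).f i) := (hev i).epi_g
          refine IsZero.of_epi_eq_zero ((cokernel.π φ).f i) (zero_of_epi_comp (φ.f i) ?_)
          rw [← HomologicalComplex.comp_f, cokernel.condition]; rfl
        · haveI : Epi ((cokernel.π φ).f i) := (hev i).epi_g
          exact IsZero.of_epi ((cokernel.π φ).f i) (hE i (by omega))
      haveI : (cokernel φ).IsStrictlyGE a :=
        (CochainComplex.isStrictlyGE_iff _ a).2 fun i hi => hY i (by omega)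
      haveI : (cokernel φ).IsStrictlyLE a :=
        (CochainComplex.isStrictlyLE_iff _ a).2 fun i hi => hY i (by omega)
      haveI : Mono ((cokernel.π φ).f a) := (hev a).exact.mono_g ((hz a (by omega)).eq_of_src _ _)
      haveI : Epi ((cokernel.π φ).f a) := (hev a).epi_g
      haveI := isIso_of_mono_of_epi ((cokernel.π φ).f a)
      have hMa : fproj A ((cokernel φ).X a) :=
        good_fproj.iso (asIso ((cokernel.π φ).f a)) (hp a)
      obtain ⟨M, ⟨e⟩⟩ := CochainComplex.exists_iso_single (cokernel φ) a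
      have hM : fproj A M := good_fproj.iso
        ((HomologicalComplex.eval _ (.up ℤ) a).mapIso e ≪≫
          HomologicalComplex.singleObjXSelf (.up ℤ) a M) hMa
      refine hext _ (DerivedCategory.triangleOfSES_distinguished hS) (ih (a + 1) S (fun i hi => ?_) hSp) ?_
      · rcases hi with hi | hi
        · exact hz i hi
        · exact hSz i (hE i (Or.inr (by push_cast; omega)))
      · exact hiso ((DerivedCategory.singleFunctorIsoCompQ _ a).app M ≪≫
          DerivedCategory.Q.mapIso e.symm) (hproj M a hM)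
  obtain ⟨a, b, E, hE, hp, ⟨e⟩⟩ := hK
  exact hiso e (hcx ((b - a + 1).toNat) a E (fun i hi => hE i (by omega)) hp)

/-- Every element of every cohomology module is killed by a power of `f`. -/
def Tors (f : A) (C : Dual.D A) : Prop := ∀ (i : ℤ) (m : Dual.HD A C i), ∃ k : ℕ, f ^ k • m = 0

/-- A power of `f` kills the identity. -/
def Nil (f : A) (C : Dual.D A) : Prop := ∃ p : ℕ, f ^ p • 𝟙 C = 0

lemma Nil.tors {f : A} {C : Dual.D A} : Nil f C → Tors f C := fun ⟨p, hp⟩ i m =>
  ⟨p, by rw [← DMod.Cones.mapHD_smul_id C (f ^ p) i m, hp]; simp [DMod.Basic.mapHD]⟩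

/-- A map from a perfect complex to a torsion one is killed by a power. -/
theorem exists_pow_smul_eq_zero {f : A} {C : Dual.D A} (hC : Tors f C) {E : Dual.D A} (hE : Pf E) :
    ∀ φ : E ⟶ C, ∃ k : ℕ, f ^ k • φ = 0 := by
  refine pf_induction (fun E => ∀ φ : E ⟶ C, ∃ k : ℕ, f ^ k • φ = 0) ?_ ?_ ?_ ?_ hE
  · exact fun K hK φ => ⟨0, hK.eq_of_src _ _⟩
  · intro K L r h φ
    obtain ⟨k, hk⟩ := h (r.r ≫ φ)
    refine ⟨k, ?_⟩
    rw [← Category.id_comp (f ^ k • φ), ← r.retract, Category.assoc, Linear.comp_smul, hk, comp_zero]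
  · intro T hT h₁ h₃ φ
    obtain ⟨k, hk⟩ := h₁ (T.mor₁ ≫ φ)
    rw [← Linear.comp_smul] at hk
    obtain ⟨ψ, hψ⟩ := Triangle.yoneda_exact₂ T hT _ hk
    obtain ⟨j, hj⟩ := h₃ ψ
    refine ⟨j + k, ?_⟩
    rw [pow_add, mul_smul, hψ, ← Linear.comp_smul, hj, comp_zero]
  · intro n φ
    let e : (KoszulOrth36.Algebra.X ([] : List A))⟦-n⟧ ≅ (sg n).obj (ModuleCat.of A A) :=
      (shiftFunctor _ (-n)).mapIso KoszulOrth36.Algebra.nilIso ≪≫
        ((DerivedCategory.singleFunctors _).shiftIso (-n) n 0 (by omega)).app _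
    obtain ⟨k, hk⟩ := KoszulOrth36.Algebra.exists_pow_smul_hom C f hC [] (-n) (e.hom ≫ φ)
    refine ⟨k, (cancel_epi e.hom).1 ?_⟩
    rw [Linear.comp_smul, hk, comp_zero]

/-- Nilpotence passes to cones. -/
theorem Nil.cone {f : A} {T : Triangle (Dual.D A)} (hT : T ∈ distTriang (Dual.D A))
    (h₁ : Nil f T.obj₁) (h₂ : Nil f T.obj₂) : Nil f T.obj₃ := by
  obtain ⟨p, hp⟩ := h₁
  obtain ⟨q, hq⟩ := h₂
  have h0 : (f ^ p • 𝟙 T.obj₃) ≫ T.mor₃ = 0 := by
    rw [Linear.smul_comp, Category.id_comp, ← Category.comp_id T.mor₃, ← Linear.comp_smul,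
      ← CategoryTheory.Functor.map_id, ← Functor.map_smul, hp, Functor.map_zero, comp_zero]
  obtain ⟨w, hw⟩ := Triangle.coyoneda_exact₃ T hT _ h0
  refine ⟨q + p, ?_⟩
  rw [pow_add, mul_smul, hw, ← Linear.comp_smul, show f ^ q • T.mor₂ = (f ^ q • 𝟙 _) ≫ T.mor₂ by
    rw [Linear.smul_comp, Category.id_comp], hq, zero_comp, comp_zero]

/-- The cone of a power of `f` is nilpotent. -/
theorem nil_cone_pow {f : A} {k : ℕ} {E Q : Dual.D A} {g : E ⟶ Q} {h : Q ⟶ E⟦(1 : ℤ)⟧}
    (hT : Triangle.mk (f ^ k • 𝟙 E) g h ∈ distTriang (Dual.D A)) : Nil f Q := by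
  have h1 : (f ^ k • 𝟙 E)⟦(1 : ℤ)⟧' = f ^ k • 𝟙 (E⟦(1 : ℤ)⟧) := by
    rw [Functor.map_smul, CategoryTheory.Functor.map_id]
  have h31 : h ≫ (f ^ k • 𝟙 E)⟦(1 : ℤ)⟧' = 0 := comp_distTriang_mor_zero₃₁ _ hT
  have h12 : (f ^ k • 𝟙 E) ≫ g = 0 := comp_distTriang_mor_zero₁₂ _ hT
  rw [h1, Linear.comp_smul, Category.comp_id] at h31
  rw [Linear.smul_comp, Category.id_comp] at h12
  obtain ⟨(w : Q ⟶ E), (hw : f ^ k • 𝟙 Q = w ≫ g)⟩ := Triangle.coyoneda_exact₃ _ hT (f ^ k • 𝟙 Q)
    (by show (f ^ k • 𝟙 Q) ≫ h = 0; rw [Linear.smul_comp, Category.id_comp, h31])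
  refine ⟨k + k, ?_⟩
  rw [pow_add, mul_smul, hw, ← Linear.comp_smul, h12, comp_zero]

/-- A map from a perfect complex to a complex torsion for a list of elements factors through a
perfect complex which is nilpotent for the list, obtained by iterated cones of endomorphisms. -/
theorem exists_factor (P : ObjectProperty (Dual.D A))
    (hP : ∀ T : Triangle (Dual.D A), T ∈ distTriang (Dual.D A) → P T.obj₁ → P T.obj₂ → P T.obj₃)
    {C : Dual.D A} : ∀ (l : List A), (∀ f ∈ l, Tors f C) → ∀ (E : Dual.D A), Pf E → ∀ φ : E ⟶ C,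
    ∃ (Q : Dual.D A) (a : E ⟶ Q) (b : Q ⟶ C), a ≫ b = φ ∧ Pf Q ∧ (∀ f ∈ l, Nil f Q) ∧
      (∀ f : A, Nil f E → Nil f Q) ∧ (P E → P Q) := by
  intro l
  induction l with
  | nil =>
    exact fun _ E hE φ => ⟨E, 𝟙 E, φ, Category.id_comp _, hE, fun f hf => absurd hf (by simp),
      fun _ h => h, fun h => h⟩
  | cons f l ih =>
    intro htor E hE φ
    obtain ⟨k, hk⟩ := exists_pow_smul_eq_zero (htor f List.mem_cons_self) hE φ
    obtain ⟨Q₁, g, h, hT⟩ := distinguished_cocone_triangle (f ^ k • 𝟙 E)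
    obtain ⟨(b₁ : Q₁ ⟶ C), (hb₁ : φ = g ≫ b₁)⟩ := Triangle.yoneda_exact₂ _ hT φ (by
      show (f ^ k • 𝟙 E) ≫ φ = 0
      rw [Linear.smul_comp, Category.id_comp, hk])
    have hQ₁ : Pf Q₁ := pf₃ _ hT hE hE
    obtain ⟨Q, a, b, hab, hQ, hl, hpres, hPQ⟩ :=
      ih (fun f' hf' => htor f' (List.mem_cons_of_mem f hf')) Q₁ hQ₁ b₁
    refine ⟨Q, g ≫ a, b, by rw [Category.assoc, hab, ← hb₁], hQ, fun f' hf' => ?_,
      fun f' hf' => hpres f' (Nil.cone hT hf' hf'), fun hp => hPQ (hP _ hT hp hp)⟩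
    rcases List.mem_cons.1 hf' with rfl | hf'
    · exact hpres f' (nil_cone_pow hT)
    · exact hl f' hf'

/-- Koszul complexes are perfect. -/
theorem pf_koszul : ∀ l : List A, Pf (KoszulOrth36.Algebra.X l) := by
  intro l
  induction l with
  | nil =>
    exact (Pf.of_iso (K := (sg 0).obj (ModuleCat.of A A))
      ⟨0, 0, DR.PseudoCoherent.bdd_single_fproj (ModuleCat.of A A) 0⟩
      KoszulOrth36.Algebra.nilIso.symm)
  | cons f l ih =>
    obtain ⟨g, h, hT⟩ := KoszulOrth36.Algebra.exists_triangle f l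
    exact pf₃ _ hT ih ih

end Groth.Agent.Lib.Gen43.Ring
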