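import Groth.Agent.Lib.Gen43.Restrict
import Groth.Agent.Lib.Gen43.Ring
import Groth.Agent.Lib.DerivedOX.TildeEquiv

/-!
# Affine schemes: induction on perfect objects, factoring, Koszul generators
-/

set_option autoImplicit false
set_option linter.style.haveILetI false
set_option linter.unusedSectionVars false

universe u

open CategoryTheory Limits AlgebraicGeometry Pretriangulated

attribute [local instance] HasDerivedCategory.standard

namespace Groth.Agent.Lib.Gen43.Affine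

open Groth.Agent.Lib.Gen43.Restrict Groth.Agent.Lib.Gen43.Ring
open Groth.Agent.Lib.DerivedOX Groth.Agent.Lib.DR.Perfect
open Groth.Agent.Lib.KoszulOrth36 (Sheaf.U)

section Spec

variable (A : Type u) [CommRing A]

/-- `Spec A`. -/
noncomputable abbrev S : Scheme.{u} := Spec (CommRingCat.of A)

instance : PreservesFiniteLimits (tilde.functor (CommRingCat.of A)) :=
  QCoh.Tilde.tildeFunctor_preservesFiniteLimits ..

/-- `(A)~[n]` as a translate of `𝒪`. -/
noncomputable def sgIso' (R : CommRingCat.{u}) [PreservesFiniteLimits (tilde.functor R)] (n : ℤ) :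
    (DCoh.tildeD R).obj ((DerivedCategory.singleFunctor (ModuleCat.{u} R) n).obj (ModuleCat.of R R)) ≅
      (DerivedCategory.singleFunctor (Spec (CommRingCat.of R)).Modules n).obj
        (SheafOfModules.unit (Spec (CommRingCat.of R)).ringCatSheaf) :=
  (((tilde.functor R).mapDerivedCategorySingleFunctor n).app _) ≪≫
    (DerivedCategory.singleFunctor _ n).mapIso (tildeSelf (R := R))

/-- The tilde functor on derived categories. -/
noncomputable abbrev T : Dual.D A ⥤ DCoh.D (S A) := DCoh.tildeD (CommRingCat.of A)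

variable {A}

lemma exists_pf {E : DCoh.D (S A)} (hE : DCoh.IsPerfect E) :
    ∃ E₀ : Dual.D A, Pf E₀ ∧ Nonempty ((T A).obj E₀ ≅ E) := by
  obtain ⟨E₀, ⟨e⟩⟩ := TildeEquiv.exists_preimage (CommRingCat.of A) E
    (Perfect.QCohD.isQCohD_of_isPerfect hE)
  exact ⟨E₀, Perfect.TildeD.pf_of_perfAt (Perfect.Triangle.isPerfect_of_iso e.symm hE), ⟨e⟩⟩

lemma isPerfect_T {E₀ : Dual.D A} (h : Pf E₀) : DCoh.IsPerfect ((T A).obj E₀) :=
  Perfect.TildeD.isPerfect_of_pf h

lemma van_U_of_nil {fs : List A} {Q : Dual.D A} (h : ∀ f ∈ fs, Nil f Q) :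
    Van (Sheaf.U A fs) ((T A).obj Q) := by
  refine van_of_isZero (OpenSupport.isZero_of_homology _ fun i => IsZero.of_iso ?_
    (Perfect.Coherent.homologyIso (Sheaf.U A fs).ι _ i ≪≫
      (Scheme.Modules.restrictFunctor (Sheaf.U A fs).ι).mapIso
        (KoszulOrth36.Sheaf.HI (CommRingCat.of A) Q i)))
  exact (KoszulOrth36.Sheaf.isZero_restrict_iff A fs _).2 fun f hf => (h f hf).tors i

lemma exists_list (W : (S A).Opens) (hW : IsCompact (W : Set (S A))) :
    ∃ fs : List A, Sheaf.U A fs = W := by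
  obtain ⟨t, ht⟩ := (PrimeSpectrum.isCompact_isOpen_iff (R := A) (s := W.carrier)).1 ⟨hW, W.2⟩
  refine ⟨t.toList, TopologicalSpace.Opens.ext ?_⟩
  change (PrimeSpectrum.zeroLocus (R := A) _)ᶜ = W.carrier
  rw [PrimeSpectrum.zeroLocus_span, ← ht]
  congr 2
  ext; simp

theorem spec_factor (W : (S A).Opens) (hW : IsCompact (W : Set (S A))) {E Y : DCoh.D (S A)}
    (hE : DCoh.IsPerfect E) (hY : DCoh.IsQCohD Y) (hYW : Van W Y) (φ : E ⟶ Y) :
    ∃ (Q : DCoh.D (S A)) (a : E ⟶ Q) (b : Q ⟶ Y), a ≫ b = φ ∧ DCoh.IsPerfect Q ∧ Van W Q ∧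
      ∀ V : (S A).Opens, Van V E → Van V Q := by
  obtain ⟨fs, rfl⟩ := exists_list W hW
  obtain ⟨E₀, hE₀, ⟨eE⟩⟩ := exists_pf hE
  obtain ⟨C, ⟨eY⟩⟩ := TildeEquiv.exists_preimage (CommRingCat.of A) Y hY
  have htor := KoszulOrth36.Sheaf.tors_of_isZero_restrict A fs C (hYW.of_iso eY.symm).isZero
  haveI := TildeEquiv.full (CommRingCat.of A)
  obtain ⟨φ₀, hφ₀⟩ := (T A).map_surjective (eE.hom ≫ φ ≫ eY.inv)
  obtain ⟨Q, a, b, hab, hQ, hnil, -, hvan⟩ := exists_factor
    (fun M => ∀ V : (S A).Opens, Van V ((T A).obj E₀) → Van V ((T A).obj M))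
    (fun T' hT' h₁ h₂ V hV => van₃ ((T A).map_distinguished _ hT') (h₁ V hV) (h₂ V hV))
    fs (fun f hf => htor f hf) E₀ hE₀ φ₀
  refine ⟨(T A).obj Q, eE.inv ≫ (T A).map a, (T A).map b ≫ eY.hom, ?_, isPerfect_T hQ,
    van_U_of_nil hnil, fun V hV => hvan (fun _ h => h) V (hV.of_iso eE.symm)⟩
  rw [Category.assoc, ← Functor.map_comp_assoc, hab, hφ₀]
  simp

theorem spec_gen (W : (S A).Opens) (hW : IsCompact (W : Set (S A))) :
    ∃ K : DCoh.D (S A), DCoh.IsPerfect K ∧ Van W K ∧ ∀ E : DCoh.D (S A), DCoh.IsQCohD E → Van W E →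
      (∀ (n : ℤ) (φ : K⟦n⟧ ⟶ E), φ = 0) → IsZero E := by
  obtain ⟨fs, rfl⟩ := exists_list W hW
  refine ⟨(T A).obj (KoszulOrth36.Algebra.X fs), isPerfect_T (pf_koszul fs),
    van_of_isZero (KoszulOrth36.Sheaf.isZero_restrict_koszul A fs), fun E hE hEW h => ?_⟩
  obtain ⟨C, ⟨eE⟩⟩ := TildeEquiv.exists_preimage (CommRingCat.of A) E hE
  have htor := KoszulOrth36.Sheaf.tors_of_isZero_restrict A fs C (hEW.of_iso eE.symm).isZero
  haveI := TildeEquiv.faithful (CommRingCat.of A)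
  refine IsZero.of_iso (OpenSupport.isZero_of_homology _ fun n => ?_) eE.symm
  have h1 : Subsingleton ((KoszulOrth36.Algebra.X fs)⟦-n⟧ ⟶ C) :=
    subsingleton_of_forall_eq 0 fun φ => (T A).map_injective (by
      have := h (-n) (((T A).commShiftIso (-n)).inv.app _ ≫ (T A).map φ ≫ eE.hom)
      rw [Functor.map_zero]
      exact (cancel_mono eE.hom).1 ((cancel_epi (((T A).commShiftIso (-n)).inv.app _)).1
        (by simpa using this)))
  have h2 := KoszulOrth36.Algebra.subsingleton_HD C n fs htor h1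
  exact IsZero.of_iso (Functor.map_isZero _ (ModuleCat.isZero_iff_subsingleton.2 h2))
    (KoszulOrth36.Sheaf.HI (CommRingCat.of A) C n)

theorem spec_induction (C : ObjectProperty (DCoh.D (S A)))
    (hzero : ∀ K, IsZero K → C K)
    (hretr : ∀ K L : DCoh.D (S A), Retract K L → C L → C K)
    (hext : ∀ T' : Triangle (DCoh.D (S A)), T' ∈ distTriang _ → C T'.obj₁ → C T'.obj₃ → C T'.obj₂)
    (h1 : ∀ n : ℤ, C ((CompactUnit.oneD (S A))⟦n⟧)) {K : DCoh.D (S A)} (hK : DCoh.IsPerfect K) :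
    C K := by
  have hiso : ∀ {P Q : DCoh.D (S A)}, (P ≅ Q) → C P → C Q :=
    fun e h => hretr _ _ ⟨e.inv, e.hom, e.inv_hom_id⟩ h
  obtain ⟨K₀, hK₀, ⟨e⟩⟩ := exists_pf hK
  refine hiso e (pf_induction (fun M => C ((T A).obj M)) (fun M hM => hzero _ ((T A).map_isZero hM))
    (fun M N r h => hretr _ _ (r.map (T A)) h)
    (fun T' hT' h₁ h₃ => hext _ ((T A).map_distinguished _ hT') h₁ h₃) (fun n => ?_) hK₀)
  refine hiso ?_ (h1 (-n))
  exact ((DerivedCategory.singleFunctors _).shiftIso (-n) n 0 (by omega)).app _ ≪≫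
    (sgIso' (CommRingCat.of A) n).symm

lemma isPerfect_oneD_spec : DCoh.IsPerfect (CompactUnit.oneD (S A)) :=
  Perfect.Triangle.isPerfect_of_iso
    (sgIso' (CommRingCat.of A) 0)
    (isPerfect_T (E₀ := (sg 0).obj (ModuleCat.of A A))
      ⟨0, 0, DR.PseudoCoherent.bdd_single_fproj (ModuleCat.of A A) 0⟩)

end Spec

section General

variable {X : Scheme.{u}} [IsAffine X]

/-- The identification with `Spec Γ`. -/
noncomputable abbrev spec (X : Scheme.{u}) [IsAffine X] : S Γ(X, ⊤) ⟶ X := X.isoSpec.inv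

/-- Restriction to `Spec Γ`. -/
noncomputable abbrev Φ (X : Scheme.{u}) [IsAffine X] : DCoh.D X ⥤ DCoh.D (S Γ(X, ⊤)) :=
  DCoh.restrictD (spec X)

lemma isPerfect_Φ_iff (K : DCoh.D X) : DCoh.IsPerfect ((Φ X).obj K) ↔ DCoh.IsPerfect K :=
  ⟨fun h => isPerfect_of_cover fun x => ⟨_, spec X, inferInstance, X.isoSpec.hom x,
    by rw [← Scheme.Hom.comp_apply, Iso.hom_inv_id]; rfl, h⟩, isPerfect_restrict _⟩

lemma isCompact_preimage (W : X.Opens) (hW : IsCompact (W : Set X)) :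
    IsCompact ((spec X ⁻¹ᵁ W : (S Γ(X, ⊤)).Opens) : Set (S Γ(X, ⊤))) :=
  (Scheme.homeoOfIso X.isoSpec.symm).isCompact_preimage.2 hW

lemma van_Φ_iff (W : X.Opens) (K : DCoh.D X) :
    Van (spec X ⁻¹ᵁ W) ((Φ X).obj K) ↔ Van W K := by
  rw [van_restrict_iff, Scheme.Hom.image_preimage_eq_opensRange_inf,
    Scheme.Hom.opensRange_of_isIso, top_inf_eq]

variable {W : X.Opens}

/-- A map from a perfect object to one vanishing on `W` factors through a perfect such object. -/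
theorem exists_factor (hW : IsCompact (W : Set X)) {E Y : DCoh.D X} (hE : DCoh.IsPerfect E)
    (hY : DCoh.IsQCohD Y) (hYW : Van W Y) (φ : E ⟶ Y) :
    ∃ (Q : DCoh.D X) (a : E ⟶ Q) (b : Q ⟶ Y), a ≫ b = φ ∧ DCoh.IsPerfect Q ∧ Van W Q ∧
      ∀ V : X.Opens, Van V E → Van V Q := by
  obtain ⟨Q, a, b, hab, hQ, hQW, hV⟩ := spec_factor (spec X ⁻¹ᵁ W) (isCompact_preimage W hW)
    ((isPerfect_Φ_iff E).2 hE) (CompactUnit.isQCohD_restrictD _ hY) ((van_Φ_iff W Y).2 hYW)
    ((Φ X).map φ)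
  let e := (Φ X).objObjPreimageIso Q
  refine ⟨(Φ X).objPreimage Q, (Φ X).preimage (a ≫ e.inv), (Φ X).preimage (e.hom ≫ b),
    (Φ X).map_injective (by simp [hab]), (isPerfect_Φ_iff _).1
      (Perfect.Triangle.isPerfect_of_iso e.symm hQ), (van_Φ_iff W _).1 (hQW.of_iso e.symm),
    fun V h => (van_Φ_iff V _).1 ((hV _ ((van_Φ_iff V E).2 h)).of_iso e.symm)⟩

/-- A perfect object supported off `W` detecting the objects supported off `W`. -/
theorem exists_gen (hW : IsCompact (W : Set X)) :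
    ∃ K : DCoh.D X, DCoh.IsPerfect K ∧ Van W K ∧ ∀ E : DCoh.D X, DCoh.IsQCohD E → Van W E →
      (∀ (n : ℤ) (φ : K⟦n⟧ ⟶ E), φ = 0) → IsZero E := by
  obtain ⟨K, hK, hKW, hgen⟩ := spec_gen (spec X ⁻¹ᵁ W) (isCompact_preimage W hW)
  let e := (Φ X).objObjPreimageIso K
  refine ⟨(Φ X).objPreimage K, (isPerfect_Φ_iff _).1 (Perfect.Triangle.isPerfect_of_iso e.symm hK),
    (van_Φ_iff W _).1 (hKW.of_iso e.symm), fun E hE hEW h => ?_⟩
  have h0 := hgen ((Φ X).obj E) (CompactUnit.isQCohD_restrictD _ hE) ((van_Φ_iff W E).2 hEW)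
    fun n φ => by
      obtain ⟨ψ, hψ⟩ := (Φ X).map_surjective
        (((Φ X).commShiftIso n).hom.app _ ≫ e.hom⟦n⟧' ≫ φ)
      rw [h n ψ, Functor.map_zero] at hψ
      exact (cancel_epi (((Φ X).commShiftIso n).hom.app _ ≫ e.hom⟦n⟧')).1
        (by rw [Category.assoc, ← hψ, comp_zero])
  rw [IsZero.iff_id_eq_zero] at h0 ⊢
  exact (Φ X).map_injective (by rw [CategoryTheory.Functor.map_id, h0, Functor.map_zero])

/-- Perfect objects are built from translates of `𝒪`. -/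
theorem perfect_induction (C : ObjectProperty (DCoh.D X))
    (hzero : ∀ K, IsZero K → C K)
    (hretr : ∀ K L : DCoh.D X, Retract K L → C L → C K)
    (hext : ∀ T' : Triangle (DCoh.D X), T' ∈ distTriang _ → C T'.obj₁ → C T'.obj₃ → C T'.obj₂)
    (h1 : ∀ n : ℤ, C ((CompactUnit.oneD X)⟦n⟧)) {K : DCoh.D X} (hK : DCoh.IsPerfect K) : C K := by
  let Ψ := DCoh.restrictD X.isoSpec.hom
  have hiso : ∀ {P Q : DCoh.D X}, (P ≅ Q) → C P → C Q :=
    fun e h => hretr _ _ ⟨e.inv, e.hom, e.inv_hom_id⟩ h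
  refine hiso ((compIso' X.isoSpec.hom (spec X) X.isoSpec.hom_inv_id).app K ≪≫ (idIso X).app K)
    (spec_induction (fun M => C (Ψ.obj M)) (fun M h => hzero _ (Ψ.map_isZero h))
      (fun M N r h => hretr _ _ (r.map Ψ) h)
      (fun T' hT' h₁ h₃ => hext _ (Ψ.map_distinguished _ hT') h₁ h₃) (fun n => ?_)
      ((isPerfect_Φ_iff K).2 hK))
  exact hiso ((shiftFunctor _ n).mapIso (CompactUnit.restrictOneIso X.isoSpec.hom).symm ≪≫
    ((Ψ.commShiftIso n).app _).symm) (h1 n)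

lemma isPerfect_oneD (X : Scheme.{u}) [IsAffine X] : DCoh.IsPerfect (CompactUnit.oneD X) :=
  (isPerfect_Φ_iff _).1
    (Perfect.Triangle.isPerfect_of_iso (CompactUnit.restrictOneIso (spec X)).symm isPerfect_oneD_spec)

end General

lemma isPerfect_oneD' (X : Scheme.{u}) : DCoh.IsPerfect (CompactUnit.oneD X) :=
  isPerfect_of_cover fun x => by
    obtain ⟨V, hV, hxV, -⟩ := exists_isAffineOpen_mem_and_subset (X := X) (x := x) (U := ⊤) trivial
    haveI : IsAffine (V : Scheme.{u}) := hV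
    exact ⟨_, V.ι, inferInstance, ⟨x, hxV⟩, rfl,
      Perfect.Triangle.isPerfect_of_iso (CompactUnit.restrictOneIso V.ι).symm (isPerfect_oneD _)⟩

end Groth.Agent.Lib.Gen43.Affine
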