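import Groth.Agent.Lib.Gen43.Extend
import Groth.Agent.Lib.DerCat.Tri

/-!
# Gluing by extension by zero, and lifting perfect objects on quasi-compact quasi-separated schemes
-/

set_option autoImplicit false
set_option linter.style.haveILetI false
set_option linter.unusedSectionVars false

universe u

open CategoryTheory Limits AlgebraicGeometry Pretriangulated

attribute [local instance] HasDerivedCategory.standard

namespace Groth.Agent.Lib.Gen43.Glue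

open Groth.Agent.Lib.Gen43.Restrict Groth.Agent.Lib.DerivedOX

variable {X U V : Scheme.{u}}

instance preservesFiniteColimits_extZero (j : U ⟶ X) [IsOpenImmersion j] :
    PreservesFiniteColimits (CxOX.extZero j) :=
  haveI : PreservesColimitsOfSize.{0, 0} (CxOX.extZero j) :=
    (CxOX.extZeroAdj j).leftAdjoint_preservesColimits
  PreservesColimitsOfSize.preservesFiniteColimits _

/-- `j_!` on derived categories. -/
noncomputable abbrev ez (j : U ⟶ X) [IsOpenImmersion j] : DCoh.D U ⥤ DCoh.D X := CxOX.extZeroD j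

/-- `j_! ⊣ j^*`. -/
noncomputable abbrev adjEz (j : U ⟶ X) [IsOpenImmersion j] : ez j ⊣ DCoh.restrictD j :=
  RestrictRpush.derivedAdjExact (CxOX.extZeroAdj j)

instance isIso_unit (j : U ⟶ X) [IsOpenImmersion j] : IsIso (adjEz j).unit := by
  haveI := Exists.hasRpush j
  exact (Adjunction.Triple.mk (adjEz j) (OpenImm.restrictPushAdj j)).isIso_unit_iff_isIso_counit.2
    (OpenImm.isIso_restrictPushAdj_counit j)

lemma isIso_restrict_counit (j : U ⟶ X) [IsOpenImmersion j] (K : DCoh.D X) :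
    IsIso ((DCoh.restrictD j).map ((adjEz j).counit.app K)) :=
  IsIso.of_isIso_fac_left ((adjEz j).right_triangle_components K)

/-- Objects extended by zero from `U` are, on `V`, extended by zero from `U ∩ V`. -/
theorem isIso_counit_of_ez (j : U ⟶ X) [IsOpenImmersion j] (V : X.Opens) (P : DCoh.D U) :
    IsIso ((adjEz (V.ι ⁻¹ᵁ j.opensRange).ι).counit.app ((DCoh.restrictD V.ι).obj ((ez j).obj P))) := by
  haveI := Exists.hasRpush V.ι
  let N := (DCoh.restrictD V.ι).obj ((ez j).obj P)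
  let k := (V.ι ⁻¹ᵁ j.opensRange).ι
  let ε := (adjEz k).counit.app N
  obtain ⟨C, g, δ, hT⟩ := distinguished_cocone_triangle ε
  have hC : Van (V.ι ⁻¹ᵁ j.opensRange) C := (isIso_restrict_iff hT).1 (isIso_restrict_counit k N)
  have hN : ∀ (G : DCoh.D (V : Scheme.{u})), Van (V.ι ⁻¹ᵁ j.opensRange) G → ∀ f : N ⟶ G, f = 0 := by
    intro G hG f
    have hz : IsZero ((DCoh.restrictD j).obj ((DCoh.Rpush V.ι).obj G)) :=
      (isZero_restrictD_iff_van j _).2 (Extend.van_push V _ hG)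
    apply ((OpenImm.restrictPushAdj V.ι).homEquiv _ _).injective
    apply ((adjEz j).homEquiv _ _).injective
    exact hz.eq_of_tgt _ _
  have hg : g = 0 := hN C hC g
  have hK : ∀ f : (((ez k).obj ((DCoh.restrictD k).obj N)))⟦(1 : ℤ)⟧ ⟶ C, f = 0 :=
    (DerCat.Tri.hom_shift_left_eq_zero_iff _ _ _).2 fun f =>
      ((adjEz k).homEquiv _ _).injective ((hC.shift (-1)).isZero.eq_of_tgt _ _)
  obtain ⟨(ρ : _ ⟶ C), (hρ : 𝟙 C = δ ≫ ρ)⟩ := Triangle.yoneda_exact₂ _ (rot_of_distTriang _ hT) (𝟙 C)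
    (by show g ≫ 𝟙 C = 0; rw [hg, zero_comp])
  have hC0 : IsZero C :=
    (IsZero.iff_id_eq_zero _).2 (hρ.trans ((congrArg (δ ≫ ·) (hK ρ)).trans comp_zero))
  exact (Triangle.isZero₃_iff_isIso₁ _ hT).1 hC0

/-- Extension by zero from `V` of an object vanishing on `U ∩ V` vanishes on `U`. -/
theorem van_ez (V U₀ : X.Opens) {C : DCoh.D (V : Scheme.{u})} (hC : Van (V.ι ⁻¹ᵁ U₀) C) :
    Van U₀ ((ez V.ι).obj C) := by
  haveI := Exists.hasRpush U₀.ι
  haveI := Exists.hasRpush (U₀.ι ∣_ V)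
  refine van_of_isZero ((IsZero.iff_id_eq_zero _).2 ?_)
  let A := (DCoh.restrictD U₀.ι).obj ((ez V.ι).obj C)
  suffices ∀ f : (ez V.ι).obj C ⟶ (DCoh.Rpush U₀.ι).obj A, f = 0 by
    apply ((OpenImm.restrictPushAdj U₀.ι).homEquiv _ _).injective
    rw [this ((OpenImm.restrictPushAdj U₀.ι).homEquiv _ _ (𝟙 _)),
      this ((OpenImm.restrictPushAdj U₀.ι).homEquiv _ _ 0)]
  intro f
  apply ((adjEz V.ι).homEquiv _ _).injective
  let e := (RestrictRpush.restrictD_Rpush_iso U₀.ι V).app A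
  have hz : IsZero ((DCoh.restrictD (U₀.ι ∣_ V)).obj C) := by
    rw [isZero_restrictD_iff_van]
    refine hC.mono ?_
    rintro _ ⟨w, rfl⟩
    show V.ι ((U₀.ι ∣_ V) w) ∈ U₀
    rw [← Scheme.Hom.comp_apply, morphismRestrict_ι, Scheme.Hom.comp_apply]
    exact ((U₀.ι ⁻¹ᵁ V).ι w).2
  exact (OpenImm.eq_zero_of_isZero_restrict (U₀.ι ∣_ V) hz e _).trans
    (OpenImm.eq_zero_of_isZero_restrict (U₀.ι ∣_ V) hz e _).symm

variable (U₀ V₀ : X.Opens)

/-- The overlap, as an open of `V₀`. -/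
noncomputable abbrev k : ((V₀.ι ⁻¹ᵁ U₀ : (V₀ : Scheme.{u}).Opens) : Scheme.{u}) ⟶ V₀ :=
  (V₀.ι ⁻¹ᵁ U₀).ι

variable {U₀ V₀}

/-- Gluing an object extended by zero from `U₀` with an object on `V₀`. -/
theorem exists_glue {M : DCoh.D X}
    (hM : IsIso ((adjEz (k U₀ V₀)).counit.app ((DCoh.restrictD V₀.ι).obj M)))
    (Q : DCoh.D (V₀ : Scheme.{u}))
    (c : (DCoh.restrictD (k U₀ V₀)).obj Q ≅
      (DCoh.restrictD (k U₀ V₀)).obj ((DCoh.restrictD V₀.ι).obj M)) :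
    ∃ (R : DCoh.D X) (a : M ⟶ R) (eV : (DCoh.restrictD V₀.ι).obj R ≅ Q),
      IsIso ((DCoh.restrictD U₀.ι).map a) ∧
      ∀ (E : DCoh.D X) (α : M ⟶ E) (γ : Q ⟶ (DCoh.restrictD V₀.ι).obj E),
        (DCoh.restrictD (k U₀ V₀)).map γ =
          c.hom ≫ (DCoh.restrictD (k U₀ V₀)).map ((DCoh.restrictD V₀.ι).map α) →
        ∃ β : R ⟶ E, a ≫ β = α ∧ eV.inv ≫ (DCoh.restrictD V₀.ι).map β = γ := by
  let εM : (ez (k U₀ V₀)).obj ((DCoh.restrictD (k U₀ V₀)).obj ((DCoh.restrictD V₀.ι).obj M)) ⟶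
      (DCoh.restrictD V₀.ι).obj M := (adjEz (k U₀ V₀)).counit.app _
  let εQ : (ez (k U₀ V₀)).obj ((DCoh.restrictD (k U₀ V₀)).obj Q) ⟶ Q :=
    (adjEz (k U₀ V₀)).counit.app Q
  let θ : (ez (k U₀ V₀)).obj ((DCoh.restrictD (k U₀ V₀)).obj Q) ⟶ (DCoh.restrictD V₀.ι).obj M :=
    (ez (k U₀ V₀)).map c.hom ≫ εM
  let εV : (ez V₀.ι).obj ((DCoh.restrictD V₀.ι).obj M) ⟶ M := (adjEz V₀.ι).counit.app M
  let f₁ : (ez V₀.ι).obj ((ez (k U₀ V₀)).obj ((DCoh.restrictD (k U₀ V₀)).obj Q)) ⟶ M :=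
    (ez V₀.ι).map θ ≫ εV
  let f₂ : (ez V₀.ι).obj ((ez (k U₀ V₀)).obj ((DCoh.restrictD (k U₀ V₀)).obj Q)) ⟶
      (ez V₀.ι).obj Q := -(ez V₀.ι).map εQ
  obtain ⟨R, g, h, hT⟩ := distinguished_cocone_triangle (biprod.lift f₁ f₂)
  haveI : IsIso εM := hM
  haveI : IsIso θ := inferInstance
  haveI h₂ : IsIso ((DCoh.restrictD U₀.ι).map (biprod.lift f₁ f₂ ≫ biprod.snd)) := by
    rw [biprod.lift_snd, Functor.map_neg]
    haveI : IsIso ((DCoh.restrictD U₀.ι).map ((ez V₀.ι).map εQ)) := by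
      obtain ⟨C, g', δ', hT'⟩ := distinguished_cocone_triangle εQ
      exact (isIso_restrict_iff ((ez V₀.ι).map_distinguished _ hT')).2 (van_ez V₀ U₀
        ((isIso_restrict_iff hT').1 (isIso_restrict_counit (k U₀ V₀) Q)))
    exact ⟨-inv ((DCoh.restrictD U₀.ι).map ((ez V₀.ι).map εQ)), by simp, by simp⟩
  haveI h₁ : IsIso ((DCoh.restrictD V₀.ι).map (biprod.lift f₁ f₂ ≫ biprod.fst)) := by
    rw [biprod.lift_fst, Functor.map_comp]
    haveI : IsIso ((DCoh.restrictD V₀.ι).map εV) := isIso_restrict_counit V₀.ι M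
    infer_instance
  haveI := Tri.isIso_map_inr_comp (DCoh.restrictD V₀.ι) _ _ _ hT
  let uQ : Q ⟶ (DCoh.restrictD V₀.ι).obj ((ez V₀.ι).obj Q) := (adjEz V₀.ι).unit.app Q
  haveI : IsIso uQ := inferInstanceAs (IsIso ((adjEz V₀.ι).unit.app Q))
  refine ⟨R, biprod.inl ≫ g, (asIso (uQ ≫ (DCoh.restrictD V₀.ι).map (biprod.inr ≫ g))).symm,
    Tri.isIso_map_inl_comp (DCoh.restrictD U₀.ι) _ _ _ hT, fun E α γ hγ => ?_⟩
  let γ' : (ez V₀.ι).obj Q ⟶ E := ((adjEz V₀.ι).homEquiv _ _).symm γ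
  have hcomp : θ ≫ (DCoh.restrictD V₀.ι).map α = εQ ≫ γ := by
    have hN := (adjEz (k U₀ V₀)).counit.naturality ((DCoh.restrictD V₀.ι).map α)
    have hN' := (adjEz (k U₀ V₀)).counit.naturality γ
    dsimp at hN hN'
    simp only [θ, εM, εQ, Category.assoc]
    rw [← hN, ← hN', hγ, Functor.map_comp, Category.assoc]
  have hz : biprod.lift f₁ f₂ ≫ biprod.desc α γ' = 0 := by
    have hN : (ez V₀.ι).map ((DCoh.restrictD V₀.ι).map α) ≫ (adjEz V₀.ι).counit.app E = εV ≫ α :=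
      (adjEz V₀.ι).counit.naturality α
    have h1 : f₁ ≫ α = (ez V₀.ι).map (θ ≫ (DCoh.restrictD V₀.ι).map α) ≫
        (adjEz V₀.ι).counit.app E := by
      simp only [f₁, Functor.map_comp, Category.assoc, hN]
    rw [biprod.lift_desc, h1, hcomp]
    simp only [f₂, γ', Adjunction.homEquiv_counit, Preadditive.neg_comp, Functor.map_comp,
      Category.assoc, add_neg_cancel]
  obtain ⟨(β : R ⟶ E), (hβ : biprod.desc α γ' = g ≫ β)⟩ := Triangle.yoneda_exact₂ _ hT _ hz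
  refine ⟨β, by rw [Category.assoc, ← hβ, biprod.inl_desc], ?_⟩
  simp only [Iso.symm_inv, asIso_hom, Category.assoc]
  rw [← Functor.map_comp, Category.assoc, ← hβ, biprod.inr_desc]
  exact (Adjunction.homEquiv_unit ..).symm.trans (Equiv.apply_symm_apply _ γ)

section Lift

variable [CompactSpace X] [QuasiSeparatedSpace X]
variable (T' : X.Opens) (hT' : IsCompact (T' : Set X))

include hT' in
/-- Extending `P ⊕ P[1]` over one more affine open, with a map. -/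
theorem exists_step {Z V : X.Opens} (hZ : IsCompact (Z : Set X)) (hV : IsAffineOpen V)
    {E : DCoh.D X} (hE : DCoh.IsQCohD E) {P : DCoh.D (Z : Scheme.{u})} (hP : DCoh.IsPerfect P)
    (hPT : Van (Z.ι ⁻¹ᵁ T') P) (α : P ⟶ (DCoh.restrictD Z.ι).obj E) :
    ∃ (R : DCoh.D X) (β : R ⟶ E) (i : P ⟶ (DCoh.restrictD Z.ι).obj R)
      (p : (DCoh.restrictD Z.ι).obj R ⟶ P),
      DCoh.IsPerfect ((DCoh.restrictD Z.ι).obj R) ∧ DCoh.IsPerfect ((DCoh.restrictD V.ι).obj R) ∧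
      Van ((Z ⊔ V) ⊓ T') R ∧ i ≫ p = 𝟙 P ∧ i ≫ (DCoh.restrictD Z.ι).map β = α := by
  haveI : IsAffine (V : Scheme.{u}) := hV
  let W' : (V : Scheme.{u}).Opens := V.ι ⁻¹ᵁ Z
  have hW' : IsCompact (W' : Set (V : Scheme.{u})) := by
    haveI := quasiCompact_ι (X := X) hV.isCompact
    exact V.ι.isCompact_preimage hZ
  have hTV : IsCompact ((V.ι ⁻¹ᵁ T' : (V : Scheme.{u}).Opens) : Set (V : Scheme.{u})) := by
    haveI := quasiCompact_ι (X := X) hV.isCompact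
    exact V.ι.isCompact_preimage hT'
  let P' := P ⊞ P⟦(1 : ℤ)⟧
  let M := (ez Z.ι).obj P'
  let αM : M ⟶ E := ((adjEz Z.ι).homEquiv _ _).symm (biprod.fst ≫ α)
  have hM : IsIso ((adjEz (k Z V)).counit.app ((DCoh.restrictD V.ι).obj M)) := by
    have h := isIso_counit_of_ez Z.ι V P'
    rw [Scheme.Opens.opensRange_ι] at h
    exact h
  let k' := Z.ι ⁻¹ᵁ V
  let l : (W' : Scheme.{u}) ⟶ Z := V.ι ∣_ Z
  haveI := preservesBinaryBiproducts_of_preservesBiproducts (DCoh.restrictD l)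
  let F := (DCoh.restrictD l).obj P
  have hF : DCoh.IsPerfect F := isPerfect_restrict l hP
  have hFT : Van (W'.ι ⁻¹ᵁ (V.ι ⁻¹ᵁ T')) F := by
    rw [van_restrict_iff]
    refine hPT.mono ?_
    rintro _ ⟨w, hw, rfl⟩
    show Z.ι (l w) ∈ T'
    rw [← Scheme.Hom.comp_apply, morphismRestrict_ι]
    exact hw
  obtain ⟨G, hG, hGT, ⟨eG⟩⟩ := Extend.exists_extension hW' hTV hF hFT
  let c₀ : (DCoh.restrictD (k Z V)).obj G ≅
      (DCoh.restrictD (k Z V)).obj ((DCoh.restrictD V.ι).obj M) :=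
    eG ≪≫ biprod.mapIso (Iso.refl _) (((DCoh.restrictD l).commShiftIso (1 : ℤ)).app P).symm ≪≫
      ((DCoh.restrictD l).mapBiprod P (P⟦(1 : ℤ)⟧)).symm ≪≫
      (DCoh.restrictD l).mapIso (asIso ((adjEz Z.ι).unit.app P')) ≪≫
      (compIso' l Z.ι (morphismRestrict_ι V.ι Z)).app M ≪≫ (compIso W'.ι V.ι).app M
  obtain ⟨G₁, β₁, γ₁, hG₁, hβ₁, hγ₁, hVG⟩ := Extend.exists_lift hW' hG
    (CompactUnit.isQCohD_restrictD V.ι hE)
    (c₀.hom ≫ (DCoh.restrictD (k Z V)).map ((DCoh.restrictD V.ι).map αM))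
  obtain ⟨R, a, eV, ha, hβ⟩ := exists_glue hM G₁ (asIso ((DCoh.restrictD W'.ι).map β₁) ≪≫ c₀)
  obtain ⟨β, hβa, -⟩ := hβ E αM γ₁ (by
    rw [← hγ₁]; simp only [Iso.trans_hom, asIso_hom, Category.assoc])
  let eZ : (DCoh.restrictD Z.ι).obj R ≅ P' :=
    (asIso ((DCoh.restrictD Z.ι).map a)).symm ≪≫ (asIso ((adjEz Z.ι).unit.app P')).symm
  have hP' : DCoh.IsPerfect P' := Perfect.Triangle.isPerfect₂
    (binaryBiproductTriangle_distinguished P (P⟦(1 : ℤ)⟧)) hP (Perfect.Triangle.isPerfect_shift hP 1)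
  refine ⟨R, β, biprod.inl ≫ eZ.inv, eZ.hom ≫ biprod.fst,
    Perfect.Triangle.isPerfect_of_iso eZ.symm hP', Perfect.Triangle.isPerfect_of_iso eV.symm hG₁,
    ?_, by simp, ?_⟩
  · have h1 : Van (Z.ι ⁻¹ᵁ T') P' := van₂ (binaryBiproductTriangle_distinguished P (P⟦(1 : ℤ)⟧))
      hPT (hPT.shift 1)
    have h2 : Van (Z ⊓ T') R := by
      have := h1.of_iso eZ.symm
      rwa [van_restrict_iff, Scheme.Hom.image_preimage_eq_opensRange_inf,
        Scheme.Opens.opensRange_ι] at this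
    have h3 : Van (V ⊓ T') R := by
      have := (hVG _ hGT).of_iso eV.symm
      rwa [van_restrict_iff, Scheme.Hom.image_preimage_eq_opensRange_inf,
        Scheme.Opens.opensRange_ι] at this
    exact (h2.sup h3).mono (by rw [inf_sup_right])
  · simp only [eZ, Iso.trans_inv, Iso.symm_inv, asIso_hom, Category.assoc]
    rw [← Functor.map_comp, hβa]
    have hu : (adjEz Z.ι).unit.app P' ≫ (DCoh.restrictD Z.ι).map αM = biprod.fst ≫ α :=
      (Adjunction.homEquiv_unit ..).symm.trans (Equiv.apply_symm_apply _ _)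
    rw [hu, biprod.inl_fst_assoc]

/-- Restriction to a smaller open, on morphisms. -/
lemma exists_transfer {U Z : X.Opens} (hUZ : U ≤ Z) {R R' E : DCoh.D X} (β : R ⟶ E) (β' : R' ⟶ E)
    (i : (DCoh.restrictD Z.ι).obj R ⟶ (DCoh.restrictD Z.ι).obj R')
    (p : (DCoh.restrictD Z.ι).obj R' ⟶ (DCoh.restrictD Z.ι).obj R) (hip : i ≫ p = 𝟙 _)
    (hβ : i ≫ (DCoh.restrictD Z.ι).map β' = (DCoh.restrictD Z.ι).map β) :
    ∃ (i' : (DCoh.restrictD U.ι).obj R ⟶ (DCoh.restrictD U.ι).obj R')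
      (p' : (DCoh.restrictD U.ι).obj R' ⟶ (DCoh.restrictD U.ι).obj R), i' ≫ p' = 𝟙 _ ∧
      i' ≫ (DCoh.restrictD U.ι).map β' = (DCoh.restrictD U.ι).map β := by
  let e := compIso' (X.homOfLE hUZ) Z.ι (X.homOfLE_ι hUZ)
  refine ⟨e.inv.app R ≫ (DCoh.restrictD (X.homOfLE hUZ)).map i ≫ e.hom.app R',
    e.inv.app R' ≫ (DCoh.restrictD (X.homOfLE hUZ)).map p ≫ e.hom.app R, ?_, ?_⟩
  · simp only [Category.assoc, Iso.hom_inv_id_app_assoc]
    rw [← Functor.map_comp_assoc, hip]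
    simp
  · have h1 : e.hom.app R' ≫ (DCoh.restrictD U.ι).map β' =
        (DCoh.restrictD (X.homOfLE hUZ)).map ((DCoh.restrictD Z.ι).map β') ≫ e.hom.app E :=
      (e.hom.naturality β').symm
    have h2 : (DCoh.restrictD (X.homOfLE hUZ)).map ((DCoh.restrictD Z.ι).map β) ≫ e.hom.app E =
        e.hom.app R ≫ (DCoh.restrictD U.ι).map β := e.hom.naturality β
    rw [Category.assoc, Category.assoc, h1, ← Functor.map_comp_assoc, hβ, h2,
      Iso.inv_hom_id_app_assoc]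

include hT' in
/-- Lifting maps from perfect objects on a quasi-compact open, with supports. -/
theorem exists_lift {U : X.Opens} (hU : IsCompact (U : Set X))
    {E : DCoh.D X} (hE : DCoh.IsQCohD E) {P : DCoh.D (U : Scheme.{u})} (hP : DCoh.IsPerfect P)
    (hPT : Van (U.ι ⁻¹ᵁ T') P) (α : P ⟶ (DCoh.restrictD U.ι).obj E) :
    ∃ (R : DCoh.D X) (β : R ⟶ E) (i : P ⟶ (DCoh.restrictD U.ι).obj R)
      (p : (DCoh.restrictD U.ι).obj R ⟶ P),
      DCoh.IsPerfect R ∧ Van T' R ∧ i ≫ p = 𝟙 P ∧ i ≫ (DCoh.restrictD U.ι).map β = α := by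
  suffices ∀ S : X.Opens, IsCompact (S : Set X) → ∃ (R : DCoh.D X) (β : R ⟶ E)
      (i : P ⟶ (DCoh.restrictD U.ι).obj R) (p : (DCoh.restrictD U.ι).obj R ⟶ P),
      DCoh.IsPerfect ((DCoh.restrictD (U ⊔ S).ι).obj R) ∧ Van ((U ⊔ S) ⊓ T') R ∧ i ≫ p = 𝟙 P ∧
      i ≫ (DCoh.restrictD U.ι).map β = α by
    obtain ⟨R, β, i, p, hR, hRT, hip, hi⟩ := this ⊤ isCompact_univ
    refine ⟨R, β, i, p, isPerfect_of_cover fun x => ⟨_, (U ⊔ ⊤).ι, inferInstance,
      ⟨x, Or.inr trivial⟩, rfl, hR⟩, hRT.mono ?_, hip, hi⟩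
    simp
  intro S hS
  refine compact_open_induction_on (P := fun S : X.Opens => ∃ (R : DCoh.D X) (β : R ⟶ E)
      (i : P ⟶ (DCoh.restrictD U.ι).obj R) (p : (DCoh.restrictD U.ι).obj R ⟶ P),
      DCoh.IsPerfect ((DCoh.restrictD (U ⊔ S).ι).obj R) ∧ Van ((U ⊔ S) ⊓ T') R ∧ i ≫ p = 𝟙 P ∧
      i ≫ (DCoh.restrictD U.ι).map β = α) S hS ?_ ?_
  · refine ⟨(ez U.ι).obj P, ((adjEz U.ι).homEquiv _ _).symm α, (adjEz U.ι).unit.app P,
      inv ((adjEz U.ι).unit.app P), ?_, ?_, IsIso.hom_inv_id _,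
      (Adjunction.homEquiv_unit ..).symm.trans (Equiv.apply_symm_apply _ α)⟩
    · refine isPerfect_of_cover fun x => ⟨_, X.homOfLE (le_sup_left : U ≤ U ⊔ ⊥), inferInstance,
        ⟨x.1, by simpa using x.2⟩, Subtype.ext (by simp), ?_⟩
      exact Perfect.Triangle.isPerfect_of_iso (asIso ((adjEz U.ι).unit.app P) ≪≫
        ((compIso' (X.homOfLE le_sup_left) (U ⊔ ⊥).ι (X.homOfLE_ι _)).app _).symm) hP
    · have : Van (U.ι ⁻¹ᵁ T') ((DCoh.restrictD U.ι).obj ((ez U.ι).obj P)) :=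
        hPT.of_iso (asIso ((adjEz U.ι).unit.app P))
      rw [van_restrict_iff, Scheme.Hom.image_preimage_eq_opensRange_inf,
        Scheme.Opens.opensRange_ι] at this
      exact this.mono (by simp)
  · intro S hS V ⟨R, β, i, p, hR, hRT, hip, hi⟩
    have hZ : IsCompact ((U ⊔ S : X.Opens) : Set X) := by
      rw [TopologicalSpace.Opens.coe_sup]; exact hU.union hS
    have hRT' : Van ((U ⊔ S).ι ⁻¹ᵁ T') ((DCoh.restrictD (U ⊔ S).ι).obj R) := by
      rw [van_restrict_iff, Scheme.Hom.image_preimage_eq_opensRange_inf, Scheme.Opens.opensRange_ι]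
      exact hRT
    obtain ⟨R', β', i₁, p₁, hR₁, hR₂, hR'T, hip₁, hi₁⟩ :=
      exists_step T' hT' hZ V.2 hE hR hRT' ((DCoh.restrictD (U ⊔ S).ι).map β)
    obtain ⟨i₂, p₂, hip₂, hi₂⟩ :=
      exists_transfer (le_sup_left : U ≤ U ⊔ S) β β' i₁ p₁ hip₁ hi₁
    refine ⟨R', β', i ≫ i₂, p₂ ≫ p, ?_, hR'T.mono (by rw [sup_assoc]), ?_, ?_⟩
    · have hle₁ : U ⊔ S ≤ U ⊔ (S ⊔ V.1) := sup_le_sup_left le_sup_left _
      have hle₂ : V.1 ≤ U ⊔ (S ⊔ V.1) := le_sup_right.trans le_sup_right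
      refine isPerfect_of_cover fun x => ?_
      have hx : x.1 ∈ (U ⊔ S) ⊔ V.1 := by
        exact (le_of_eq (sup_assoc U S V.1).symm) x.2
      rcases hx with hx | hx
      · exact ⟨_, X.homOfLE hle₁, inferInstance, ⟨x.1, hx⟩, Subtype.ext (by simp),
          Perfect.Triangle.isPerfect_of_iso
            ((compIso' (X.homOfLE hle₁) _ (X.homOfLE_ι _)).app _).symm hR₁⟩
      · exact ⟨_, X.homOfLE hle₂, inferInstance, ⟨x.1, hx⟩, Subtype.ext (by simp),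
          Perfect.Triangle.isPerfect_of_iso
            ((compIso' (X.homOfLE hle₂) _ (X.homOfLE_ι _)).app _).symm hR₂⟩
    · rw [Category.assoc, ← Category.assoc i₂, hip₂, Category.id_comp, hip]
    · rw [Category.assoc, hi₂, hi]

end Lift

end Groth.Agent.Lib.Gen43.Glue
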