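import Mathlib.CategoryTheory.Triangulated.Functor
import Mathlib.CategoryTheory.Triangulated.Pretriangulated
import Mathlib.CategoryTheory.Retract

/-!
# Cones of idempotents and retracts of cones
-/

set_option autoImplicit false
set_option linter.style.haveILetI false

universe v v' u u'

open CategoryTheory CategoryTheory.Limits CategoryTheory.Pretriangulated

namespace Groth.Agent.Lib.Gen43.Tri

variable {D : Type u} [Category.{v} D] [Preadditive D] [HasZeroObject D] [HasShift D ℤ]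
  [∀ n : ℤ, (shiftFunctor D n).Additive] [Pretriangulated D]

/-- If `F` is a retract of `P` with idempotent `p ≫ i`, the cone of `𝟙 - p ≫ i` is `F ⊕ F[1]`. -/
theorem nonempty_cone_idem {F P Z : D} (i : F ⟶ P) (p : P ⟶ F) (hip : i ≫ p = 𝟙 F)
    (g : P ⟶ Z) (h : Z ⟶ P⟦(1 : ℤ)⟧)
    (hT : Triangle.mk (𝟙 P - p ≫ i) g h ∈ distTriang D) [HasBinaryBiproduct F (F⟦(1 : ℤ)⟧)] :
    Nonempty (Z ≅ F ⊞ F⟦(1 : ℤ)⟧) := by
  have hep : (𝟙 P - p ≫ i) ≫ p = 0 := by
    rw [Preadditive.sub_comp, Category.assoc, hip, Category.id_comp, Category.comp_id, sub_self]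
  have hie : i ≫ (𝟙 P - p ≫ i) = 0 := by
    rw [Preadditive.comp_sub, ← Category.assoc, hip, Category.id_comp, Category.comp_id, sub_self]
  obtain ⟨(r : Z ⟶ F), (hr : p = g ≫ r)⟩ := Triangle.yoneda_exact₂ _ hT p hep
  obtain ⟨(s : F⟦(1 : ℤ)⟧ ⟶ Z), (hs : i⟦(1 : ℤ)⟧' = s ≫ h)⟩ :=
    Triangle.coyoneda_exact₂ _ (rot_of_distTriang _ (rot_of_distTriang _ hT)) (i⟦(1 : ℤ)⟧') (by
      show i⟦(1 : ℤ)⟧' ≫ (-(𝟙 P - p ≫ i)⟦(1 : ℤ)⟧') = 0
      rw [Preadditive.comp_neg, ← Functor.map_comp, hie, Functor.map_zero, neg_zero])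
  let a : F ⟶ Z := i ≫ g
  let b : Z ⟶ F⟦(1 : ℤ)⟧ := h ≫ p⟦(1 : ℤ)⟧'
  let r' : Z ⟶ F := r - b ≫ s ≫ r
  have hsb : s ≫ b = 𝟙 _ := by
    simp only [b]
    rw [← Category.assoc, ← hs, ← Functor.map_comp, hip, CategoryTheory.Functor.map_id]
  have hgh : g ≫ h = 0 := comp_distTriang_mor_zero₂₃ _ hT
  have hgb : g ≫ b = 0 := by simp only [b]; rw [← Category.assoc, hgh, zero_comp]
  have hab : a ≫ b = 0 := by simp only [a, Category.assoc, hgb, comp_zero]
  have har : a ≫ r' = 𝟙 F := by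
    simp only [r', Preadditive.comp_sub]
    rw [← Category.assoc a b, hab, zero_comp, sub_zero]
    simp only [a, Category.assoc, ← hr, hip]
  have hsr : s ≫ r' = 0 := by
    simp only [r', Preadditive.comp_sub]
    rw [← Category.assoc s b, hsb, Category.id_comp, sub_self]
  have hgr : g ≫ r' = p := by
    simp only [r', Preadditive.comp_sub]
    rw [← Category.assoc g b, hgb, zero_comp, sub_zero, hr]
  have htot : r' ≫ a + b ≫ s = 𝟙 Z := by
    let t : Z ⟶ Z := 𝟙 Z - (r' ≫ a + b ≫ s)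
    have hth : t ≫ h = 0 := by
      have he : h ≫ (𝟙 P - p ≫ i)⟦(1 : ℤ)⟧' = 0 := comp_distTriang_mor_zero₃₁ _ hT
      simp only [t, Preadditive.sub_comp, Preadditive.add_comp, Category.id_comp, a, b,
        Category.assoc, hgh, comp_zero, zero_add, ← hs]
      rw [Functor.map_sub, CategoryTheory.Functor.map_id, Functor.map_comp, Preadditive.comp_sub,
        Category.comp_id] at he
      exact he
    have hgt : g ≫ t = 0 := by
      have he : (𝟙 P - p ≫ i) ≫ g = 0 := comp_distTriang_mor_zero₁₂ _ hT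
      simp only [t, Preadditive.comp_sub, Preadditive.comp_add, Category.comp_id, a,
        ← Category.assoc, hgr, hgb, zero_comp, add_zero]
      rw [Preadditive.sub_comp, Category.id_comp] at he
      exact he
    have htr : t ≫ r' = 0 := by
      simp only [t, Preadditive.sub_comp, Preadditive.add_comp, Category.id_comp, Category.assoc,
        har, hsr, comp_zero, add_zero, Category.comp_id, sub_self]
    have htb : t ≫ b = 0 := by
      simp only [t, Preadditive.sub_comp, Preadditive.add_comp, Category.id_comp, Category.assoc,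
        hab, hsb, comp_zero, zero_add, Category.comp_id, sub_self]
    obtain ⟨(u : Z ⟶ P), (hu : t = u ≫ g)⟩ := Triangle.coyoneda_exact₃ _ hT t hth
    have ht2 : t ≫ t = t := by
      conv_lhs => arg 2; simp only [t]
      rw [Preadditive.comp_sub, Preadditive.comp_add, ← Category.assoc t r', ← Category.assoc t b,
        htr, htb, zero_comp, zero_comp, add_zero, sub_zero, Category.comp_id]
    have ht0 : t = 0 := by
      rw [← ht2]
      conv_lhs => arg 1; rw [hu]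
      rw [Category.assoc, hgt, comp_zero]
    exact (sub_eq_zero.1 ht0).symm
  exact ⟨{
    hom := biprod.lift r' b
    inv := biprod.desc a s
    hom_inv_id := by rw [biprod.lift_desc, htot]
    inv_hom_id := by
      ext <;> simp [har, hab, hsr, hsb] }⟩

/-- A cone is a retract of the cone of an extension of the map to retracts. -/
theorem nonempty_retract_cone {A B A' B' C C' : D} (iA : A ⟶ A') (pA : A' ⟶ A)
    (hA : iA ≫ pA = 𝟙 A) (iB : B ⟶ B') (pB : B' ⟶ B) (hB : iB ≫ pB = 𝟙 B)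
    (φ : A ⟶ B) (g : B ⟶ C) (h : C ⟶ A⟦(1 : ℤ)⟧) (hT : Triangle.mk φ g h ∈ distTriang D)
    (φ' : A' ⟶ B') (g' : B' ⟶ C') (h' : C' ⟶ A'⟦(1 : ℤ)⟧)
    (hT' : Triangle.mk φ' g' h' ∈ distTriang D) (hφ : φ' = pA ≫ φ ≫ iB) :
    Nonempty (Retract C C') := by
  subst hφ
  obtain ⟨(i : C ⟶ C'), hi₁, hi₂⟩ := complete_distinguished_triangle_morphism _ _ hT hT' iA iB (by
    show φ ≫ iB = iA ≫ pA ≫ φ ≫ iB
    rw [← Category.assoc iA pA, hA, Category.id_comp])
  obtain ⟨(p : C' ⟶ C), hp₁, hp₂⟩ := complete_distinguished_triangle_morphism _ _ hT' hT pA pB (by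
    show (pA ≫ φ ≫ iB) ≫ pB = pA ≫ φ
    rw [Category.assoc, Category.assoc, hB, Category.comp_id])
  let T := Triangle.mk φ g h
  let f : T ⟶ T := Triangle.homMk _ _ (iA ≫ pA) (iB ≫ pB) (i ≫ p)
    (by show φ ≫ iB ≫ pB = (iA ≫ pA) ≫ φ; rw [hA, hB, Category.comp_id, Category.id_comp])
    (by
      change g ≫ i = iB ≫ g' at hi₁
      change g' ≫ p = pB ≫ g at hp₁
      show g ≫ i ≫ p = (iB ≫ pB) ≫ g
      rw [← Category.assoc, hi₁, Category.assoc, hp₁, Category.assoc])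
    (by
      change h ≫ iA⟦(1 : ℤ)⟧' = i ≫ h' at hi₂
      change h' ≫ pA⟦(1 : ℤ)⟧' = p ≫ h at hp₂
      show h ≫ (iA ≫ pA)⟦(1 : ℤ)⟧' = (i ≫ p) ≫ h
      rw [Functor.map_comp, ← Category.assoc, hi₂, Category.assoc, hp₂, Category.assoc])
  haveI h₁ : IsIso f.hom₁ := by show IsIso (iA ≫ pA); rw [hA]; infer_instance
  haveI h₂ : IsIso f.hom₂ := by show IsIso (iB ≫ pB); rw [hB]; infer_instance
  haveI : IsIso (i ≫ p) := isIso₃_of_isIso₁₂ f hT hT h₁ h₂
  exact ⟨{ i := i, r := p ≫ inv (i ≫ p), retract := by rw [← Category.assoc, IsIso.hom_inv_id] }⟩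

/-- A triangle `J → A ⊞ B → R` becomes `A ≅ R` under a functor inverting `J → B`. -/
theorem isIso_map_inl_comp {D' : Type u'} [Category.{v'} D'] [Preadditive D'] [HasZeroObject D']
    [HasShift D' ℤ] [∀ n : ℤ, (shiftFunctor D' n).Additive] [Pretriangulated D']
    (F : D ⥤ D') [F.CommShift ℤ] [F.IsTriangulated] {J A B R : D} [HasBinaryBiproduct A B]
    (f : J ⟶ A ⊞ B) (g : A ⊞ B ⟶ R) (h : R ⟶ J⟦(1 : ℤ)⟧)
    (hT : Triangle.mk f g h ∈ distTriang D) [IsIso (F.map (f ≫ biprod.snd))] :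
    IsIso (F.map (biprod.inl ≫ g)) := by
  have hT' := F.map_distinguished _ hT
  let π : F.obj (A ⊞ B) ⟶ F.obj A := F.map biprod.fst -
    F.map biprod.snd ≫ inv (F.map (f ≫ biprod.snd)) ≫ F.map (f ≫ biprod.fst)
  have hfπ : F.map f ≫ π = 0 := by
    simp only [π, Preadditive.comp_sub]
    rw [← F.map_comp, ← Category.assoc (F.map f) (F.map biprod.snd), ← F.map_comp,
      IsIso.hom_inv_id_assoc, sub_self]
  obtain ⟨(r : F.obj R ⟶ F.obj A), (hr : π = F.map g ≫ r)⟩ := Triangle.yoneda_exact₂ _ hT' π hfπ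
  have h1 : F.map (biprod.inl ≫ g) ≫ r = 𝟙 _ := by
    rw [F.map_comp, Category.assoc, ← hr]
    simp only [π, Preadditive.comp_sub]
    rw [← F.map_comp, biprod.inl_fst, F.map_id, ← Category.assoc (F.map biprod.inl),
      ← F.map_comp, biprod.inl_snd, F.map_zero, zero_comp, sub_zero]
  refine ⟨r, h1, ?_⟩
  let t : F.obj R ⟶ F.obj R := r ≫ F.map (biprod.inl ≫ g) - 𝟙 _
  let δ : F.obj R ⟶ (F.obj J)⟦(1 : ℤ)⟧ := (F.mapTriangle.obj (Triangle.mk f g h)).mor₃
  have hz : δ = 0 := by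
    have h0 : δ ≫ (F.map f)⟦(1 : ℤ)⟧' = 0 := comp_distTriang_mor_zero₃₁ _ hT'
    haveI : IsIso ((F.map f ≫ F.map biprod.snd)⟦(1 : ℤ)⟧') := by rw [← F.map_comp]; infer_instance
    refine (cancel_mono ((F.map f ≫ F.map biprod.snd)⟦(1 : ℤ)⟧')).1 ?_
    rw [zero_comp, Functor.map_comp, ← Category.assoc, h0, zero_comp]
  haveI : Epi (F.map g) := (Triangle.mor₃_eq_zero_iff_epi₂ _ hT').1 hz
  refine (cancel_epi (F.map g)).1 ?_
  rw [← Category.assoc, ← hr, Category.comp_id]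
  have hfg : F.map f ≫ F.map g = 0 := comp_distTriang_mor_zero₁₂ _ hT'
  have htot : F.map biprod.fst ≫ F.map biprod.inl + F.map biprod.snd ≫ F.map biprod.inr =
      𝟙 (F.obj (A ⊞ B)) := by
    rw [← F.map_comp, ← F.map_comp, ← F.map_add, biprod.total, F.map_id]
  have h2 : F.map (f ≫ biprod.fst) ≫ F.map (biprod.inl ≫ g) +
      F.map (f ≫ biprod.snd) ≫ F.map (biprod.inr ≫ g) = 0 := by
    simp only [F.map_comp, Category.assoc]
    rw [← Preadditive.comp_add, ← Category.assoc (F.map biprod.fst),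
      ← Category.assoc (F.map biprod.snd), ← Preadditive.add_comp, htot, Category.id_comp, hfg]
  have h3 : inv (F.map (f ≫ biprod.snd)) ≫ F.map (f ≫ biprod.fst) ≫ F.map (biprod.inl ≫ g) =
      -F.map (biprod.inr ≫ g) := by
    rw [eq_neg_of_add_eq_zero_left h2, Preadditive.comp_neg, IsIso.inv_hom_id_assoc]
  simp only [π, Preadditive.sub_comp, Category.assoc]
  rw [h3, Preadditive.comp_neg, sub_neg_eq_add, F.map_comp, F.map_comp]
  rw [← Category.assoc, ← Category.assoc (F.map biprod.snd), ← Preadditive.add_comp, htot,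
    Category.id_comp]

/-- The mirror statement. -/
theorem isIso_map_inr_comp {D' : Type u'} [Category.{v'} D'] [Preadditive D'] [HasZeroObject D']
    [HasShift D' ℤ] [∀ n : ℤ, (shiftFunctor D' n).Additive] [Pretriangulated D']
    (F : D ⥤ D') [F.CommShift ℤ] [F.IsTriangulated] {J A B R : D} [HasBinaryBiproduct A B]
    [HasBinaryBiproduct B A]
    (f : J ⟶ A ⊞ B) (g : A ⊞ B ⟶ R) (h : R ⟶ J⟦(1 : ℤ)⟧)
    (hT : Triangle.mk f g h ∈ distTriang D) [IsIso (F.map (f ≫ biprod.fst))] :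
    IsIso (F.map (biprod.inr ≫ g)) := by
  let e : A ⊞ B ≅ B ⊞ A := biprod.braiding A B
  have hT' : Triangle.mk (f ≫ e.hom) (e.inv ≫ g) h ∈ distTriang D :=
    isomorphic_distinguished _ hT _ (Triangle.isoMk _ _ (Iso.refl _) e.symm (Iso.refl _)
      (by show (f ≫ e.hom) ≫ e.inv = 𝟙 J ≫ f; rw [Category.assoc, e.hom_inv_id, Category.comp_id, Category.id_comp])
      (by show (e.inv ≫ g) ≫ 𝟙 R = e.inv ≫ g; rw [Category.comp_id])
      (by show h ≫ (𝟙 J)⟦(1 : ℤ)⟧' = 𝟙 R ≫ h; rw [CategoryTheory.Functor.map_id, Category.id_comp, Category.comp_id]))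
  haveI : IsIso (F.map ((f ≫ e.hom) ≫ biprod.snd)) := by
    rw [show (f ≫ e.hom) ≫ biprod.snd = f ≫ biprod.fst by simp [e]]
    infer_instance
  have := isIso_map_inl_comp F _ _ _ hT'
  rwa [show (biprod.inl ≫ e.inv ≫ g : B ⟶ R) = biprod.inr ≫ g by
    rw [← Category.assoc]; congr 1; ext <;> simp [e]] at this

end Groth.Agent.Lib.Gen43.Tri
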