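import Groth.Agent.Lib.DerivedOX.OpenImm
import Groth.Agent.Lib.DerivedOX.RpushQCoh
import Groth.Agent.Lib.DerivedOX.CompactUnit
import Groth.Agent.Lib.Perfect.Triangle
import Groth.Agent.Lib.Perfect.SummandPerfect
import Groth.Agent.Lib.Perfect.QCohD
import Groth.Agent.Lib.Gen43.Tri

/-!
# Restrictions, vanishing on opens, perfect objects
-/

set_option autoImplicit false
set_option linter.style.haveILetI false
set_option linter.unusedSectionVars false

universe u

open CategoryTheory Limits AlgebraicGeometry Pretriangulated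

attribute [local instance] HasDerivedCategory.standard

namespace Groth.Agent.Lib.Gen43.Restrict

open Groth.Agent.Lib.DerivedOX

variable {X Y U V : Scheme.{u}}

/-- Restrictions compose. -/
noncomputable def compIso (j' : V ⟶ U) (j : U ⟶ X) [IsOpenImmersion j'] [IsOpenImmersion j] :
    DCoh.restrictD (j' ≫ j) ≅ DCoh.restrictD j ⋙ DCoh.restrictD j' :=
  letI : Localization.Lifting (DerivedCategory.Q (C := X.Modules))
      (HomologicalComplex.quasiIso X.Modules (.up ℤ))
      ((Perfect.Basic.rC j ⋙ Perfect.Basic.rC j') ⋙ DerivedCategory.Q)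
      (DCoh.restrictD j ⋙ DCoh.restrictD j') :=
    ⟨(Functor.associator _ _ _).symm ≪≫
      Functor.isoWhiskerRight (Scheme.Modules.restrictFunctor j).mapDerivedCategoryFactors _ ≪≫
      Functor.associator _ _ _ ≪≫
      Functor.isoWhiskerLeft _ (Scheme.Modules.restrictFunctor j').mapDerivedCategoryFactors ≪≫
      (Functor.associator _ _ _).symm⟩
  letI : Localization.Lifting (DerivedCategory.Q (C := X.Modules))
      (HomologicalComplex.quasiIso X.Modules (.up ℤ))
      (Perfect.Basic.rC (j' ≫ j) ⋙ DerivedCategory.Q) (DCoh.restrictD (j' ≫ j)) :=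
    ⟨(Scheme.Modules.restrictFunctor (j' ≫ j)).mapDerivedCategoryFactors⟩
  Localization.liftNatIso DerivedCategory.Q (HomologicalComplex.quasiIso _ (.up ℤ)) _ _ _ _
    (Functor.isoWhiskerRight (Perfect.Basic.rCComp j' j) DerivedCategory.Q)

/-- Restrictions along equal immersions. -/
noncomputable def congrIso {j j' : U ⟶ X} [IsOpenImmersion j] [IsOpenImmersion j'] (h : j = j') :
    DCoh.restrictD j ≅ DCoh.restrictD j' := by
  subst h; exact Iso.refl _

/-- Restrictions compose, along an equality. -/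
noncomputable def compIso' {j : V ⟶ X} (j' : V ⟶ U) (k : U ⟶ X) [IsOpenImmersion j']
    [IsOpenImmersion k] [IsOpenImmersion j] (h : j' ≫ k = j) :
    DCoh.restrictD k ⋙ DCoh.restrictD j' ≅ DCoh.restrictD j :=
  (compIso j' k).symm ≪≫ congrIso h

/-- Restriction along the identity. -/
noncomputable def idIso (X : Scheme.{u}) : DCoh.restrictD (𝟙 X) ≅ 𝟭 (DCoh.D X) :=
  letI : Localization.Lifting (DerivedCategory.Q (C := X.Modules))
      (HomologicalComplex.quasiIso X.Modules (.up ℤ))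
      (Perfect.Basic.rC (𝟙 X) ⋙ DerivedCategory.Q) (DCoh.restrictD (𝟙 X)) :=
    ⟨(Scheme.Modules.restrictFunctor (𝟙 X)).mapDerivedCategoryFactors⟩
  letI : Localization.Lifting (DerivedCategory.Q (C := X.Modules))
      (HomologicalComplex.quasiIso X.Modules (.up ℤ)) (𝟭 _ ⋙ DerivedCategory.Q) (𝟭 _) :=
    ⟨Functor.rightUnitor _ ≪≫ (Functor.leftUnitor _).symm⟩
  Localization.liftNatIso DerivedCategory.Q (HomologicalComplex.quasiIso _ (.up ℤ)) _ _ _ _
    (Functor.isoWhiskerRight (Perfect.Basic.rCId X) DerivedCategory.Q)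

/-- Restriction along an isomorphism is an equivalence. -/
instance isEquivalence_restrictD (e : U ⟶ X) [IsIso e] : (DCoh.restrictD e).IsEquivalence :=
  (CategoryTheory.Equivalence.mk (DCoh.restrictD e) (DCoh.restrictD (inv e))
    ((idIso X).symm ≪≫ (compIso' (inv e) e (IsIso.inv_hom_id e)).symm)
    (compIso' e (inv e) (IsIso.hom_inv_id e) ≪≫ idIso U)).isEquivalence_functor

/-! ### Vanishing on an open -/

/-- `K` vanishes on `W`: no point of `W` lies in the support of a cohomology sheaf. -/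
def Van (W : X.Opens) (K : DCoh.D X) : Prop :=
  ∀ (i : ℤ), ∀ x ∈ W, x ∉ CohB1.support (DCoh.HD K i)

lemma isZero_restrictD_iff (j : U ⟶ X) [IsOpenImmersion j] (K : DCoh.D X) :
    IsZero ((DCoh.restrictD j).obj K) ↔ ∀ (i : ℤ) (w : U), j w ∉ CohB1.support (DCoh.HD K i) :=
  ⟨OpenImm.not_mem_support_of_isZero_restrict j, OpenSupport.isZero_restrictD_of_support j K⟩

lemma isZero_restrictD_iff_van (j : U ⟶ X) [IsOpenImmersion j] (K : DCoh.D X) :
    IsZero ((DCoh.restrictD j).obj K) ↔ Van j.opensRange K := by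
  rw [isZero_restrictD_iff]
  exact ⟨fun h i x ⟨w, hw⟩ => hw ▸ h i w, fun h i w => h i _ ⟨w, rfl⟩⟩

lemma van_iff (W : X.Opens) (K : DCoh.D X) : Van W K ↔ IsZero ((DCoh.restrictD W.ι).obj K) := by
  rw [isZero_restrictD_iff_van, Scheme.Opens.opensRange_ι]

variable {W W' : X.Opens} {K L : DCoh.D X}

lemma Van.isZero (h : Van W K) : IsZero ((DCoh.restrictD W.ι).obj K) := (van_iff _ _).1 h

lemma van_of_isZero (h : IsZero ((DCoh.restrictD W.ι).obj K)) : Van W K := (van_iff _ _).2 h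

lemma Van.mono (h : Van W K) (hW : W' ≤ W) : Van W' K := fun i x hx => h i x (hW hx)

lemma Van.sup (h : Van W K) (h' : Van W' K) : Van (W ⊔ W') K := fun i x hx => by
  rcases hx with hx | hx
  exacts [h i x hx, h' i x hx]

lemma van_bot (K : DCoh.D X) : Van ⊥ K := fun _ _ hx => hx.elim

lemma isZero_of_van_top (h : Van ⊤ K) : IsZero K :=
  OpenImm.isZero_of_supports fun i => Set.eq_empty_iff_forall_notMem.2 fun x => h i x trivial

lemma support_subset_iff {T : Set X} (hT : IsClosed T) :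
    (∀ i, CohB1.support (DCoh.HD K i) ⊆ T) ↔ Van ⟨Tᶜ, hT.isOpen_compl⟩ K :=
  ⟨fun h i x hx hx' => hx (h i hx'), fun h i x hx => by_contra fun hx' => h i x hx' hx⟩

lemma Van.of_iso (h : Van W K) (e : K ≅ L) : Van W L :=
  van_of_isZero (h.isZero.of_iso ((DCoh.restrictD W.ι).mapIso e.symm))

lemma Van.shift (h : Van W K) (n : ℤ) : Van W (K⟦n⟧) :=
  van_of_isZero (((shiftFunctor _ n).map_isZero h.isZero).of_iso
    (((DCoh.restrictD W.ι).commShiftIso n).app K))

lemma Van.of_retract (h : Van W L) (r : Retract K L) : Van W K :=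
  van_of_isZero (IsZero.of_mono (r.map (DCoh.restrictD W.ι)).i h.isZero)

lemma van₃ {T : Triangle (DCoh.D X)} (hT : T ∈ distTriang _) (h₁ : Van W T.obj₁) (h₂ : Van W T.obj₂) :
    Van W T.obj₃ :=
  van_of_isZero ((Triangle.isZero₃_iff_isIso₁ _ ((DCoh.restrictD W.ι).map_distinguished _ hT)).2
    (OpenSupport.isIso_of_zero _ h₁.isZero h₂.isZero))

lemma van₂ {T : Triangle (DCoh.D X)} (hT : T ∈ distTriang _) (h₁ : Van W T.obj₁) (h₃ : Van W T.obj₃) :
    Van W T.obj₂ :=
  van₃ (T := T.invRotate) (inv_rot_of_distTriang _ hT) (h₃.shift (-1)) h₁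

lemma van₁ {T : Triangle (DCoh.D X)} (hT : T ∈ distTriang _) (h₂ : Van W T.obj₂) (h₃ : Van W T.obj₃) :
    Van W T.obj₁ :=
  ((van₃ (T := T.rotate) (rot_of_distTriang _ hT) h₂ h₃).shift (-1)).of_iso
    ((shiftFunctorCompIsoId (DCoh.D X) (1 : ℤ) (-1) (by omega)).app T.obj₁)

lemma isIso_restrict_iff {T : Triangle (DCoh.D X)} (hT : T ∈ distTriang _) :
    IsIso ((DCoh.restrictD W.ι).map T.mor₁) ↔ Van W T.obj₃ := by
  rw [van_iff]
  exact (Triangle.isZero₃_iff_isIso₁ _ ((DCoh.restrictD W.ι).map_distinguished _ hT)).symm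

lemma isIso_restrict_iff₂ {T : Triangle (DCoh.D X)} (hT : T ∈ distTriang _) :
    IsIso ((DCoh.restrictD W.ι).map T.mor₂) ↔ Van W T.obj₁ := by
  rw [van_iff]
  exact (Triangle.isZero₁_iff_isIso₂ _ ((DCoh.restrictD W.ι).map_distinguished _ hT)).symm

lemma isZero_restrict_restrict_iff (k : V ⟶ U) (j : U ⟶ X) [IsOpenImmersion k] [IsOpenImmersion j]
    (K : DCoh.D X) :
    IsZero ((DCoh.restrictD k).obj ((DCoh.restrictD j).obj K)) ↔ Van (k ≫ j).opensRange K := by
  rw [← isZero_restrictD_iff_van]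
  exact ⟨fun h => h.of_iso ((compIso k j).app K), fun h => h.of_iso ((compIso k j).app K).symm⟩

lemma van_restrict_iff (j : U ⟶ X) [IsOpenImmersion j] (W₀ : U.Opens) (K : DCoh.D X) :
    Van W₀ ((DCoh.restrictD j).obj K) ↔ Van (j ''ᵁ W₀) K := by
  rw [van_iff, isZero_restrict_restrict_iff, Scheme.Hom.opensRange_comp, Scheme.Opens.opensRange_ι]

/-! ### The unit of restriction and pushforward -/

/-- The unit `K ⟶ Rj_*(K|_U)`. -/
noncomputable abbrev unit (j : U ⟶ X) [IsOpenImmersion j] [DCoh.HasRpush j] (K : DCoh.D X) :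
    K ⟶ (DCoh.Rpush j).obj ((DCoh.restrictD j).obj K) :=
  (OpenImm.restrictPushAdj j).unit.app K

lemma isIso_restrict_unit (j : U ⟶ X) [IsOpenImmersion j] [DCoh.HasRpush j] (K : DCoh.D X) :
    IsIso ((DCoh.restrictD j).map (unit j K)) := by
  haveI := OpenImm.isIso_restrictPushAdj_counit j
  exact IsIso.of_isIso_fac_right ((OpenImm.restrictPushAdj j).left_triangle_components K)

lemma quasiCompact_ι [QuasiSeparatedSpace X] {U : X.Opens} (hU : IsCompact (U : Set X)) :
    QuasiCompact U.ι := by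
  rw [quasiCompact_iff_isSpectralMap]
  refine ⟨U.ι.continuous, fun s ho hc => ?_⟩
  rw [Topology.IsInducing.isCompact_iff U.ι.isOpenEmbedding.isInducing,
    Set.image_preimage_eq_inter_range, Scheme.Opens.range_ι, Set.inter_comm]
  exact hU.inter_of_isOpen hc U.2 ho

/-! ### Perfect objects -/

lemma isPerfect_restrict (j : U ⟶ X) [IsOpenImmersion j] (hK : DCoh.IsPerfect K) :
    DCoh.IsPerfect ((DCoh.restrictD j).obj K) :=
  (Perfect.Triangle.isPerfect_iff _).2 fun y =>
    ((Perfect.Triangle.isPerfect_iff K).1 hK (j y)).restrict j y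

lemma isPerfect_of_cover (h : ∀ x : X, ∃ (U : Scheme.{u}) (j : U ⟶ X) (_ : IsOpenImmersion j) (y : U),
    j y = x ∧ DCoh.IsPerfect ((DCoh.restrictD j).obj K)) : DCoh.IsPerfect K :=
  (Perfect.Triangle.isPerfect_iff _).2 fun x => by
    obtain ⟨U, j, hj, y, hy, hU⟩ := h x
    exact Perfect.Triangle.PerfAt.of_restrict hy ((Perfect.Triangle.isPerfect_iff _).1 hU y)

lemma isPerfect_of_two {U V : X.Opens} (hUV : U ⊔ V = ⊤)
    (hU : DCoh.IsPerfect ((DCoh.restrictD U.ι).obj K))
    (hV : DCoh.IsPerfect ((DCoh.restrictD V.ι).obj K)) : DCoh.IsPerfect K :=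
  isPerfect_of_cover fun x => by
    have hx : x ∈ U ⊔ V := hUV ▸ trivial
    rcases hx with hx | hx
    exacts [⟨_, U.ι, inferInstance, ⟨x, hx⟩, rfl, hU⟩, ⟨_, V.ι, inferInstance, ⟨x, hx⟩, rfl, hV⟩]

lemma isPerfect_of_retract (r : Retract K L) (h : DCoh.IsPerfect L) : DCoh.IsPerfect K := by
  obtain ⟨C, g, δ, hT⟩ := distinguished_cocone_triangle r.i
  haveI : Mono r.i := SplitMono.mono ⟨r.r, r.retract⟩
  have hδ : δ = 0 := by
    haveI : Mono (r.i⟦(1 : ℤ)⟧') :=
      SplitMono.mono ⟨r.r⟦(1 : ℤ)⟧', by rw [← Functor.map_comp, r.retract, CategoryTheory.Functor.map_id]⟩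
    exact (cancel_mono (r.i⟦(1 : ℤ)⟧')).1 ((comp_distTriang_mor_zero₃₁ _ hT).trans zero_comp.symm)
  obtain ⟨e, -, -⟩ := exists_iso_binaryBiproduct_of_distTriang _ hT hδ
  exact Perfect.SummandPerfect.isPerfect_of_biprod K C (Perfect.Triangle.isPerfect_of_iso e h)

lemma isPerfect_of_isEmpty [IsEmpty X] (K : DCoh.D X) : DCoh.IsPerfect K :=
  isPerfect_of_cover fun x => isEmptyElim x

end Groth.Agent.Lib.Gen43.Restrict
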