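import Groth.Agent.Lib.Gen43.Compact
import Groth.Agent.Lib.DerCat.Hocolim
import Groth.Agent.Lib.DerivedOX.QCohCoprod
import Groth.Agent.Lib.QCoh.Localizing
import Groth.Prelude.Def_KLin
import Mathlib.Algebra.Homology.DerivedCategory.Linear

/-!
# A power of a function kills maps from perfect objects to objects supported on its zero locus
-/

set_option autoImplicit false
set_option linter.style.haveILetI false
set_option linter.unusedSectionVars false

universe u

open CategoryTheory Limits AlgebraicGeometry Pretriangulated TopologicalSpace Opposite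

attribute [local instance] HasDerivedCategory.standard

namespace Groth.Agent.Lib.Gen43.SmulNilp

open Groth.Agent.Lib.DerivedOX Groth.Agent.Lib.DerCat.FixCoprod

variable {A : Type u} [CommRing A] {X : Scheme.{u}} [X.Over (Spec (CommRingCat.of A))]

/-- The global function attached to `a`. -/
noncomputable abbrev gl (X : Scheme.{u}) [X.Over (Spec (CommRingCat.of A))] (a : A) : Γ(X, ⊤) :=
  Coh.toGlobal (X ↘ Spec (CommRingCat.of A)) a

/-- Scalars act on cohomology sheaves by scalars. -/
theorem map_homology_smul_id (K : DCoh.D X) (a : A) (j : ℤ) :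
    (DerivedCategory.homologyFunctor X.Modules j).map (a • 𝟙 K) = a • 𝟙 _ := by
  let H := DerivedCategory.homologyFunctor X.Modules j
  let H' := HomologicalComplex.homologyFunctor X.Modules (ComplexShape.up ℤ) j
  let C := DerivedCategory.Q.objPreimage K
  let e : DerivedCategory.Q.obj C ≅ K := DerivedCategory.Q.objObjPreimageIso K
  let θ := DerivedCategory.homologyFunctorFactors X.Modules j
  have hK : a • 𝟙 K = e.inv ≫ DerivedCategory.Q.map (a • 𝟙 C) ≫ e.hom := by
    rw [Functor.map_smul, CategoryTheory.Functor.map_id, Linear.smul_comp, Linear.comp_smul,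
      Category.id_comp, e.inv_hom_id]
  have h' : H'.map (a • 𝟙 C) = a • 𝟙 _ := by
    change ShortComplex.homologyMap ((HomologicalComplex.shortComplexFunctor _ _ j).map (a • 𝟙 C)) = _
    rw [show (HomologicalComplex.shortComplexFunctor X.Modules (ComplexShape.up ℤ) j).map (a • 𝟙 C) =
      a • 𝟙 _ from by ext <;> rfl, ShortComplex.homologyMap_smul, ShortComplex.homologyMap_id]
    rfl
  have hQ : H.map (DerivedCategory.Q.map (a • 𝟙 C)) = a • 𝟙 _ := by
    refine (cancel_mono (θ.hom.app C)).1 ((θ.hom.naturality (a • 𝟙 C)).trans ?_)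
    rw [h', Linear.comp_smul, Linear.smul_comp, Category.comp_id]
    exact congrArg _ (Category.id_comp _).symm
  change H.map (a • 𝟙 K) = a • 𝟙 (H.obj K)
  rw [hK, Functor.map_comp, Functor.map_comp, hQ, Linear.smul_comp, Linear.comp_smul,
    Category.id_comp, ← Functor.map_comp, e.inv_hom_id, CategoryTheory.Functor.map_id]

/-- On a quasi-coherent module supported on `V(a)`, multiplication by `a` is locally nilpotent, so
the telescope has colimit zero. -/
theorem colimit_ι_eq_zero (N : X.Modules) [N.IsQuasicoherent] (a : A)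
    (hN : CohB1.support N ⊆ X.zeroLocus (U := ⊤) {gl X a})
    (c : Cocone (Functor.ofSequence (fun _ : ℕ => a • 𝟙 N))) (n : ℕ) : c.ι.app n = 0 := by
  have hw : ∀ n k : ℕ, (a ^ k • 𝟙 N) ≫ c.ι.app (n + k) = c.ι.app n := by
    intro n k
    induction k with
    | zero => rw [pow_zero, one_smul]; exact Category.id_comp _
    | succ k ih =>
      rw [← ih, pow_succ, mul_smul, Linear.smul_comp, Linear.smul_comp]
      congr 1
      have h := c.w (homOfLE (Nat.le_succ (n + k)))
      rw [Functor.ofSequence_map_homOfLE_succ] at h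
      rw [Category.id_comp]
      exact h
  refine Scheme.Modules.hom_ext _ _ fun U => ?_
  ext s
  change (c.ι.app n).app U s = 0
  refine TopCat.Sheaf.eq_of_locally_eq' ((SheafOfModules.toSheaf _).obj c.pt)
    (fun W : {W : X.affineOpens // W.1 ≤ U} => W.1.1) U (fun W => homOfLE W.2) (fun x hx => ?_) _ _
    fun W => ?_
  · obtain ⟨W, hW, hxW, hWU⟩ := Opens.isBasis_iff_nbhd.1 X.isBasis_affineOpens hx
    exact Opens.mem_iSup.2 ⟨⟨⟨W, hW⟩, hWU⟩, hxW⟩
  · let r : Γ(X, W.1.1) := X.presheaf.map (homOfLE le_top).op (gl X a)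
    let t : Γ(N, W.1.1) := N.presheaf.map (homOfLE W.2).op s
    have hz : QCoh.Localizing.res N (X.basicOpen_le r) t = 0 := by
      refine TopCat.Presheaf.section_ext ((SheafOfModules.toSheaf _).obj N) _ _ _ fun x hx => ?_
      have hsub : Subsingleton (N.presheaf.stalk x) := not_not.1 fun h => by
        have hx' := hN h
        rw [Scheme.zeroLocus_singleton] at hx'
        exact hx' (by
          have := X.basicOpen_res (gl X a) (homOfLE (le_top : W.1.1 ≤ ⊤)).op
          have hx2 : x ∈ W.1.1 ⊓ X.basicOpen (gl X a) := this ▸ hx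
          exact hx2.2)
      exact @Subsingleton.elim _ hsub _ _
    obtain ⟨k, hk⟩ := QCoh.Localizing.exists_pow_smul_eq_zero_of_isCompact N W.1.2.isCompact r t hz
    have e1 : ((a ^ k • 𝟙 N) : N ⟶ N).app W.1.1 t = r ^ k • t := by
      rw [KLin.smul_app_apply]
      change X.presheaf.map (homOfLE le_top).op (gl X (a ^ k)) • t = _
      rw [show gl X (a ^ k) = gl X a ^ k from map_pow _ _ _, map_pow]
    have e2 : (c.ι.app n).app W.1.1 t = 0 := by
      rw [← hw n k]
      change (c.ι.app (n + k)).app W.1.1 (((a ^ k • 𝟙 N) : N ⟶ N).app W.1.1 t) = 0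
      exact (congrArg _ (e1.trans hk)).trans (map_zero _)
    exact (((ConcreteCategory.congr_hom ((c.ι.app n).mapPresheaf.naturality (homOfLE W.2).op) s).symm).trans e2).trans
      (map_zero _).symm

/-- The main statement. -/
theorem exists_pow_smul_eq_zero [CompactSpace X] [QuasiSeparatedSpace X] (a : A) {E E' : DCoh.D X}
    (hE : DCoh.IsPerfect E) (hq : DCoh.IsQCohD E')
    (hsupp : ∀ i : ℤ, CohB1.support (DCoh.HD E' i) ⊆ X.zeroLocus (U := ⊤) {gl X a})
    (α : E ⟶ E') : ∃ n : ℕ, a ^ n • α = 0 := by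
  classical
  haveI := CompactUnit.hasCoproduct (ULift.{u} ℕ) fun _ : ULift.{u} ℕ => E'
  haveI : HasColimitsOfShape (Discrete ℕ) (DCoh.D X) := by
    haveI : HasColimitsOfShape (Discrete (ULift.{u} ℕ)) (DCoh.D X) :=
      ⟨fun F => by
        haveI : HasColimit (Discrete.functor (F.obj ∘ Discrete.mk)) :=
          CompactUnit.hasCoproduct (ULift.{u} ℕ) fun x => F.obj ⟨x⟩
        exact hasColimit_of_iso Discrete.natIsoFunctor⟩
    exact hasColimitsOfShape_of_equivalence (Discrete.equivalence (Equiv.ulift.{u} (α := ℕ)))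
  let K : ℕ → DCoh.D X := fun _ => E'
  let f : ∀ n, K n ⟶ K (n + 1) := fun _ => a • 𝟙 E'
  obtain ⟨L, p, c, hT⟩ := distinguished_cocone_triangle (𝟙 (∐ K) - DerLim.shiftMap K f)
  have hL : DerLim.IsHocolim K f L (fun n => Sigma.ι K n ≫ p) :=
    ⟨c, by rw [show Sigma.desc (fun n => Sigma.ι K n ≫ p) = p from Sigma.hom_ext _ _ fun n => by simp]
           exact hT⟩
  have hL0 : IsZero L := by
    refine OpenSupport.isZero_of_homology _ fun j => ?_
    let H := DerivedCategory.homologyFunctor X.Modules j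
    haveI : ∀ (ι : Type u), PreservesColimitsOfShape (Discrete ι) H := fun ι =>
      ⟨fun {G} => by
        haveI : PreservesColimit (Discrete.functor (G.obj ∘ Discrete.mk)) H :=
          QCohCoprod.preservesColimit_homology (fun x => G.obj ⟨x⟩) j
        exact preservesColimit_of_iso_diagram _ Discrete.natIsoFunctor.symm⟩
    haveI : PreservesColimitsOfShape (Discrete ℕ) H :=
      preservesColimitsOfShape_of_equiv (Discrete.equivalence (Equiv.ulift.{u} (α := ℕ))) H
    haveI : HasExactColimitsOfShape ℕ X.Modules := by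
      haveI : IsFiltered (AsSmall.{u} ℕ) := IsFiltered.of_equivalence AsSmall.equiv
      exact HasExactColimitsOfShape.of_domain_equivalence X.Modules (AsSmall.equiv (C := ℕ)).symm
    obtain ⟨e, -⟩ := DerCat.Hocolim.exists_iso_colimit H K f L _ hL
    refine IsZero.of_iso ?_ e.symm
    haveI : (H.obj E').IsQuasicoherent := hq j
    have hs : (Functor.ofSequence fun n => H.map (f n)) =
        Functor.ofSequence (fun _ : ℕ => a • 𝟙 (H.obj E')) :=
      congrArg _ (funext fun _ => map_homology_smul_id E' a j)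
    rw [hs, IsZero.iff_id_eq_zero]
    exact colimit.hom_ext fun n => by
      have := colimit_ι_eq_zero (H.obj E') a (hsupp j) (colimit.cocone _) n
      rw [Category.comp_id, comp_zero]
      exact this
  haveI : IsIso (𝟙 (∐ K) - DerLim.shiftMap K f) := (Triangle.isZero₃_iff_isIso₁ _ hT).1 hL0
  let h : E ⟶ ∐ K := α ≫ Sigma.ι K 0 ≫ inv (𝟙 (∐ K) - DerLim.shiftMap K f)
  let b : (∐ K) ⟶ ∐ (fun _ : ULift.{u} ℕ => E') :=
    Sigma.desc fun n => Sigma.ι (fun _ : ULift.{u} ℕ => E') ⟨n⟩
  obtain ⟨s, hs⟩ := Compact.goodP X E hE (ULift.{u} ℕ) _ (fun _ => hq) (h ≫ b)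
  obtain ⟨N, hN⟩ := (s.image ULift.down).exists_nat_subset_range
  refine ⟨N, ?_⟩
  let p : (∐ K) ⟶ E' := Sigma.desc fun n => if n ≤ N then a ^ (N - n) • 𝟙 E' else 0
  let q : (∐ fun _ : ULift.{u} ℕ => E') ⟶ E' := Sigma.desc fun n => if n.down = N then 𝟙 E' else 0
  have hp : (𝟙 (∐ K) - DerLim.shiftMap K f) ≫ p = b ≫ q := Sigma.hom_ext _ _ fun n => by
    simp only [Preadditive.sub_comp, Preadditive.comp_sub, Category.id_comp, DerLim.shiftMap, p, q, b,
      Sigma.ι_desc_assoc, Category.assoc, Sigma.ι_desc]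
    rcases lt_trichotomy n N with h | rfl | h
    · rw [if_pos h.le, if_pos (by omega : n + 1 ≤ N), if_neg h.ne, sub_eq_zero]
      simp only [f, Linear.smul_comp, Linear.comp_smul, Category.id_comp, Category.comp_id, smul_smul]
      first | rw [← pow_succ'] | rw [← pow_succ]
      congr 2; omega
    · simp
    · rw [if_neg (by omega : ¬ n ≤ N), if_neg (by omega : ¬ n + 1 ≤ N), if_neg (by omega : ¬ n = N)]
      simp
  have hcut : cut (fun _ : ULift.{u} ℕ => E') s ≫ q = 0 := Sigma.hom_ext _ _ fun n => by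
    rw [← Category.assoc, ι_cut, comp_zero]
    split_ifs with hn
    · have : n.down < N := Finset.mem_range.1 (hN (Finset.mem_image.2 ⟨n, hn, rfl⟩))
      simp [q, this.ne]
    · exact zero_comp
  calc a ^ N • α = α ≫ Sigma.ι K 0 ≫ p := by simp [p, Linear.comp_smul]
    _ = h ≫ (𝟙 (∐ K) - DerLim.shiftMap K f) ≫ p := by simp only [h, Category.assoc, IsIso.inv_hom_id_assoc]
    _ = 0 := by rw [hp, ← Category.assoc, ← hs, Category.assoc, hcut, comp_zero]

end Groth.Agent.Lib.Gen43.SmulNilp
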