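import Groth.Agent.Lib.Gen43.ApproxRing
import Groth.Agent.Lib.Gen43.Affine
import Groth.Agent.Lib.Perfect.PseudoCoh

/-!
# Approximation by perfect complexes on affine schemes
-/

set_option autoImplicit false
set_option linter.style.haveILetI false
set_option linter.unusedSectionVars false

universe u

open CategoryTheory Limits AlgebraicGeometry Pretriangulated
open Groth.Agent.Lib.DR.Basic Groth.Agent.Lib.DR.FiniteComplex Groth.Agent.Lib.DR.PseudoCoherent

attribute [local instance] HasDerivedCategory.standard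

namespace Groth.Agent.Lib.Gen43.ApproxAffine

open Groth.Agent.Lib.Gen43.Restrict Groth.Agent.Lib.Gen43.Affine Groth.Agent.Lib.DerivedOX
open Groth.Agent.Lib.KoszulOrth36 Groth.Agent.Lib.Perfect

/-- Cohomology sheaves in degrees `≥ a` vanish on `W`. -/
def VanGE {X : Scheme.{u}} (W : X.Opens) (a : ℤ) (E : DCoh.D X) : Prop :=
  ∀ i : ℤ, a ≤ i → ∀ x ∈ W, x ∉ CohB1.support (DCoh.HD E i)

lemma isZero_restrict_of_not_mem {X : Scheme.{u}} (W : X.Opens) (M : X.Modules)
    (h : ∀ x ∈ W, x ∉ CohB1.support M) : IsZero (M.restrict W.ι) := by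
  refine (Modules.Stalk.isZero_iff_stalk_subsingleton).2 fun x => ?_
  haveI : Subsingleton (M.presheaf.stalk (W.ι x)) := not_not.1 (h _ x.2)
  exact (Modules.StalkRestrict.restrictStalkAddEquiv W.ι M x).injective.subsingleton

lemma VanGE.restrict {X U : Scheme.{u}} (j : U ⟶ X) [IsOpenImmersion j] {W : X.Opens} {a : ℤ}
    {E : DCoh.D X} (h : VanGE W a E) : VanGE (j ⁻¹ᵁ W) a ((DCoh.restrictD j).obj E) := by
  intro i hi x hx hx'
  refine h i hi (j x) hx fun hsub => hx' ?_
  haveI := hsub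
  have hs : Subsingleton (((DCoh.HD E i).restrict j).presheaf.stalk x) :=
    (Modules.StalkRestrict.restrictStalkAddEquiv j (DCoh.HD E i) x).injective.subsingleton
  exact @Function.Injective.subsingleton _ _ _ ((TopCat.Presheaf.stalkFunctor Ab x).mapIso ((Scheme.Modules.toPresheaf _).mapIso
    (Perfect.Coherent.homologyIso j E i))).addCommGroupIsoToAddEquiv.injective hs

variable {A : Type u} [CommRing A]

/-- The affine case on `Spec A`. -/
theorem spec_approx (fs : List A) (m : ℤ) {E : DCoh.D (S A)} (hq : DCoh.IsQCohD E)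
    (hpc : DCoh.IsPseudoCoherentD m E) (h : VanGE (Sheaf.U A fs) (m - fs.length + 1) E) :
    ∃ (P : DCoh.D (S A)) (α : P ⟶ E), DCoh.IsPerfect P ∧ Van (Sheaf.U A fs) P ∧
      Ascent.Good m α := by
  obtain ⟨E₀, ⟨e⟩⟩ := TildeEquiv.exists_preimage (CommRingCat.of A) E hq
  have hpc₀ : PCn (ff A) m E₀ := TildeD.pcn_of_pcAt (R := CommRingCat.of A) fun x =>
    ((PseudoCoh.iff_forall m E).1 hpc x).of_iso e.symm
  obtain ⟨b, hb⟩ := hpc₀.exists_isLE
  obtain ⟨P₀, α₀, hP, hnil, C, g, δ, hT, hC⟩ := ApproxRing.exists_approx fs m (b - m + 1).toNat E₀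
    hpc₀ (isLE_mono hb (by omega)) fun f hf i hi x =>
      (Sheaf.isZero_restrict_iff A fs _).1 ((isZero_restrict_of_not_mem _ _ (h i hi)).of_iso
        ((Scheme.Modules.restrictFunctor (Sheaf.U A fs).ι).mapIso
          ((Sheaf.HI (CommRingCat.of A) E₀ i).symm ≪≫
            (DerivedCategory.homologyFunctor _ i).mapIso e))) f hf x
  refine ⟨(T A).obj P₀, (T A).map α₀ ≫ e.hom, isPerfect_T hP, van_U_of_nil hnil, ?_⟩
  refine Ascent.Good.comp ?_ (Ascent.Good.of_isIso m _)
  refine (Ascent.good_iff m _ ((T A).map_distinguished _ hT)).2 fun i hi => ?_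
  exact @DerivedCategory.isZero_of_isLE _ _ _ _ _ (m - 1) i (by omega) (Sheaf.isLE_tildeD A hC)

variable {X : Scheme.{u}} [IsAffine X]

/-- The affine case. -/
theorem approx (fs : Finset Γ(X, ⊤)) (W : X.Opens)
    (hW : (W : Set X) = (X.zeroLocus (U := ⊤) (↑fs : Set Γ(X, ⊤)))ᶜ) (m : ℤ) {E : DCoh.D X}
    (hq : DCoh.IsQCohD E) (hpc : DCoh.IsPseudoCoherentD m E) (h : VanGE W (m - fs.card + 1) E) :
    ∃ (P : DCoh.D X) (α : P ⟶ E), DCoh.IsPerfect P ∧ Van W P ∧ Ascent.Good m α := by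
  have hU : Sheaf.U Γ(X, ⊤) fs.toList = spec X ⁻¹ᵁ W := TopologicalSpace.Opens.ext (by
    rw [TopologicalSpace.Opens.map_coe, hW, Set.preimage_compl]
    change (PrimeSpectrum.zeroLocus _)ᶜ = _
    rw [PrimeSpectrum.zeroLocus_span, X.isoSpec_inv_preimage_zeroLocus]
    congr 2
    ext; simp)
  obtain ⟨P, α, hP, hPW, hα⟩ := spec_approx fs.toList m (E := (Φ X).obj E)
    (CompactUnit.isQCohD_restrictD _ hq)
    ((PseudoCoh.iff_forall m _).2 fun y =>
      PseudoCoh.PCAt.restrict (spec X) y ((PseudoCoh.iff_forall m E).1 hpc _))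
    (by rw [Finset.length_toList, hU]; exact h.restrict _)
  let e := (Φ X).objObjPreimageIso P
  refine ⟨(Φ X).objPreimage P, (Φ X).preimage (e.hom ≫ α),
    (isPerfect_Φ_iff _).1 (Triangle.isPerfect_of_iso e.symm hP),
    (van_Φ_iff W _).1 (by rw [← hU]; exact hPW.of_iso e.symm), ?_⟩
  have hg := PseudoCoh.good_restrict (inv (spec X)) (Ascent.Good.comp (Ascent.Good.of_isIso m e.hom) hα)
  let η : DCoh.restrictD (spec X) ⋙ DCoh.restrictD (inv (spec X)) ≅ 𝟭 (DCoh.D X) :=
    compIso' (inv (spec X)) (spec X) (IsIso.inv_hom_id _) ≪≫ idIso X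
  have hn : (Φ X).preimage (e.hom ≫ α) =
      η.inv.app _ ≫ (DCoh.restrictD (inv (spec X))).map (e.hom ≫ α) ≫ η.hom.app E := by
    rw [← (Φ X).map_preimage (e.hom ≫ α)]
    exact ((η.inv.app _ ≫= η.hom.naturality _).trans (by simp)).symm
  rw [hn]
  exact (Ascent.Good.of_isIso m _).comp (hg.comp (Ascent.Good.of_isIso m _))

end Groth.Agent.Lib.Gen43.ApproxAffine
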