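import Groth.Agent.Lib.Gen43.Ring
import Groth.Agent.Lib.PerfVanish.Affine
import Groth.Agent.Lib.DR.TopCohomology
import Groth.Agent.Lib.Perfect.TildeD

/-!
# Approximation by torsion perfect complexes over a ring
-/

set_option autoImplicit false
set_option linter.style.haveILetI false
set_option linter.unusedSectionVars false

universe u

open CategoryTheory Limits Pretriangulated
open Groth.Agent.Lib.DR.Basic Groth.Agent.Lib.DR.FiniteComplex Groth.Agent.Lib.DR.PseudoCoherent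
  Groth.Agent.Lib.DR.Perfect Groth.Agent.Lib.Gen43.Ring

attribute [local instance] HasDerivedCategory.standard

namespace Groth.Agent.Lib.Gen43.ApproxRing

/-- The fibre of a composite: approximations compose along a triangle. -/
theorem exists_fibre {C : Type*} [Category C] [Preadditive C] [HasZeroObject C] [HasShift C ℤ]
    [∀ n : ℤ, (shiftFunctor C n).Additive] [Pretriangulated C] [IsTriangulated C]
    {R E E' P' C' : C} {β : R ⟶ E} {g : E ⟶ E'} {δ : E' ⟶ R⟦(1 : ℤ)⟧}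
    (hT : Triangle.mk β g δ ∈ distTriang C) {β' : P' ⟶ E'} {g' : E' ⟶ C'}
    {δ' : C' ⟶ P'⟦(1 : ℤ)⟧} (hT' : Triangle.mk β' g' δ' ∈ distTriang C) :
    ∃ (P : C) (α : P ⟶ E) (h : C' ⟶ P⟦(1 : ℤ)⟧) (a : R⟦(1 : ℤ)⟧ ⟶ P⟦(1 : ℤ)⟧)
      (b : P⟦(1 : ℤ)⟧ ⟶ P'⟦(1 : ℤ)⟧) (c : P'⟦(1 : ℤ)⟧ ⟶ R⟦(1 : ℤ)⟧⟦(1 : ℤ)⟧),
      Triangle.mk α (g ≫ g') h ∈ distTriang C ∧ Triangle.mk a b c ∈ distTriang C := by
  obtain ⟨P, α, h, h13⟩ := distinguished_cocone_triangle₁ (g ≫ g')
  let O := Triangulated.someOctahedron rfl (rot_of_distTriang _ hT) (rot_of_distTriang _ hT')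
    (rot_of_distTriang _ h13)
  exact ⟨P, α, h, _, _, _, h13, O.mem⟩

variable {A : Type u} [CommRing A]

lemma nil_iso {f : A} {X Y : Dual.D A} (e : X ≅ Y) (h : Nil f X) : Nil f Y := by
  obtain ⟨p, hp⟩ := h
  refine ⟨p, ?_⟩
  rw [← e.inv_hom_id, ← Category.id_comp e.hom, ← Linear.comp_smul, ← Linear.smul_comp, hp,
    zero_comp, comp_zero]

lemma nil_shift {f : A} {X : Dual.D A} (h : Nil f X) (n : ℤ) : Nil f (X⟦n⟧) := by
  obtain ⟨p, hp⟩ := h
  refine ⟨p, ?_⟩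
  rw [← CategoryTheory.Functor.map_id (shiftFunctor (Dual.D A) n) X, ← Functor.map_smul, hp,
    Functor.map_zero]

lemma nil_ext {f : A} {T : Triangle (Dual.D A)} (hT : T ∈ distTriang (Dual.D A))
    (h₁ : Nil f T.obj₁) (h₃ : Nil f T.obj₃) : Nil f T.obj₂ :=
  Nil.cone (T := T.invRotate) (inv_rot_of_distTriang _ hT) (nil_shift h₃ (-1)) h₁

/-- Iterated cones, with degree bounds. -/
theorem exists_factor_bdd {C : Dual.D A} : ∀ (l : List A), (∀ f ∈ l, Tors f C) →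
    ∀ (a b : ℤ) (E : Dual.D A), Bdd (fproj A) a b E → ∀ φ : E ⟶ C,
    ∃ (Q : Dual.D A) (g : E ⟶ Q) (β : Q ⟶ C), g ≫ β = φ ∧ Bdd (fproj A) (a - l.length) b Q ∧
      (∀ f ∈ l, Nil f Q) ∧ (∀ f : A, Nil f E → Nil f Q) := by
  intro l
  induction l with
  | nil =>
    exact fun _ a b E hE φ => ⟨E, 𝟙 E, φ, Category.id_comp _, hE.mono (by simp) le_rfl,
      fun f hf => absurd hf (by simp), fun _ h => h⟩
  | cons f l ih =>
    intro htor a b E hE φ
    obtain ⟨k, hk⟩ := exists_pow_smul_eq_zero (htor f List.mem_cons_self) ⟨a, b, hE⟩ φ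
    obtain ⟨Q₁, g, h, hT⟩ := distinguished_cocone_triangle (f ^ k • 𝟙 E)
    obtain ⟨(b₁ : Q₁ ⟶ C), (hb₁ : φ = g ≫ b₁)⟩ := Triangle.yoneda_exact₂ _ hT φ (by
      show (f ^ k • 𝟙 E) ≫ φ = 0
      rw [Linear.smul_comp, Category.id_comp, hk])
    have hQ₁ : Bdd (fproj A) (a - 1) b Q₁ := Bdd.cone good_fproj projective_of_fproj _ hT hE hE
      (show a - 1 + 1 ≤ a by omega) (show a - 1 ≤ a by omega) (show b ≤ b + 1 by omega) le_rfl
    obtain ⟨Q, g', β, hgβ, hQ, hl, hpres⟩ :=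
      ih (fun f' hf' => htor f' (List.mem_cons_of_mem f hf')) (a - 1) b Q₁ hQ₁ b₁
    refine ⟨Q, g ≫ g', β, by rw [Category.assoc, hgβ, ← hb₁],
      hQ.mono (by simp only [List.length_cons]; push_cast; omega) le_rfl, fun f' hf' => ?_,
      fun f' hf' => hpres f' (Nil.cone hT hf' hf')⟩
    rcases List.mem_cons.1 hf' with rfl | hf'
    · exact hpres f' (nil_cone_pow hT)
    · exact hl f' hf'

/-- Maps from a bounded complex of projectives to an object in lower degrees vanish. -/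
lemma eq_zero_of_bdd {a b c : ℤ} {Q L : Dual.D A} (hQ : Bdd (fproj A) a b Q) [L.IsLE c] (hc : c < a)
    (φ : Q ⟶ L) : φ = 0 := by
  obtain ⟨E, hE, hp, ⟨e⟩⟩ := hQ
  haveI : E.IsStrictlyGE a := (E.isStrictlyGE_iff a).2 fun i hi => hE i (Or.inl hi)
  haveI : E.IsStrictlyLE (max a b) := (E.isStrictlyLE_iff _).2 fun i hi => hE i (Or.inr (by omega))
  rw [← cancel_epi e.hom, comp_zero]
  exact PerfVanish.Affine.eq_zero_of_projective E a (max a b) (le_max_left _ _)
    (fun i => projective_of_fproj _ (hp i)) L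
    (fun i hi _ => DerivedCategory.isZero_of_isLE L c i (by omega)) _

lemma tors_cone {f : A} {Q E E' : Dual.D A} {β : Q ⟶ E} {g : E ⟶ E'} {δ : E' ⟶ Q⟦(1 : ℤ)⟧}
    (hT : Triangle.mk β g δ ∈ distTriang (Dual.D A)) (hQ : Nil f Q) (i : ℤ)
    (hE : ∀ m : Dual.HD A E i, ∃ k : ℕ, f ^ k • m = 0) :
    ∀ m : Dual.HD A E' i, ∃ k : ℕ, f ^ k • m = 0 := by
  intro m
  have hex := (ShortComplex.moduleCat_exact_iff _).1
    (DerivedCategory.HomologySequence.exact₃ _ hT i (i + 1) rfl)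
  obtain ⟨k, hk⟩ := hQ.tors (i + 1) ((DerivedCategory.HomologySequence.δ (Triangle.mk β g δ) i (i + 1) rfl).hom m)
  obtain ⟨x, hx⟩ := hex (f ^ k • m) ((map_smul _ (f ^ k) m).trans hk)
  obtain ⟨l, hl⟩ := hE x
  refine ⟨l + k, ?_⟩
  rw [pow_add, mul_smul, ← hx]
  exact (map_smul _ _ _).symm.trans ((congrArg _ hl).trans (map_zero _))

/-- Approximation by perfect complexes nilpotent for a list of elements. -/
theorem exists_approx (fs : List A) (m : ℤ) : ∀ (k : ℕ) (E : Dual.D A), PCn (ff A) m E →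
    E.IsLE (m + k - 1) →
    (∀ f ∈ fs, ∀ i : ℤ, m - fs.length + 1 ≤ i → ∀ x : Dual.HD A E i, ∃ p : ℕ, f ^ p • x = 0) →
    ∃ (P : Dual.D A) (α : P ⟶ E), Pf P ∧ (∀ f ∈ fs, Nil f P) ∧ ConeLE α (m - 1) := by
  intro k
  induction k with
  | zero =>
    intro E _ hE _
    obtain ⟨Z, hZ⟩ := HasZeroObject.zero (C := Dual.D A)
    exact ⟨Z, 0, pf_zero hZ, fun f _ => ⟨0, hZ.eq_of_src _ _⟩,
      coneLE_of_isLE _ (isLE_of_isZero hZ _) (isLE_mono hE (by omega))⟩
  | succ k ih =>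
    intro E hpc hE htor
    rcases fs.eq_nil_or_concat with rfl | hne
    · obtain ⟨K, a, b, α, h1, h2, h3⟩ := hpc
      exact ⟨_, α, Pf.of_iso ⟨a, b, K, h1, fun i => fproj_of_ff _ (h2 i), ⟨Iso.refl _⟩⟩ (Iso.refl _),
        fun f hf => absurd hf (by simp), h3⟩
    have hlen : 1 ≤ fs.length := by
      obtain ⟨l, x, rfl⟩ := hne; simp
    haveI hb : E.IsLE (m + k) := isLE_mono hE (by omega)
    haveI := (DR.TopCohomology.finite_top (X := E) (m := m) (n := m + k)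
      (by obtain ⟨K, a, b, α, h1, h2, h3⟩ := hpc; exact ⟨K, a, b, α, h1, fun i => fproj_of_ff _ (h2 i), h3⟩)
      (by omega) hb).1
    have htop : ∃ (F : ModuleCat.{u} A)
        (f : (DerivedCategory.singleFunctor (ModuleCat.{u} A) (m + k)).obj F ⟶ E),
        ff A F ∧ ConeLE f (m + k - 1) :=
      Perfect.TildeD.exists_cone_top (R := CommRingCat.of A) (X := E) (m + k) hb
    obtain ⟨F, f, hF, hf⟩ := htop
    let a : ℤ := m - fs.length + 1
    let t : Triangulated.TStructure (Dual.D A) := DerivedCategory.TStructure.t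
    let T := (t.triangleLTGE a).obj E
    have hT : T ∈ distTriang (Dual.D A) := t.triangleLTGE_distinguished a E
    haveI h1 : T.obj₁.IsLE (a - 1) := inferInstanceAs (t.IsLE ((t.truncLT a).obj E) (a - 1))
    have htor' : ∀ f ∈ fs, Tors f T.obj₃ := fun f hf i x => by
      by_cases hi : i < a
      · haveI : DerivedCategory.IsGE T.obj₃ a := inferInstanceAs (t.IsGE ((t.truncGE a).obj E) a)
        haveI := ModuleCat.subsingleton_of_isZero (DerivedCategory.isZero_of_isGE T.obj₃ a i hi)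
        exact ⟨0, Subsingleton.elim _ _⟩
      · haveI := DerCat.TStruct.isIso_homologyMap_mor₂ T hT (a - 1) i (by omega)
        obtain ⟨p, hp⟩ := htor f hf i (by omega)
          ((inv ((DerivedCategory.homologyFunctor (ModuleCat.{u} A) i).map T.mor₂)).hom x)
        refine ⟨p, ?_⟩
        let H := (DerivedCategory.homologyFunctor (ModuleCat.{u} A) i).map T.mor₂
        have h0 : H.hom ((inv H).hom x) = x := by
          rw [← CategoryTheory.comp_apply, IsIso.inv_hom_id]; rfl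
        have := (congrArg H.hom hp).trans (map_zero _)
        refine Eq.trans ?_ this
        exact (congrArg (f ^ p • ·) h0.symm).trans (map_smul H.hom _ _).symm
    have hS : Bdd (fproj A) (m + k) (m + k)
        ((DerivedCategory.singleFunctor (ModuleCat.{u} A) (m + k)).obj F) :=
      bdd_single good_fproj (fproj_of_ff _ hF) _
    obtain ⟨Q, g, β₀, hgβ, hQ, hnil, -⟩ :=
      exists_factor_bdd fs htor' _ _ _ hS (f ≫ T.mor₂)
    haveI : (T.obj₁⟦(1 : ℤ)⟧).IsLE (a - 2) :=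
      (isLE_shift_iff' T.obj₁ 1 (a - 1) (a - 2) (by omega)).2 h1
    obtain ⟨(β : Q ⟶ E), (hβ : β₀ = β ≫ T.mor₂)⟩ :=
      Triangle.coyoneda_exact₃ T hT β₀ (eq_zero_of_bdd hQ (c := a - 2) (by omega) _)
    have hgf : g ≫ β = f := by
      obtain ⟨ψ, (hψ : g ≫ β - f = ψ ≫ T.mor₁)⟩ := Triangle.coyoneda_exact₂ T hT (g ≫ β - f) (by
        show (g ≫ β - f) ≫ T.mor₂ = 0
        rw [Preadditive.sub_comp, Category.assoc, ← hβ, hgβ]; exact sub_self _)
      rw [eq_zero_of_bdd hS (c := a - 1) (by omega) ψ, zero_comp] at hψ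
      exact sub_eq_zero.1 hψ
    haveI hQle : Q.IsLE (m + k) := hQ.isLE
    have hcone : ConeLE β (m + k - 1) := by
      rw [coneLE_iff]
      refine ⟨fun j hj => ⟨0, (DerivedCategory.isZero_of_isLE Q (m + k) j (by omega)).eq_of_src _ _,
        (DerivedCategory.isZero_of_isLE E (m + k) j (by omega)).eq_of_src _ _⟩, ?_⟩
      have h' := ((coneLE_iff f _).1 hf).2
      rw [← hgf, Functor.map_comp] at h'
      exact epi_of_epi ((DerivedCategory.homologyFunctor _ _).map g) _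
    obtain ⟨E', g₁, δ₁, hd, hE'⟩ := hcone
    obtain ⟨P', β', hP', hn', hc'⟩ := ih E'
      (PCn.cone good_ff projective_of_ff _ hd (Pf.pcn ⟨_, _, hQ⟩ _) hpc) hE'
      (fun f hf i hi => tors_cone hd (hnil f hf) i (htor f hf i hi))
    obtain ⟨C', g', δ', hd', hC'⟩ := hc'
    obtain ⟨P, α, h, a', b', c', h13, hmem⟩ := exists_fibre hd hd'
    exact ⟨P, α, Pf.of_shift (pf₂ _ hmem (Pf.shift ⟨_, _, hQ⟩ 1) (hP'.shift 1)),
      fun f hf => nil_iso ((shiftFunctorCompIsoId (Dual.D A) (1 : ℤ) (-1) (by omega)).app P)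
        (nil_shift (nil_ext hmem (nil_shift (hnil f hf) 1) (nil_shift (hn' f hf) 1)) (-1)),
      _, _, _, h13, hC'⟩

end Groth.Agent.Lib.Gen43.ApproxRing
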