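import Groth.Agent.Lib.Gen43.Compact
import Groth.Agent.Lib.Gen43.Glue
import Groth.Agent.Lib.DMod.Basic

/-!
# Morphisms from perfect objects to quasi-coherent objects with countable sections
-/

set_option autoImplicit false
set_option linter.style.haveILetI false
set_option linter.unusedSectionVars false

universe u

open CategoryTheory Limits AlgebraicGeometry Pretriangulated Opposite

attribute [local instance] HasDerivedCategory.standard

namespace Groth.Agent.Lib.Gen43.Countable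

open Groth.Agent.Lib.Gen43.Restrict Groth.Agent.Lib.DerivedOX
open Groth.Agent.Lib.DerivedOX.CompactUnit (oneD)

variable {X Y : Scheme.{u}}

/-- Cohomology sheaves with countably many sections over affine opens. -/
def CK (K : DCoh.D X) : Prop :=
  ∀ V : X.Opens, IsAffineOpen V → ∀ i : ℤ, Countable ((DCoh.HD K i).val.obj (op V))

lemma ck_restrict (j : X ⟶ Y) [IsOpenImmersion j] {K : DCoh.D Y} (h : CK K) :
    CK ((DCoh.restrictD j).obj K) := fun V hV i => by
  have hc : Countable (((Scheme.Modules.restrictFunctor j).obj (DCoh.HD K i)).val.obj (op V)) :=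
    h (j ''ᵁ V) (hV.image_of_isOpenImmersion j) i
  let e : DCoh.HD ((DCoh.restrictD j).obj K) i ≅ (Scheme.Modules.restrictFunctor j).obj (DCoh.HD K i) :=
    Perfect.Coherent.homologyIso j K i
  exact @Function.Injective.countable _ _ hc (fun s => e.hom.app V s) fun a b hab => by
    have h' := congrArg (e.inv.app V) hab
    simp only at h'
    rwa [← ConcreteCategory.comp_apply, ← ConcreteCategory.comp_apply, ← Scheme.Modules.Hom.comp_app,
      e.hom_inv_id] at h'

/-- The property to be proved. -/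
def GoodC (X : Scheme.{u}) : Prop :=
  ∀ E : DCoh.D X, DCoh.IsPerfect E → ∀ K : DCoh.D X, DCoh.IsQCohD K → CK K →
    ∀ i : ℤ, Countable (E ⟶ K⟦i⟧)

lemma countable_iso {A A' B B' : DCoh.D X} (a : A ≅ A') (b : B ≅ B') (h : Countable (A ⟶ B)) :
    Countable (A' ⟶ B') :=
  haveI := h
  (Iso.homCongr a b).symm.injective.countable

lemma countable_restrict (j : X ⟶ Y) [IsOpenImmersion j] (E : DCoh.D X) (K : DCoh.D Y) (i : ℤ)
    (h : Countable (E ⟶ ((DCoh.restrictD j).obj K)⟦i⟧)) :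
    Countable ((CxOX.extZeroD j).obj E ⟶ K⟦i⟧) :=
  @Function.Injective.countable _ _
    (countable_iso (Iso.refl _) (((DCoh.restrictD j).commShiftIso i).app K).symm h) _
    ((Glue.adjEz j).homEquiv E (K⟦i⟧)).injective

lemma goodC_of_iso (e : X ≅ Y) (h : GoodC X) : GoodC Y := fun E hE K hK hKc i => by
  haveI := h _ (isPerfect_restrict e.hom hE) _ (CompactUnit.isQCohD_restrictD e.hom hK)
    (ck_restrict e.hom hKc) i
  exact @Function.Injective.countable _ _
    (countable_iso (Iso.refl _) (((DCoh.restrictD e.hom).commShiftIso i).app K).symm this)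
    ((DCoh.restrictD e.hom).map (X := E) (Y := K⟦i⟧)) (DCoh.restrictD e.hom).map_injective

lemma goodC_of_isEmpty (X : Scheme.{u}) [IsEmpty X] : GoodC X := fun E _ K _ _ i =>
  have h : IsZero E := OpenImm.isZero_of_supports fun _ => Set.eq_empty_of_isEmpty _
  haveI : Subsingleton (E ⟶ K⟦i⟧) := ⟨fun _ _ => h.eq_of_src _ _⟩
  inferInstance

lemma goodC_of_range (j : X ⟶ Y) [IsOpenImmersion j] (U : Y.Opens) (hr : j.opensRange = U)
    (h : GoodC U) : GoodC X := by
  subst hr
  exact goodC_of_iso j.isoOpensRange.symm h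

lemma countable_of_exact {A B C : Type*} [AddCommGroup A] [AddCommGroup B] [AddCommGroup C]
    (f : A →+ B) (g : B →+ C) (hfg : ∀ b, g b = 0 → ∃ a, f a = b) [Countable A] [Countable C] :
    Countable B := by
  classical
  let s : C → B := fun c => if h : ∃ b, g b = c then h.choose else 0
  have hs : ∀ b, g (s (g b)) = g b := fun b => by
    have h : ∃ b', g b' = g b := ⟨b, rfl⟩
    simp only [s, dif_pos h]
    exact h.choose_spec
  refine Function.Surjective.countable (f := fun p : A × C => f p.1 + s p.2) fun b => ?_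
  obtain ⟨a, ha⟩ := hfg (b - s (g b)) (by rw [map_sub, hs, sub_self])
  exact ⟨(a, g b), by simp [ha]⟩

lemma countable_obj₃ (T : Triangle (DCoh.D X)) (hT : T ∈ distTriang _) (L : DCoh.D X)
    (h₁ : Countable (T.obj₁⟦(1 : ℤ)⟧ ⟶ L)) (h₂ : Countable (T.obj₂ ⟶ L)) :
    Countable (T.obj₃ ⟶ L) :=
  countable_of_exact (A := T.obj₁⟦(1 : ℤ)⟧ ⟶ L) (C := T.obj₂ ⟶ L)
    (Preadditive.leftComp L T.mor₃) (Preadditive.leftComp L T.mor₂) fun b hb => by
      obtain ⟨a, ha⟩ := Triangle.yoneda_exact₃ T hT b hb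
      exact ⟨a, ha.symm⟩

lemma countable_shift_left {A B : DCoh.D X} (n i : ℤ) (h : Countable (A ⟶ B⟦i - n⟧)) :
    Countable (A⟦n⟧ ⟶ B⟦i⟧) :=
  @Function.Injective.countable _ _
    (countable_iso (Iso.refl _) ((shiftFunctorAdd' (DCoh.D X) i (-n) (i - n) (by lia)).app B) h) _
    ((shiftEquiv (DCoh.D X) n).toAdjunction.homEquiv A (B⟦i⟧)).injective

lemma goodC_of_cover (U V : X.Opens) (hUV : U ⊔ V = ⊤) (hU : GoodC U) (hV : GoodC V)
    (hUV' : GoodC (U ⊓ V : X.Opens)) : GoodC X := fun E hE K hK hKc i => by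
  obtain ⟨a, b, c, hT⟩ := MVExtZero.exists_mv_triangle U V hUV E
  have key : ∀ W : X.Opens, GoodC W → ∀ n : ℤ,
      Countable ((CxOX.extZeroD W.ι).obj ((DCoh.restrictD W.ι).obj E) ⟶ K⟦n⟧) := fun W hW n =>
    countable_restrict W.ι _ K n (hW _ (isPerfect_restrict _ hE) _
      (CompactUnit.isQCohD_restrictD _ hK) (ck_restrict _ hKc) n)
  refine countable_obj₃ (Triangle.mk a b c) hT _ (countable_shift_left 1 i (key _ hUV' _)) ?_
  haveI := key U hU i
  haveI := key V hV i
  exact Function.Injective.countable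
    (f := fun φ => (biprod.inl ≫ φ, biprod.inr ≫ φ)) fun φ ψ h =>
      biprod.hom_ext' _ _ (congrArg Prod.fst h) (congrArg Prod.snd h)

/-- On a spectrum. -/
theorem countable_oneD_spec {A : Type u} [CommRing A] (L : DCoh.D (Affine.S A)) (hL : DCoh.IsQCohD L)
    (hLc : CK L) (i : ℤ) : Countable (oneD (Affine.S A) ⟶ L⟦i⟧) := by
  obtain ⟨L₀, ⟨e⟩⟩ := TildeEquiv.exists_preimage (CommRingCat.of A) L hL
  haveI := TildeEquiv.full (CommRingCat.of A)
  haveI : Countable (Dual.HD A L₀ i) := by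
    let eH := (DerivedCategory.homologyFunctor _ i).mapIso e.symm ≪≫
      KoszulOrth36.Sheaf.HI (CommRingCat.of A) L₀ i
    let eS := (QCoh.Tilde.specΓ (CommRingCat.of A)).mapIso eH ≪≫
      ((QCoh.Tilde.sectionsTildeIso (R := CommRingCat.of A)).app _).symm
    haveI : Countable ((QCoh.Tilde.specΓ (CommRingCat.of A)).obj (DCoh.HD L i)) :=
      hLc ⊤ (isAffineOpen_top _) i
    exact Function.Surjective.countable (f := fun s => eS.hom s) fun t => ⟨eS.inv t, (ConcreteCategory.congr_hom eS.inv_hom_id t).trans rfl⟩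
  haveI : Countable (Dual.inD A A ⟶ L₀⟦i⟧) :=
    (DMod.Basic.homUnitShiftEquiv L₀ i).injective.countable
  have h : Countable ((Affine.T A).obj (Dual.inD A A) ⟶ (Affine.T A).obj (L₀⟦i⟧)) :=
    (Affine.T A).map_surjective.countable
  exact countable_iso (Affine.sgIso' (CommRingCat.of A) 0)
    (((Affine.T A).commShiftIso i).app L₀ ≪≫ (shiftFunctor _ i).mapIso e) h

lemma goodC_of_isAffine (X : Scheme.{u}) [IsAffine X] : GoodC X := fun E hE K hK hKc => by
  refine Affine.perfect_induction (fun P => ∀ i : ℤ, Countable (P ⟶ K⟦i⟧)) ?_ ?_ ?_ ?_ hE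
  · intro P hP i
    haveI : Subsingleton (P ⟶ K⟦i⟧) := ⟨fun _ _ => hP.eq_of_src _ _⟩
    infer_instance
  · intro P Q r h i
    haveI := h i
    exact Function.Surjective.countable (f := fun φ : Q ⟶ K⟦i⟧ => r.i ≫ φ) fun φ =>
      ⟨r.r ≫ φ, by simp⟩
  · intro T hT h₁ h₃ i
    exact countable_of_exact (A := T.obj₃ ⟶ K⟦i⟧) (C := T.obj₁ ⟶ K⟦i⟧)
      (Preadditive.leftComp _ T.mor₂) (Preadditive.leftComp _ T.mor₁)
      (hfg := fun b hb => by
        obtain ⟨a, ha⟩ := Triangle.yoneda_exact₂ T hT b hb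
        exact ⟨a, ha.symm⟩)
  · intro n i
    refine countable_shift_left n i ?_
    exact @Function.Injective.countable _ _
      (countable_iso (CompactUnit.restrictOneIso (Affine.spec X)).symm
        (((Affine.Φ X).commShiftIso (i - n)).app K).symm
        (countable_oneD_spec _ (CompactUnit.isQCohD_restrictD (Affine.spec X) hK)
          (ck_restrict (Affine.spec X) hKc) (i - n)))
      ((Affine.Φ X).map (X := oneD X) (Y := K⟦i - n⟧)) (Affine.Φ X).map_injective

lemma goodC_sup (S U : X.Opens) (hS : GoodC S) (hU : GoodC U) (hSU : GoodC (S ⊓ U : X.Opens)) :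
    GoodC (S ⊔ U : X.Opens) := by
  let W : X.Opens := S ⊔ U
  have hm : ∀ T : X.Opens, T ≤ W → GoodC T → GoodC (W.ι ⁻¹ᵁ T : (W : Scheme.{u}).Opens) :=
    fun T hT h => by
    refine goodC_of_range ((W.ι ⁻¹ᵁ T).ι ≫ W.ι) T ?_ h
    rw [Scheme.Hom.opensRange_comp, Scheme.Opens.opensRange_ι,
      Scheme.Hom.image_preimage_eq_opensRange_inf, Scheme.Opens.opensRange_ι, inf_eq_right.2 hT]
  refine goodC_of_cover (W.ι ⁻¹ᵁ S) (W.ι ⁻¹ᵁ U) ?_ (hm _ le_sup_left hS) (hm _ le_sup_right hU) ?_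
  · rw [← Scheme.Hom.preimage_sup]
    exact eq_top_iff.2 fun x _ => x.2
  · rw [← Scheme.Hom.preimage_inf]
    exact hm _ (inf_le_left.trans le_sup_left) hSU

lemma goodC_bot : GoodC ((⊥ : X.Opens) : Scheme.{u}) :=
  haveI : IsEmpty ((⊥ : X.Opens) : Scheme.{u}) := ⟨fun x => x.2.elim⟩
  goodC_of_isEmpty _

lemma goodC_of_separated [X.IsSeparated] (S : X.Opens) (hS : IsCompact (S : Set X)) : GoodC S := by
  suffices GoodC S ∧ ∀ W : X.affineOpens, GoodC (S ⊓ W.1 : X.Opens) from this.1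
  refine compact_open_induction_on (P := fun S => GoodC S ∧
    ∀ W : X.affineOpens, GoodC (S ⊓ W.1 : X.Opens)) S hS ?_ ?_
  · exact ⟨goodC_bot, fun W => by rw [bot_inf_eq]; exact goodC_bot⟩
  · intro S hS U ih
    haveI : IsAffine (U.1 : Scheme.{u}) := U.2
    refine ⟨goodC_sup _ _ ih.1 (goodC_of_isAffine _) (ih.2 U), fun W => ?_⟩
    have hUW : IsAffineOpen (U.1 ⊓ W.1) := U.2.inf W.2
    haveI : IsAffine ((U.1 ⊓ W.1 : X.Opens) : Scheme.{u}) := hUW
    rw [inf_sup_right]
    refine goodC_sup _ _ (ih.2 W) (goodC_of_isAffine _) ?_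
    have : S ⊓ W.1 ⊓ (U.1 ⊓ W.1) = S ⊓ (U.1 ⊓ W.1) := by
      rw [inf_assoc, inf_left_comm W.1 U.1, inf_idem]
    rw [this]
    exact ih.2 ⟨_, hUW⟩

/-- Morphisms out of perfect objects form countable sets. -/
theorem goodC (X : Scheme.{u}) [CompactSpace X] [QuasiSeparatedSpace X] : GoodC X := by
  suffices ∀ S : X.Opens, IsCompact (S : Set X) → GoodC S from
    goodC_of_range (𝟙 X) ⊤ (Scheme.Hom.opensRange_of_isIso _) (this ⊤ isCompact_univ)
  intro S hS
  refine compact_open_induction_on (P := fun S => GoodC S) S hS ?_ ?_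
  · exact goodC_bot
  · intro S hS U ih
    haveI : IsAffine (U.1 : Scheme.{u}) := U.2
    refine goodC_sup _ _ ih (goodC_of_isAffine _) ?_
    haveI := quasiCompact_ι (X := X) U.2.isCompact
    refine goodC_of_iso ?_ (goodC_of_separated ((U.1).ι ⁻¹ᵁ S) ((U.1).ι.isCompact_preimage hS))
    exact IsOpenImmersion.isoOfRangeEq (((U.1).ι ⁻¹ᵁ S).ι ≫ (U.1).ι) (S ⊓ U.1).ι (by
      rw [← Scheme.Hom.coe_opensRange, Scheme.Hom.opensRange_comp, Scheme.Opens.opensRange_ι,
        Scheme.Hom.image_preimage_eq_opensRange_inf, Scheme.Opens.opensRange_ι, inf_comm,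
        Scheme.Opens.range_ι])

end Groth.Agent.Lib.Gen43.Countable
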