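import Groth.Agent.Lib.Gen43.Countable
import Groth.Agent.Lib.Gen43.Generator
import Groth.Agent.Lib.DerCat.Hocolim
import Groth.Agent.Lib.DerivedOX.QCohCoprod
import Groth.Agent.Lib.Perfect.QCohD

/-!
# Objects with countable cohomology sheaves are homotopy colimits of sequences of perfect objects
-/

set_option autoImplicit false
set_option linter.style.haveILetI false
set_option linter.unusedSectionVars false

universe u

open CategoryTheory Limits AlgebraicGeometry Pretriangulated Opposite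

attribute [local instance] HasDerivedCategory.standard

namespace Groth.Agent.Lib.Gen43.CountableHocolim

open Groth.Agent.Lib.Gen43.Restrict Groth.Agent.Lib.Gen43.Countable Groth.Agent.Lib.DerivedOX
open Groth.Agent.Lib.DerCat Groth.Agent.Lib.DerCat.FixCoprod Groth.Agent.Lib.Perfect
open Groth.Agent.Lib.DerivedOX.CompactUnit (qcD qcD_shift oneD)

variable {X : Scheme.{u}}

/-- A map from a relatively compact object to a countable coproduct is a finite sum. -/
lemma exists_finite_sum {C : DCoh.D X} (hC : Fix.{u} (qcD X) C) (K : ℕ → DCoh.D X)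
    [HasCoproduct K] (hK : ∀ n, DCoh.IsQCohD (K n)) (h : C ⟶ ∐ K) :
    ∃ (N : ℕ) (g : ∀ n, C ⟶ K n), h = ∑ n ∈ Finset.range N, g n ≫ Sigma.ι K n := by
  classical
  let K' : ULift.{u} ℕ → DCoh.D X := fun k => K k.down
  haveI := CompactUnit.hasCoproduct (ULift.{u} ℕ) K'
  let a : (∐ K) ⟶ ∐ K' := Sigma.desc fun n => Sigma.ι K' ⟨n⟩
  let b : (∐ K') ⟶ ∐ K := Sigma.desc fun k => Sigma.ι K k.down
  have hab : a ≫ b = 𝟙 _ := Sigma.hom_ext _ _ fun n => by simp [a, b, K']
  obtain ⟨s, hs⟩ := hC _ K' (fun k => hK k.down) (h ≫ a)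
  obtain ⟨N, hN⟩ := (s.image ULift.down).exists_nat_subset_range
  refine ⟨N, fun n => if (⟨n⟩ : ULift.{u} ℕ) ∈ s then h ≫ a ≫ proj K' ⟨n⟩ else 0, ?_⟩
  have : h = ((h ≫ a) ≫ cut K' s) ≫ b := by rw [hs, Category.assoc, hab, Category.comp_id]
  conv_lhs => rw [this, cut_eq_sum]
  rw [Preadditive.comp_sum, Preadditive.sum_comp, ← Finset.sum_subset hN fun n _ hn => ?_,
    Finset.sum_image (fun x _ y _ e => ULift.ext x y e)]
  · refine Finset.sum_congr rfl fun k hk => ?_
    have hk' : (⟨k.down⟩ : ULift.{u} ℕ) ∈ s := hk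
    simp only [if_pos hk', Category.assoc, b, Sigma.ι_desc]
  · dsimp only
    rw [if_neg fun hmem => hn (Finset.mem_image.2 ⟨⟨n⟩, hmem, rfl⟩), zero_comp]

lemma eq_zero_of_comp_one_sub_shift {C : DCoh.D X} (hC : Fix.{u} (qcD X) C) (K : ℕ → DCoh.D X)
    [HasCoproduct K] (hK : ∀ n, DCoh.IsQCohD (K n)) (f : ∀ n, K n ⟶ K (n + 1)) (h : C ⟶ ∐ K)
    (hh : h ≫ (𝟙 _ - DerLim.shiftMap K f) = 0) : h = 0 := by
  classical
  obtain ⟨N, g, rfl⟩ := exists_finite_sum hC K hK h
  let pr : ∀ m, (∐ K) ⟶ K m := fun m =>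
    Sigma.desc fun n => if e : n = m then eqToHom (congrArg K e) else 0
  have hpr : ∀ m, Sigma.ι K m ≫ pr m = 𝟙 _ := fun m => by simp [pr]
  have hpr' : ∀ {n m}, n ≠ m → Sigma.ι K n ≫ pr m = 0 := fun {n m} e => by simp [pr, e]
  have hg : ∀ m < N, g m = 0 := by
    intro m hm
    have h1 := hh =≫ pr m
    simp only [Preadditive.comp_sub, Category.comp_id, Preadditive.sub_comp, Preadditive.sum_comp,
      Category.assoc, zero_comp, sub_eq_zero] at h1
    rw [Finset.sum_eq_single m (fun n _ hn => by rw [hpr' hn, comp_zero])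
      (fun h => absurd (Finset.mem_range.2 hm) h), hpr, Category.comp_id] at h1
    rw [h1]
    induction m with
    | zero =>
      refine Finset.sum_eq_zero fun n _ => ?_
      rw [DerLim.shiftMap, Sigma.ι_desc_assoc, Category.assoc, hpr' (Nat.succ_ne_zero n),
        comp_zero, comp_zero]
    | succ m ih =>
      refine Finset.sum_eq_zero fun n _ => ?_
      rw [DerLim.shiftMap, Sigma.ι_desc_assoc, Category.assoc]
      by_cases e : n = m
      · subst e
        have h2 := hh =≫ pr n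
        simp only [Preadditive.comp_sub, Category.comp_id, Preadditive.sub_comp,
          Preadditive.sum_comp, Category.assoc, zero_comp, sub_eq_zero] at h2
        rw [Finset.sum_eq_single n (fun k _ hn => by rw [hpr' hn, comp_zero])
          (fun h => absurd (Finset.mem_range.2 (by omega : n < N)) h), hpr, Category.comp_id] at h2
        rw [h2, ih (by omega) h2, zero_comp]
      · rw [hpr' (by omega : n + 1 ≠ m + 1), comp_zero, comp_zero]
  exact Finset.sum_eq_zero fun n hn => by rw [hg n (Finset.mem_range.1 hn), zero_comp]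

lemma comp_ι {K : ℕ → DCoh.D X} [HasCoproduct K] {f : ∀ n, K n ⟶ K (n + 1)} {L : DCoh.D X}
    {i : ∀ n, K n ⟶ L} (hL : DerLim.IsHocolim K f L i) (n : ℕ) : f n ≫ i (n + 1) = i n := by
  obtain ⟨c, hT⟩ := hL
  have : (𝟙 (∐ K) - DerLim.shiftMap K f) ≫ Sigma.desc i = 0 := comp_distTriang_mor_zero₁₂ _ hT
  have := Sigma.ι K n ≫= this
  simp only [Preadditive.sub_comp, Preadditive.comp_sub, Category.id_comp, DerLim.shiftMap,
    Sigma.ι_desc_assoc, Category.assoc, Sigma.ι_desc, comp_zero, sub_eq_zero] at this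
  exact this.symm

lemma exists_transition {K : ℕ → DCoh.D X} {f : ∀ n, K n ⟶ K (n + 1)} {L : DCoh.D X}
    (i : ∀ n, K n ⟶ L) (hi : ∀ n, f n ≫ i (n + 1) = i n) {n N : ℕ} (h : n ≤ N) :
    ∃ T : K n ⟶ K N, T ≫ i N = i n := by
  induction h with
  | refl => exact ⟨𝟙 _, Category.id_comp _⟩
  | @step m _ ih =>
    obtain ⟨T, hT⟩ := ih
    exact ⟨T ≫ f m, by rw [Category.assoc, hi]; exact hT⟩

/-- A map from a relatively compact object to a homotopy colimit factors through a stage. -/
theorem exists_factor_stage {C : DCoh.D X} (hC : Fix.{u} (qcD X) C) (K : ℕ → DCoh.D X)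
    [HasCoproduct K] (hK : ∀ n, DCoh.IsQCohD (K n))
    (f : ∀ n, K n ⟶ K (n + 1)) {L : DCoh.D X} (i : ∀ n, K n ⟶ L) (hL : DerLim.IsHocolim K f L i)
    (φ : C ⟶ L) : ∃ (N : ℕ) (g : C ⟶ K N), g ≫ i N = φ := by
  have hi := comp_ι hL
  obtain ⟨c, hT⟩ := hL
  have hc : φ ≫ c = 0 := Brown.eq_zero_of_comp_shift (Iso.refl _) (φ ≫ c)
    (𝟙 (∐ K) - DerLim.shiftMap K f)
    (by rw [Category.assoc]; exact (comp_distTriang_mor_zero₃₁ _ hT).symm ▸ comp_zero)
    (fun α hα => eq_zero_of_comp_one_sub_shift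
      (fix_shift qcD_shift CompactUnit.hasCoproduct hC (-1)) K hK f α hα)
  obtain ⟨h, hh⟩ : ∃ h : C ⟶ ∐ K, φ = h ≫ Sigma.desc i := Triangle.coyoneda_exact₃ _ hT φ hc
  obtain ⟨N, g, rfl⟩ := exists_finite_sum hC K hK h
  choose T hT' using fun n : Finset.range N =>
    exists_transition i hi (Finset.mem_range.1 n.2).le
  refine ⟨N, ∑ n : Finset.range N, g n ≫ T n, ?_⟩
  rw [hh, Preadditive.sum_comp, Preadditive.sum_comp,
    ← Finset.sum_coe_sort (Finset.range N)]
  refine Finset.sum_congr rfl fun n _ => ?_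
  rw [Category.assoc, hT', Category.assoc, Sigma.ι_desc]

lemma isQCohD_hocolim {K : ℕ → DCoh.D X} [HasCoproduct K] (hK : ∀ n, DCoh.IsQCohD (K n))
    {f : ∀ n, K n ⟶ K (n + 1)} {L : DCoh.D X} {i : ∀ n, K n ⟶ L}
    (hL : DerLim.IsHocolim K f L i) : DCoh.IsQCohD L := by
  obtain ⟨c, hT⟩ := hL
  let K' : ULift.{u} ℕ → DCoh.D X := fun k => K k.down
  haveI := CompactUnit.hasCoproduct (ULift.{u} ℕ) K'
  let e : (∐ K') ≅ ∐ K :=
    ⟨Sigma.desc fun k => Sigma.ι K k.down, Sigma.desc fun n => Sigma.ι K' ⟨n⟩,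
      Sigma.hom_ext _ _ fun k => by simp [K'], Sigma.hom_ext _ _ fun n => by simp [K']⟩
  have h : DCoh.IsQCohD (∐ K) := fun n => (WayOut.Scheme.qc X).prop_of_iso
    ((DerivedCategory.homologyFunctor X.Modules n).mapIso e)
    (QCohCoprod.isQCohD_coproduct K' (fun k => hK k.down) n)
  exact TildeEquiv.isQCohD_mor₃ _ hT h h

/-! ### Countable cohomology sheaves of homotopy colimits of perfect objects -/

lemma countable_HD_spec {A : Type u} [CommRing A] (L : DCoh.D (Affine.S A)) (hL : DCoh.IsQCohD L)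
    (i : ℤ) (h : Countable (oneD (Affine.S A) ⟶ L⟦i⟧)) :
    Countable ((DCoh.HD L i).val.obj (op (⊤ : (Affine.S A).Opens))) := by
  obtain ⟨L₀, ⟨e⟩⟩ := TildeEquiv.exists_preimage (CommRingCat.of A) L hL
  haveI := TildeEquiv.faithful (CommRingCat.of A)
  have h' : Countable ((Affine.T A).obj (Dual.inD A A) ⟶ (Affine.T A).obj (L₀⟦i⟧)) :=
    countable_iso (Affine.sgIso' (CommRingCat.of A) 0).symm
      (((Affine.T A).commShiftIso i).app L₀ ≪≫ (shiftFunctor _ i).mapIso e).symm h
  haveI : Countable (Dual.inD A A ⟶ L₀⟦i⟧) :=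
    @Function.Injective.countable _ _ h' (Affine.T A).map (Affine.T A).map_injective
  have hd : Countable (Dual.HD A L₀ i) :=
    (DMod.Basic.homUnitShiftEquiv L₀ i).surjective.countable
  let eH := (DerivedCategory.homologyFunctor _ i).mapIso e.symm ≪≫
    KoszulOrth36.Sheaf.HI (CommRingCat.of A) L₀ i
  let eS := (QCoh.Tilde.specΓ (CommRingCat.of A)).mapIso eH ≪≫
    ((QCoh.Tilde.sectionsTildeIso (R := CommRingCat.of A)).app _).symm
  have : Countable ((QCoh.Tilde.specΓ (CommRingCat.of A)).obj (DCoh.HD L i)) :=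
    @Function.Surjective.countable _ _ hd (fun s => eS.inv s) fun t =>
      ⟨eS.hom t, (ConcreteCategory.congr_hom eS.hom_inv_id t).trans rfl⟩
  exact this

lemma countable_self_spec {A : Type u} [CommRing A] [Countable A] (i : ℤ) :
    Countable (oneD (Affine.S A) ⟶ (oneD (Affine.S A))⟦i⟧) := by
  haveI := TildeEquiv.full (CommRingCat.of A)
  haveI : Countable (Dual.HD A (Dual.inD A A) i) := by
    by_cases h : i = 0
    · subst h; exact (DMod.Basic.HDinD (A := A) A).injective.countable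
    · haveI := DMod.Basic.subsingleton_HD_inD (A := A) A h
      infer_instance
  haveI : Countable (Dual.inD A A ⟶ (Dual.inD A A)⟦i⟧) :=
    (DMod.Basic.homUnitShiftEquiv (Dual.inD A A) i).injective.countable
  exact countable_iso (Affine.sgIso' (CommRingCat.of A) 0)
    (((Affine.T A).commShiftIso i).app _ ≪≫
      (shiftFunctor _ i).mapIso (Affine.sgIso' (CommRingCat.of A) 0))
    ((Affine.T A).map_surjective (X := Dual.inD A A) (Y := (Dual.inD A A)⟦i⟧)).countable

section

variable [IsAffine X]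

lemma countable_to_Φ {P : DCoh.D X} {i : ℤ} (h : Countable (oneD X ⟶ P⟦i⟧)) :
    Countable (oneD (Affine.S Γ(X, ⊤)) ⟶ ((Affine.Φ X).obj P)⟦i⟧) :=
  countable_iso (CompactUnit.restrictOneIso (Affine.spec X)) (((Affine.Φ X).commShiftIso i).app P)
    (@Function.Surjective.countable _ _ h ((Affine.Φ X).map (X := oneD X) (Y := P⟦i⟧))
      (Affine.Φ X).map_surjective)

lemma countable_perfect [Countable Γ(X, ⊤)] {P : DCoh.D X} (hP : DCoh.IsPerfect P) (i : ℤ) :
    Countable (oneD X ⟶ P⟦i⟧) := by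
  revert i
  refine Affine.perfect_induction (fun Q => ∀ i : ℤ, Countable (oneD X ⟶ Q⟦i⟧)) ?_ ?_ ?_ ?_ hP
  · intro Q hQ i
    have : IsZero (Q⟦i⟧) := (shiftFunctor _ i).map_isZero hQ
    haveI : Subsingleton (oneD X ⟶ Q⟦i⟧) := ⟨fun _ _ => this.eq_of_tgt _ _⟩
    infer_instance
  · intro Q R r h i
    haveI := h i
    exact Function.Injective.countable (f := fun φ : oneD X ⟶ Q⟦i⟧ => φ ≫ r.i⟦i⟧') fun φ ψ hh => by
      have := congrArg (· ≫ r.r⟦i⟧') hh
      simpa [← Functor.map_comp] using this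
  · intro T hT h₁ h₃ i
    haveI := h₁ i
    haveI := h₃ i
    exact countable_of_exact
      (Preadditive.rightComp (oneD X) (T.mor₁⟦i⟧')) (Preadditive.rightComp (oneD X) (T.mor₂⟦i⟧'))
      fun b hb => by
        obtain ⟨a, ha⟩ := Triangle.coyoneda_exact₂ _ (Triangle.shift_distinguished T hT i) b (by
          show b ≫ (i.negOnePow • T.mor₂⟦i⟧') = 0
          rw [Linear.comp_units_smul]
          exact (congrArg (i.negOnePow • ·) hb).trans (smul_zero _))
        refine ⟨i.negOnePow • a, ?_⟩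
        show (i.negOnePow • a) ≫ T.mor₁⟦i⟧' = b
        rw [ha]
        show _ = a ≫ (i.negOnePow • T.mor₁⟦i⟧')
        simp [Units.smul_def]
        exact (Preadditive.comp_zsmul _ _ _).symm
  · intro n i
    refine countable_iso (Iso.refl _)
      ((shiftFunctorAdd' (DCoh.D X) n i (n + i) rfl).app (oneD X)) ?_
    exact @Function.Injective.countable _ _
      (countable_iso (CompactUnit.restrictOneIso (Affine.spec X)).symm
        ((shiftFunctor _ (n + i)).mapIso (CompactUnit.restrictOneIso (Affine.spec X)).symm ≪≫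
          (((Affine.Φ X).commShiftIso (n + i)).app (oneD X)).symm)
        (countable_self_spec (n + i)))
      ((Affine.Φ X).map (X := oneD X) (Y := (oneD X)⟦n + i⟧)) (Affine.Φ X).map_injective

lemma countable_top {P : DCoh.D X} (hP : DCoh.IsQCohD P) (i : ℤ)
    (h : Countable (oneD X ⟶ P⟦i⟧)) :
    Countable ((DCoh.HD P i).val.obj (op (⊤ : X.Opens))) := by
  haveI hc := countable_HD_spec _ (CompactUnit.isQCohD_restrictD (Affine.spec X) hP) i
    (countable_to_Φ h)
  let e : DCoh.HD ((Affine.Φ X).obj P) i ≅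
      (Scheme.Modules.restrictFunctor (Affine.spec X)).obj (DCoh.HD P i) :=
    Perfect.Coherent.homologyIso (Affine.spec X) P i
  have h2 : Countable ((DCoh.HD P i).val.obj (op (Affine.spec X ''ᵁ ⊤))) :=
    @Function.Surjective.countable _ _ hc (fun s => e.hom.app ⊤ s) fun t =>
      ⟨e.inv.app ⊤ t, by
        show (e.inv.app ⊤ ≫ e.hom.app ⊤) t = t
        rw [← Scheme.Modules.Hom.comp_app, e.inv_hom_id]
        rfl⟩
  rwa [Scheme.Hom.image_top_eq_opensRange, Scheme.Hom.opensRange_of_isIso] at h2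

end

/-- A section over an affine open is a map from the unit of that open. -/
lemma ck_of_hom {K : DCoh.D X} (hK : DCoh.IsQCohD K)
    (h : ∀ V : X.Opens, IsAffineOpen V → ∀ i : ℤ,
      Countable (oneD (V : Scheme.{u}) ⟶ ((DCoh.restrictD V.ι).obj K)⟦i⟧)) : CK K := by
  intro V hV i
  haveI : IsAffine (V : Scheme.{u}) := hV
  haveI hc := countable_top (CompactUnit.isQCohD_restrictD V.ι hK) i (h V hV i)
  let e : DCoh.HD ((DCoh.restrictD V.ι).obj K) i ≅
      (Scheme.Modules.restrictFunctor V.ι).obj (DCoh.HD K i) :=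
    Perfect.Coherent.homologyIso V.ι K i
  have h2 : Countable ((DCoh.HD K i).val.obj (op (V.ι ''ᵁ ⊤))) :=
    @Function.Surjective.countable _ _ hc (fun s => e.hom.app ⊤ s) fun t =>
      ⟨e.inv.app ⊤ t, by
        show (e.inv.app ⊤ ≫ e.hom.app ⊤) t = t
        rw [← Scheme.Modules.Hom.comp_app, e.inv_hom_id]
        rfl⟩
  rwa [Scheme.Opens.ι_image_top] at h2

lemma countable_top_ring (hX : ∀ U : X.Opens, IsAffineOpen U → Countable (X.presheaf.obj (op U)))
    (V : X.Opens) (hV : IsAffineOpen V) : Countable Γ((V : Scheme.{u}), ⊤) :=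
  haveI := hX V hV
  V.topIso.commRingCatIsoToRingEquiv.injective.countable

/-- Perfect objects have countable cohomology sheaves when the rings of sections are countable. -/
lemma ck_perfect (hX : ∀ U : X.Opens, IsAffineOpen U → Countable (X.presheaf.obj (op U)))
    {P : DCoh.D X} (hP : DCoh.IsPerfect P) : CK P :=
  ck_of_hom (QCohD.isQCohD_of_isPerfect hP) fun V hV i => by
    haveI : IsAffine (V : Scheme.{u}) := hV
    haveI := countable_top_ring hX V hV
    exact countable_perfect (isPerfect_restrict _ hP) i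

/-- Homotopy colimits of perfect objects have countable cohomology sheaves. -/
theorem ck_hocolim (hX : ∀ U : X.Opens, IsAffineOpen U → Countable (X.presheaf.obj (op U)))
    {E : ℕ → DCoh.D X} [HasCoproduct E] (hE : ∀ n, DCoh.IsPerfect (E n))
    {f : ∀ n, E n ⟶ E (n + 1)} {K : DCoh.D X} {ι : ∀ n, E n ⟶ K}
    (hL : DerLim.IsHocolim E f K ι) (hK : DCoh.IsQCohD K) : CK K := by
  refine ck_of_hom hK fun V hV i => ?_
  haveI : IsAffine (V : Scheme.{u}) := hV
  haveI := countable_top_ring hX V hV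
  let C := (CxOX.extZeroD V.ι).obj (oneD (V : Scheme.{u}))
  have hC : Fix.{u} (qcD X) C := CompactUnit.fix_extZero V.ι (CompactUnit.good_of_isAffine _)
  haveI : ∀ N, Countable (C⟦-i⟧ ⟶ E N) := fun N =>
    countable_iso (Iso.refl _) ((shiftFunctorZero (DCoh.D X) ℤ).app (E N))
      (countable_shift_left (-i) 0 (countable_restrict V.ι _ _ _
        (countable_perfect (isPerfect_restrict _ (hE N)) _)))
  have h0 : Countable (C⟦-i⟧ ⟶ K) :=
    Function.Surjective.countable (f := fun p : Σ N, (C⟦-i⟧ ⟶ E N) => p.2 ≫ ι p.1) fun φ => by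
      obtain ⟨N, g, hg⟩ := exists_factor_stage
        (fix_shift qcD_shift CompactUnit.hasCoproduct hC (-i)) E
        (fun n => QCohD.isQCohD_of_isPerfect (hE n)) f ι hL φ
      exact ⟨⟨N, g⟩, hg⟩
  have h1 : Countable (C ⟶ K⟦i⟧) :=
    @Function.Injective.countable _ _ h0 _
      ((shiftEquiv (DCoh.D X) i).symm.toAdjunction.homEquiv C K).symm.injective
  exact countable_iso (Iso.refl _) (((DCoh.restrictD V.ι).commShiftIso i).app K)
    (@Function.Injective.countable _ _ h1 _ ((Glue.adjEz V.ι).homEquiv _ _).symm.injective)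

end Groth.Agent.Lib.Gen43.CountableHocolim
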