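import Groth.Agent.Lib.Gen43.CountableHocolim

/-!
# A sequence of perfect objects with prescribed homotopy colimit

Objects with countable cohomology sheaves are exhausted by countably many maps from translates of a
perfect generator; killing the countably many relations one at a time keeps every stage perfect.
-/

set_option autoImplicit false
set_option linter.style.haveILetI false
set_option linter.unusedSectionVars false

universe u

open CategoryTheory Limits AlgebraicGeometry Pretriangulated Opposite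

attribute [local instance] HasDerivedCategory.standard

namespace Groth.Agent.Lib.Gen43.CountableSeq

open Groth.Agent.Lib.Gen43.Restrict Groth.Agent.Lib.Gen43.Countable
open Groth.Agent.Lib.Gen43.CountableHocolim Groth.Agent.Lib.DerivedOX
open Groth.Agent.Lib.DerCat Groth.Agent.Lib.DerCat.FixCoprod Groth.Agent.Lib.Perfect
open Groth.Agent.Lib.DerivedOX.CompactUnit (qcD qcD_shift)

variable {X : Scheme.{u}} (G K : DCoh.D X)

/-- A perfect object over `K`. -/
structure Obj where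
  /-- the object -/
  obj : DCoh.D X
  /-- the map to `K` -/
  map : obj ⟶ K
  perfect : DCoh.IsPerfect obj

variable {K}

/-- Maps from translates of `G` killed in `K`. -/
abbrev Ker (s : Obj K) : Type (u + 1) :=
  Σ m : ℤ, {g : G⟦m⟧ ⟶ s.obj // g ≫ s.map = 0}

variable {G}

/-- Transport of a relation. -/
noncomputable def push {s t : Obj K} (f : s.obj ⟶ t.obj) (hf : f ≫ t.map = s.map) (g : Ker G s) :
    Ker G t :=
  ⟨g.1, g.2.1 ≫ f, by rw [Category.assoc, hf]; exact g.2.2⟩

/-- One step kills a given relation and hits a given map. -/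
lemma exists_step (hG : DCoh.IsPerfect G) (s : Obj K) (g : Ker G s) (φ : Σ m : ℤ, (G⟦m⟧ ⟶ K)) :
    ∃ (t : Obj K) (f : s.obj ⟶ t.obj), f ≫ t.map = s.map ∧ g.2.1 ≫ f = 0 ∧
      ∃ a : G⟦φ.1⟧ ⟶ t.obj, a ≫ t.map = φ.2 := by
  obtain ⟨m, g, hg⟩ := g
  obtain ⟨C, p, δ, hT⟩ := distinguished_cocone_triangle g
  obtain ⟨(π : C ⟶ K), (hπ : s.map = p ≫ π)⟩ := Triangle.yoneda_exact₂ _ hT s.map hg
  have hC : DCoh.IsPerfect C :=
    Triangle.isPerfect₃ (T := Triangle.mk g p δ) hT (Triangle.isPerfect_shift hG m) s.perfect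
  refine ⟨⟨C ⊞ G⟦φ.1⟧, biprod.desc π φ.2, ?_⟩, p ≫ biprod.inl, ?_, ?_, biprod.inr, ?_⟩
  · exact Triangle.isPerfect₂ (T := binaryBiproductTriangle C (G⟦φ.1⟧))
      (binaryBiproductTriangle_distinguished _ _) hC (Triangle.isPerfect_shift hG _)
  · rw [Category.assoc, biprod.inl_desc, ← hπ]
  · show g ≫ p ≫ biprod.inl = 0
    have : g ≫ p = 0 := comp_distTriang_mor_zero₁₂ _ hT
    rw [← Category.assoc, this, zero_comp]
  · exact biprod.inr_desc _ _

variable (G K)

/-- The state of the construction. -/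
structure St where
  /-- the stage -/
  o : Obj K
  /-- the listed relations -/
  pend : ℕ → ℕ → Ker G o

variable {G K}

/-- A homotopy colimit presentation. -/
theorem exists_hocolim [CompactSpace X] [QuasiSeparatedSpace X]
    [HasColimitsOfShape (Discrete ℕ) (DCoh.D X)]
    (hG : DCoh.IsPerfect G)
    (hgen : ∀ E : DCoh.D X, DCoh.IsQCohD E → (∀ (n : ℤ) (φ : G⟦n⟧ ⟶ E), φ = 0) → IsZero E)
    (hX : ∀ U : X.Opens, IsAffineOpen U → Countable (X.presheaf.obj (op U)))
    (hK : DCoh.IsQCohD K) (hKc : CK K) :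
    ∃ (E : ℕ → DCoh.D X) (f : ∀ n, E n ⟶ E (n + 1)) (i : ∀ n, E n ⟶ K),
      (∀ n, DCoh.IsPerfect (E n)) ∧ DerLim.IsHocolim E f K i := by
  classical
  have hcount : ∀ (m : ℤ) (P : DCoh.D X), DCoh.IsQCohD P → CK P → Countable (G⟦m⟧ ⟶ P) :=
    fun m P hP hPc => countable_iso (Iso.refl _) ((shiftFunctorZero (DCoh.D X) ℤ).app P)
      (goodC X _ (Triangle.isPerfect_shift hG m) _ hP hPc 0)
  have hker : ∀ s : Obj K, Countable (Ker G s) := fun s => by
    haveI := fun m => hcount m s.obj (QCohD.isQCohD_of_isPerfect s.perfect) (ck_perfect hX s.perfect)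
    infer_instance
  have hmaps : Countable (Σ m : ℤ, (G⟦m⟧ ⟶ K)) := by
    haveI := fun m => hcount m K hK hKc
    infer_instance
  have hne : ∀ s : Obj K, Nonempty (Ker G s) := fun s => ⟨⟨0, 0, zero_comp⟩⟩
  choose en hen using fun s => @exists_surjective_nat _ (hne s) (hker s)
  obtain ⟨task, htask⟩ := @exists_surjective_nat (Σ m : ℤ, (G⟦m⟧ ⟶ K)) ⟨⟨0, 0⟩⟩ hmaps
  choose tgt mor hmor hkill lift hlift using fun (n : ℕ) (s : St G K) =>
    exists_step hG s.o (s.pend (Nat.unpair n).1 (Nat.unpair n).2) (task n)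
  let s₀ : Obj K := ⟨G⟦(0 : ℤ)⟧, 0, Triangle.isPerfect_shift hG 0⟩
  let seq : ℕ → St G K := fun n => Nat.rec ⟨s₀, fun _ => en s₀⟩
    (fun n s => ⟨tgt n s, fun j b =>
      if j ≤ n then push (mor n s) (hmor n s) (s.pend j b) else en (tgt n s) b⟩) n
  let E : ℕ → DCoh.D X := fun n => (seq n).o.obj
  let f : ∀ n, E n ⟶ E (n + 1) := fun n => mor n (seq n)
  let i : ∀ n, E n ⟶ K := fun n => (seq n).o.map
  have hf : ∀ n, f n ≫ i (n + 1) = i n := fun n => hmor n (seq n)
  have hE : ∀ n, DCoh.IsPerfect (E n) := fun n => (seq n).o.perfect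
  have hEq : ∀ n, DCoh.IsQCohD (E n) := fun n => QCohD.isQCohD_of_isPerfect (hE n)
  have hpend : ∀ n, (seq n).pend n = en (seq n).o := fun n => by
    cases n with
    | zero => rfl
    | succ n => funext b; exact if_neg (by lia)
  obtain ⟨L, p, c, hT⟩ := distinguished_cocone_triangle (𝟙 (∐ E) - DerLim.shiftMap E f)
  let ι : ∀ n, E n ⟶ L := fun n => Sigma.ι E n ≫ p
  have hp : Sigma.desc ι = p := Sigma.hom_ext _ _ fun n => by simp [ι]
  have hL : DerLim.IsHocolim E f L ι := ⟨c, by rw [hp]; exact hT⟩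
  obtain ⟨(π : L ⟶ K), (hπ : Sigma.desc i = p ≫ π)⟩ := Triangle.yoneda_exact₂ _ hT (Sigma.desc i) (by
    show (𝟙 (∐ E) - DerLim.shiftMap E f) ≫ Sigma.desc i = 0
    refine Sigma.hom_ext _ _ fun n => ?_
    simp [DerLim.shiftMap, hf])
  have hιπ : ∀ n, ι n ≫ π = i n := fun n => by
    simp only [ι, Category.assoc, ← hπ, Sigma.ι_desc]
  have hι : ∀ n, f n ≫ ι (n + 1) = ι n := comp_ι hL
  -- every listed relation dies in the homotopy colimit
  have hdead : ∀ (n : ℕ) (g : Ker G (seq n).o), g.2.1 ≫ ι n = 0 := by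
    intro n g
    obtain ⟨b, hb⟩ := hen (seq n).o g
    have key : ∀ k, n ≤ k → (((seq k).pend n b).2.1 ≫ ι k = 0 → g.2.1 ≫ ι n = 0) := by
      intro k hk
      induction hk with
      | refl =>
        intro h
        rw [hpend n, hb] at h
        exact h
      | @step k hk ih =>
        intro h
        apply ih
        have e : (seq (k + 1)).pend n b = push (mor k (seq k)) (hmor k (seq k)) ((seq k).pend n b) :=
          if_pos hk
        change ((seq (k + 1)).pend n b).2.1 ≫ ι (k + 1) = 0 at h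
        rw [e] at h
        rw [← hι k]
        exact (Category.assoc _ _ _).symm.trans h
    refine key (Nat.pair n b) (Nat.left_le_pair n b) ?_
    rw [← hι]
    have := hkill (Nat.pair n b) (seq (Nat.pair n b))
    rw [Nat.unpair_pair] at this
    exact ((Category.assoc _ _ _).symm.trans (congrArg (· ≫ _) this)).trans zero_comp
  have hsurj : ∀ (m : ℤ) (φ : G⟦m⟧ ⟶ K), ∃ a : G⟦m⟧ ⟶ L, a ≫ π = φ := by
    intro m φ
    obtain ⟨n, hn⟩ := htask ⟨m, φ⟩
    have h := hlift n (seq n)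
    generalize lift n (seq n) = a at h
    revert a
    rw [hn]
    intro a h
    exact ⟨a ≫ ι (n + 1), ((Category.assoc _ _ _).trans (congrArg (a ≫ ·) (hιπ (n + 1)))).trans h⟩
  have hinj : ∀ (m : ℤ) (φ : G⟦m⟧ ⟶ L), φ ≫ π = 0 → φ = 0 := by
    intro m φ hφ
    obtain ⟨N, g, hg⟩ := exists_factor_stage
      (fix_shift qcD_shift CompactUnit.hasCoproduct (Compact.goodP X G hG) m) E hEq f ι hL φ
    rw [← hg]
    exact hdead N ⟨m, g, by
      show g ≫ i N = 0
      rw [← hιπ, ← Category.assoc, hg, hφ]⟩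
  haveI : IsIso π := by
    obtain ⟨C, q, δ, hC⟩ := distinguished_cocone_triangle π
    have hCq : DCoh.IsQCohD C :=
      TildeEquiv.isQCohD_mor₃ _ hC (isQCohD_hocolim hEq hL) hK
    refine (Triangle.isZero₃_iff_isIso₁ _ hC).1 (hgen C hCq fun n φ => ?_)
    have hδ : φ ≫ δ = 0 := Brown.eq_zero_of_comp_shift
      ((shiftFunctorAdd' (DCoh.D X) n (-1) (n - 1) (by lia)).app G) (φ ≫ δ) π
      (by rw [Category.assoc]; exact (comp_distTriang_mor_zero₃₁ _ hC).symm ▸ comp_zero)
      (hinj (n - 1))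
    obtain ⟨ψ, hψ⟩ : ∃ ψ : G⟦n⟧ ⟶ K, φ = ψ ≫ q := Triangle.coyoneda_exact₃ _ hC φ hδ
    obtain ⟨a, rfl⟩ := hsurj n ψ
    rw [hψ, Category.assoc, show π ≫ q = 0 from comp_distTriang_mor_zero₁₂ _ hC, comp_zero]
  refine ⟨E, f, i, hE, inv π ≫ c, isomorphic_distinguished _ hT _ ?_⟩
  exact Triangle.isoMk _ _ (Iso.refl _) (Iso.refl _) (asIso π).symm
    ((Category.comp_id _).trans (Category.id_comp _).symm)
    (by
      show Sigma.desc i ≫ inv π = 𝟙 _ ≫ p
      rw [hπ, Category.assoc, IsIso.hom_inv_id, Category.comp_id, Category.id_comp])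
    (by
      show (inv π ≫ c) ≫ (𝟙 (∐ E))⟦(1 : ℤ)⟧' = inv π ≫ c
      rw [CategoryTheory.Functor.map_id]; exact Category.comp_id _)

/-- Hocolimits of sequences of perfect objects are exactly objects with countable cohomology. -/
theorem iff_ck [CompactSpace X] [QuasiSeparatedSpace X]
    [HasColimitsOfShape (Discrete ℕ) (DCoh.D X)]
    (hX : ∀ U : X.Opens, IsAffineOpen U → Countable (X.presheaf.obj (op U)))
    (K : DCoh.D X) (hK : DCoh.IsQCohD K) :
    (∃ (E : ℕ → DCoh.D X) (f : ∀ n, E n ⟶ E (n + 1)) (i : ∀ n, E n ⟶ K),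
      (∀ n, DCoh.IsPerfect (E n)) ∧ DerLim.IsHocolim E f K i) ↔ CK K := by
  refine ⟨fun ⟨E, f, i, hE, hL⟩ => ck_hocolim hX hE hL hK, fun hKc => ?_⟩
  obtain ⟨G, hG, -, hgen⟩ := Generator.exists_generator (X := X) ⊥ (by simp)
  exact exists_hocolim hG (fun E hE h => hgen E hE (van_bot E) h) hX hK hKc

end Groth.Agent.Lib.Gen43.CountableSeq
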