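import Groth.Agent.Lib.Gen43.Approx
import Groth.Agent.Lib.DerCat.Hocolim
import Groth.Agent.Lib.DerivedOX.QCohCoprod
import Groth.Agent.Lib.KoszulOrth36.Trunc
import Groth.Agent.H56.PCSingle.QCoh
import Mathlib.CategoryTheory.Limits.Constructions.EventuallyConstant

/-!
# Pseudo-coherent objects as homotopy colimits of perfect objects
-/

set_option autoImplicit false
set_option linter.style.haveILetI false
set_option linter.unusedSectionVars false

universe u

open CategoryTheory Limits AlgebraicGeometry Pretriangulated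

attribute [local instance] HasDerivedCategory.standard

namespace Groth.Agent.Lib.Gen43.HocolimPerfect

open Groth.Agent.Lib.Gen43.Restrict Groth.Agent.Lib.Gen43.Approx Groth.Agent.Lib.DerivedOX
  Groth.Agent.Lib.Perfect

variable {X : Scheme.{u}} (T' : X.Opens) (K : DCoh.D X)

/-- A stage of the approximation. -/
structure Stage (m : ℤ) where
  /-- the perfect object -/
  obj : DCoh.D X
  /-- its map to `K` -/
  map : obj ⟶ K
  perfect : DCoh.IsPerfect obj
  van : Van T' obj
  good : Ascent.Good m map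

lemma pcAt_cone {A B C : DCoh.D X} {f : A ⟶ B} {g : B ⟶ C} {δ : C ⟶ A⟦(1 : ℤ)⟧}
    (hT : Triangle.mk f g δ ∈ distTriang (DCoh.D X)) (hA : DCoh.IsPerfect A) (m : ℤ)
    (hB : DCoh.IsPseudoCoherentD m B) : DCoh.IsPseudoCoherentD m C :=
  (PseudoCoh.iff_forall _ _).2 fun x =>
    PseudoCoh.pcAt₃ hT (pcAt_perfect hA (m + 1) x) ((PseudoCoh.iff_forall _ _).1 hB x)

theorem exists_next [CompactSpace X] [QuasiSeparatedSpace X] (hT' : IsCompact (T' : Set X))
    (hq : DCoh.IsQCohD K) (hpc : ∀ m, DCoh.IsPseudoCoherentD m K) (hK : Van T' K)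
    {m : ℤ} (s : Stage T' K m) :
    ∃ (s' : Stage T' K (m - 1)) (f : s.obj ⟶ s'.obj), f ≫ s'.map = s.map := by
  obtain ⟨r, hr⟩ := Approx.exists_approx T' hT'
  obtain ⟨C, g, δ, hT⟩ := distinguished_cocone_triangle s.map
  have hCq : DCoh.IsQCohD C :=
    TildeEquiv.isQCohD_mor₃ _ hT (QCohD.isQCohD_of_isPerfect s.perfect) hq
  obtain ⟨P', β', hP', hP'T, hβ'⟩ := hr (m - 1) C hCq (pcAt_cone hT s.perfect _ (hpc _))
    (fun i _ => van₃ hT s.van hK i)
  obtain ⟨C', g', δ', hT₁⟩ := distinguished_cocone_triangle β'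
  obtain ⟨P, α, h, a, b, c, h13, hmem⟩ := ApproxRing.exists_fibre hT hT₁
  let e : P⟦(1 : ℤ)⟧⟦(-1 : ℤ)⟧ ≅ P :=
    (shiftFunctorCompIsoId (DCoh.D X) (1 : ℤ) (-1) (by omega)).app P
  let s' : Stage T' K (m - 1) :=
    ⟨P, α, Triangle.isPerfect_of_iso e (Triangle.isPerfect_shift (Triangle.isPerfect₂ hmem
        (Triangle.isPerfect_shift s.perfect 1) (Triangle.isPerfect_shift hP' 1)) _),
      ((van₂ hmem (s.van.shift 1) (hP'T.shift 1)).shift (-1)).of_iso e,
      (Ascent.good_iff _ _ h13).2 ((Ascent.good_iff _ _ hT₁).1 hβ')⟩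
  obtain ⟨(f : s.obj ⟶ P), (hf : s.map = f ≫ α)⟩ := Triangle.coyoneda_exact₂ _ h13 s.map (by
    show s.map ≫ g ≫ g' = 0
    have h0 : s.map ≫ g = 0 := comp_distTriang_mor_zero₁₂ _ hT
    rw [← Category.assoc, h0, zero_comp])
  exact ⟨s', f, hf.symm⟩

theorem exists_zero [CompactSpace X] [QuasiSeparatedSpace X] (hT' : IsCompact (T' : Set X))
    (hq : DCoh.IsQCohD K) (hpc : ∀ m, DCoh.IsPseudoCoherentD m K) (hK : Van T' K) (m : ℤ) :
    Nonempty (Stage T' K m) := by
  obtain ⟨r, hr⟩ := Approx.exists_approx T' hT'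
  obtain ⟨P, α, hP, hPT, hα⟩ := hr m K hq (hpc _) (fun i _ => hK i)
  exact ⟨⟨P, α, hP, hPT, hα⟩⟩

/-- A compatible sequence of perfect objects, iso on `H^j` for `j ≥ -n`, has `K` as homotopy
colimit. -/
theorem isHocolim [HasColimitsOfShape (Discrete ℕ) (DCoh.D X)] (E : ℕ → DCoh.D X)
    (f : ∀ n, E n ⟶ E (n + 1)) (i : ∀ n, E n ⟶ K) (hf : ∀ n, f n ≫ i (n + 1) = i n)
    (hi : ∀ (n : ℕ) (j : ℤ), -(n : ℤ) ≤ j →
      IsIso ((DerivedCategory.homologyFunctor X.Modules j).map (i n))) :
    DerLim.IsHocolim E f K i := by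
  obtain ⟨L, p, c, hT⟩ := distinguished_cocone_triangle (𝟙 (∐ E) - DerLim.shiftMap E f)
  let ι : ∀ n, E n ⟶ L := fun n => Sigma.ι E n ≫ p
  have hp : Sigma.desc ι = p := Sigma.hom_ext _ _ fun n => by simp [ι]
  have hL : DerLim.IsHocolim E f L ι := ⟨c, by rw [hp]; exact hT⟩
  obtain ⟨(π : L ⟶ K), (hπ : Sigma.desc i = p ≫ π)⟩ := Triangle.yoneda_exact₂ _ hT (Sigma.desc i) (by
    show (𝟙 (∐ E) - DerLim.shiftMap E f) ≫ Sigma.desc i = 0
    refine Sigma.hom_ext _ _ fun n => ?_
    simp [DerLim.shiftMap, hf])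
  have hιπ : ∀ n, ι n ≫ π = i n := fun n => by
    simp only [ι, Category.assoc, ← hπ, Sigma.ι_desc]
  haveI : IsIso π := by
    rw [DerivedCategory.isIso_iff]
    intro j
    let H := DerivedCategory.homologyFunctor X.Modules j
    haveI : ∀ (ι : Type u), PreservesColimitsOfShape (Discrete ι) H := fun ι =>
      ⟨fun {G} => by
        haveI : PreservesColimit (Discrete.functor (G.obj ∘ Discrete.mk)) H :=
          QCohCoprod.preservesColimit_homology (fun x => G.obj ⟨x⟩) j
        exact preservesColimit_of_iso_diagram _ Discrete.natIsoFunctor.symm⟩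
    haveI : PreservesColimitsOfShape (Discrete ℕ) H :=
      preservesColimitsOfShape_of_equiv (Discrete.equivalence (Equiv.ulift.{u} (α := ℕ))) H
    haveI : HasExactColimitsOfShape ℕ X.Modules := by
      haveI : IsFiltered (AsSmall.{u} ℕ) := IsFiltered.of_equivalence AsSmall.equiv
      exact HasExactColimitsOfShape.of_domain_equivalence X.Modules (AsSmall.equiv (C := ℕ)).symm
    obtain ⟨e, he⟩ := DerCat.Hocolim.exists_iso_colimit H E f L ι hL
    let N : ℕ := (-j).toNat
    have hN : (Functor.ofSequence (fun n => H.map (f n))).IsEventuallyConstantFrom N := by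
      intro k φ
      have hk : N ≤ k := leOfHom φ

      induction k, hk using Nat.le_induction with
      | base =>
        rw [Subsingleton.elim φ (𝟙 _)]
        infer_instance
      | succ k hk ih =>
        haveI := ih (homOfLE hk)
        haveI h₁ : IsIso (H.map (i k)) := hi k j (by omega)
        haveI h₂ : IsIso (H.map (i (k + 1))) := hi (k + 1) j (by push_cast; omega)
        haveI : IsIso ((Functor.ofSequence (fun n => H.map (f n))).map (homOfLE (Nat.le_succ k))) := by
          rw [Functor.ofSequence_map_homOfLE_succ]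
          haveI := h₂
          rw [show H.map (f k) = H.map (i k) ≫ @inv _ _ _ _ (H.map (i (k + 1))) h₂ from by
            rw [@IsIso.eq_comp_inv _ _ _ _ _ _ h₂, ← H.map_comp, hf]]
          exact IsIso.comp_isIso' h₁ (@IsIso.inv_isIso _ _ _ _ _ h₂)
        rw [Subsingleton.elim φ (homOfLE hk ≫ homOfLE (Nat.le_succ k)), Functor.map_comp]
        infer_instance
    haveI : IsIso (colimit.ι (Functor.ofSequence (fun n => H.map (f n))) N) :=
      hN.isIso_ι_of_isColimit (colimit.isColimit _)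
    haveI : IsIso (H.map (ι N)) := by
      rw [← he]
      exact IsIso.comp_isIso' (hN.isIso_ι_of_isColimit (colimit.isColimit _)) inferInstance
    haveI : IsIso (H.map (i N)) := hi N j (by omega)
    exact IsIso.of_isIso_fac_left (show H.map (ι N) ≫ H.map π = H.map (i N) by
      rw [← H.map_comp, hιπ])
  refine ⟨inv π ≫ c, isomorphic_distinguished _ hT _ ?_⟩
  exact Triangle.isoMk _ _ (Iso.refl _) (Iso.refl _) (asIso π).symm
    ((Category.comp_id _).trans (Category.id_comp _).symm)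
    (by
      show Sigma.desc i ≫ inv π = 𝟙 _ ≫ p
      rw [hπ, Category.assoc, IsIso.hom_inv_id, Category.comp_id, Category.id_comp])
    (by
      show (inv π ≫ c) ≫ (𝟙 (∐ E))⟦(1 : ℤ)⟧' = inv π ≫ c
      rw [CategoryTheory.Functor.map_id]; exact Category.comp_id _)

lemma isIso_homology_of_truncGE {A B : DCoh.D X} (φ : A ⟶ B) (n : ℤ)
    [IsIso ((DerivedCategory.TStructure.t : Triangulated.TStructure (DCoh.D X)).truncGE n |>.map φ)]
    (j : ℤ) (hj : n ≤ j) : IsIso ((DerivedCategory.homologyFunctor X.Modules j).map φ) := by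
  let t : Triangulated.TStructure (DCoh.D X) := DerivedCategory.TStructure.t
  have hπ : ∀ Z : DCoh.D X,
      IsIso ((DerivedCategory.homologyFunctor X.Modules j).map ((t.truncGEπ n).app Z)) := fun Z =>
    @DerCat.TStruct.isIso_homologyMap_mor₂ _ _ _ _ _ (t.triangleLTGE_distinguished n Z) (n - 1)
      (inferInstanceAs (t.IsLE ((t.truncLT n).obj Z) (n - 1))) j (by omega)
  haveI := hπ A
  haveI := hπ B
  have e : (DerivedCategory.homologyFunctor X.Modules j).map φ ≫
      (DerivedCategory.homologyFunctor X.Modules j).map ((t.truncGEπ n).app B) =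
      (DerivedCategory.homologyFunctor X.Modules j).map ((t.truncGEπ n).app A) ≫
        (DerivedCategory.homologyFunctor X.Modules j).map ((t.truncGE n).map φ) := by
    rw [← Functor.map_comp, ← Functor.map_comp, t.truncGEπ_naturality]
  exact IsIso.of_isIso_fac_right e

/-- The equivalence. -/
theorem iff_hocolim [CompactSpace X] [QuasiSeparatedSpace X]
    [HasColimitsOfShape (Discrete ℕ) (DCoh.D X)] (hT' : IsCompact (T' : Set X)) (hK : Van T' K) :
    (∀ m : ℤ, DCoh.IsPseudoCoherentD m K) ↔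
    ∃ (E : ℕ → DCoh.D X) (f : ∀ n, E n ⟶ E (n + 1)) (i : ∀ n, E n ⟶ K),
      (∀ n, DCoh.IsPerfect (E n)) ∧ (∀ n, Van T' (E n)) ∧ DerLim.IsHocolim E f K i ∧
      ∀ n : ℕ, IsIso (((DerivedCategory.TStructure.t :
        Triangulated.TStructure (DCoh.D X))).truncGE (-(n : ℤ)) |>.map (i n)) := by
  constructor
  · intro hpc
    have hq : DCoh.IsQCohD K := fun j =>
      H56.PCSingle.isQCoh_HD ((PseudoCoh.iff_forall (j - 1) K).1 (hpc _)) j (by omega)
    choose next f hf using fun (n : ℕ) (s : Stage T' K (-(n : ℤ) - 1)) =>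
      exists_next T' K hT' hq hpc hK s
    let seq : ∀ n : ℕ, Stage T' K (-(n : ℤ) - 1) := fun n => Nat.rec
      (exists_zero T' K hT' hq hpc hK _).some
      (fun n s => ⟨(next n s).obj, (next n s).map, (next n s).perfect, (next n s).van,
        (next n s).good.mono' (by push_cast; omega)⟩) n
    have hiso : ∀ (n : ℕ) (j : ℤ), -(n : ℤ) ≤ j →
        IsIso ((DerivedCategory.homologyFunctor X.Modules j).map (seq n).map) :=
      fun n j hj => (seq n).good.1 j (by omega)
    exact ⟨fun n => (seq n).obj, fun n => f n (seq n), fun n => (seq n).map,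
      fun n => (seq n).perfect, fun n => (seq n).van,
      isHocolim K _ _ _ (fun n => hf n (seq n)) hiso,
      fun n => KoszulOrth36.Trunc.isIso_truncGE_map _ _ (hiso n)⟩
  · rintro ⟨E, f, i, hE, -, -, hi⟩ m
    obtain ⟨n, hn⟩ : ∃ n : ℕ, -(n : ℤ) + 1 ≤ m := ⟨(1 - m).toNat, by omega⟩
    obtain ⟨C, g, δ, hT⟩ := distinguished_cocone_triangle (i n)
    have hgood : Ascent.Good (-(n : ℤ)) (i n) := by
      haveI := hi n
      haveI := isIso_homology_of_truncGE (i n) (-(n : ℤ)) (-(n : ℤ)) le_rfl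
      exact ⟨fun j hj => isIso_homology_of_truncGE (i n) (-(n : ℤ)) j hj.le, inferInstance⟩
    refine (PseudoCoh.iff_forall _ _).2 fun x => (PseudoCoh.pcAt₂ (T := Triangle.mk (i n) g δ) hT
      (pcAt_perfect (hE n) _ x) (PseudoCoh.pcAt_of_vanish ?_ x) : PseudoCoh.PCAt m K x)
    exact fun j hj => (Ascent.good_iff _ _ hT).1 hgood j (by omega)

end Groth.Agent.Lib.Gen43.HocolimPerfect
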