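import Groth.Agent.Lib.Gen43.Affine

/-!
# Factoring sections through Koszul complexes of powers
-/

set_option autoImplicit false
set_option linter.style.haveILetI false
set_option linter.unusedSectionVars false

universe u

open CategoryTheory Limits Pretriangulated AlgebraicGeometry
open Groth.Agent.Lib.KoszulOrth36.Algebra

attribute [local instance] HasDerivedCategory.standard

namespace Groth.Agent.Lib.Gen43.KoszulFactor

variable {A : Type u} [CommRing A]

theorem exists_pow_smul_hom_range (C : Dual.D A) (f : A) :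
    ∀ (l : List A) (n : ℤ), (∀ i : ℤ, n - l.length ≤ i → i ≤ n → ∀ m : Dual.HD A C i, ∃ k : ℕ, f ^ k • m = 0) →
      ∀ φ : (X l)⟦-n⟧ ⟶ C, ∃ k : ℕ, f ^ k • φ = 0 := by
  intro l
  induction l with
  | nil =>
    intro n hC φ
    obtain ⟨k, hk⟩ := hC n (by simp) le_rfl (homNilEquiv C n φ)
    exact ⟨k, (homNilEquiv C n).injective (by rw [map_smul, hk, map_zero])⟩
  | cons a l ih =>
    intro n hC φ
    simp only [List.length_cons] at hC
    push_cast at hC
    obtain ⟨g, h, hT⟩ := exists_triangle a l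
    have hT' := Triangle.shift_distinguished _ (rot_of_distTriang _ hT) (-n)
    let S := (Triangle.shiftFunctor (Dual.D A) (-n)).obj (Triangle.mk (a • 𝟙 (X l)) g h).rotate
    obtain ⟨k, hk⟩ : ∃ k, f ^ k • (S.mor₁ ≫ φ) = 0 :=
      ih n (fun i h1 h2 => hC i (by omega) h2) _
    obtain ⟨ψ, hψ⟩ := Triangle.yoneda_exact₂ S hT' (f ^ k • φ) ((Linear.comp_smul _ _ _ _ _ _).trans hk)
    let ψ' : ((X l)⟦(1 : ℤ)⟧)⟦-n⟧ ⟶ C := ψ
    obtain ⟨j, hj⟩ := ih (n - 1) (fun i h1 h2 => hC i (by omega) (by omega))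
      (((shiftFunctorAdd' (Dual.D A) 1 (-n) (-(n - 1)) (by omega)).app (X l)).hom ≫ ψ')
    rw [← Linear.comp_smul] at hj
    have hj' : f ^ j • ψ' = 0 := zero_of_epi_comp _ hj
    refine ⟨j + k, ?_⟩
    rw [pow_add, mul_smul]
    refine (congrArg (f ^ j • ·) hψ).trans ?_
    refine (Linear.comp_smul _ _ _ _ _ _).symm.trans ?_
    exact (congrArg (S.mor₂ ≫ ·) hj').trans comp_zero

/-- Powers of a list. -/
abbrev pw (e : ℕ) (l : List A) : List A := l.map fun a => a ^ e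

/-- Compatible maps from `A`, through which torsion classes factor. -/
theorem exists_factor : ∀ l : List A, ∃ t : ∀ e : ℕ, X ([] : List A) ⟶ X (pw e l),
    (∀ e e' : ℕ, e ≤ e' → ∃ T : X (pw e' l) ⟶ X (pw e l), t e' ≫ T = t e) ∧
    ∀ (C : Dual.D A), (∀ f ∈ l, ∀ i : ℤ, -(l.length : ℤ) < i → i ≤ 0 →
        ∀ m : Dual.HD A C i, ∃ k : ℕ, f ^ k • m = 0) →
      ∀ x : X ([] : List A) ⟶ C, ∃ (e : ℕ) (ψ : X (pw e l) ⟶ C), t e ≫ ψ = x := by
  intro l
  induction l with
  | nil =>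
    exact ⟨fun _ => 𝟙 _, fun e e' _ => ⟨𝟙 _, Category.id_comp _⟩,
      fun C _ x => ⟨0, x, Category.id_comp _⟩⟩
  | cons f l ih =>
    obtain ⟨t, htr, hfac⟩ := ih
    choose g h hT using fun e : ℕ => exists_triangle (f ^ e) (pw e l)
    refine ⟨fun e => t e ≫ g e, fun e e' he => ?_, fun C hC x => ?_⟩
    · obtain ⟨T, hTt⟩ := htr e e' he
      obtain ⟨(c : X (f ^ e' :: pw e' l) ⟶ X (f ^ e :: pw e l)),
        (hc : g e' ≫ c = T ≫ g e), -⟩ := Pretriangulated.complete_distinguished_triangle_morphism _ _ (hT e') (hT e)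
        (f ^ (e' - e) • T) T (by
          show (f ^ e' • 𝟙 _) ≫ T = (f ^ (e' - e) • T) ≫ (f ^ e • 𝟙 _)
          rw [Linear.smul_comp, Category.id_comp, Linear.comp_smul, Category.comp_id, smul_smul,
            ← pow_add, Nat.add_sub_cancel' he])
      refine ⟨c, ?_⟩
      exact (Category.assoc _ _ _).trans ((congrArg (t e' ≫ ·) hc).trans
        ((Category.assoc _ _ _).symm.trans (congrArg (· ≫ g e) hTt)))
    · simp only [List.length_cons] at hC
      push_cast at hC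
      obtain ⟨e, ψ, hψ⟩ := hfac C (fun f' hf' i h1 h2 =>
        hC f' (List.mem_cons_of_mem f hf') i (by omega) h2) x
      obtain ⟨k, hk⟩ := exists_pow_smul_hom_range C f (pw e l) 0
        (fun i h1 h2 => hC f List.mem_cons_self i (by simp [pw] at h1; omega) h2)
        (((shiftFunctorZero' (Dual.D A) (-(0 : ℤ)) (by simp)).app (X (pw e l))).hom ≫ ψ)
      rw [← Linear.comp_smul] at hk
      have hk' : f ^ k • ψ = 0 := zero_of_epi_comp _ hk
      obtain ⟨T, hTt⟩ := htr e (max e k) (le_max_left _ _)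
      obtain ⟨(χ : X (pw (max e k) (f :: l)) ⟶ C), (hχ : T ≫ ψ = g _ ≫ χ)⟩ :=
        Triangle.yoneda_exact₂ _ (hT (max e k)) (T ≫ ψ) (by
          show (f ^ max e k • 𝟙 (X (pw (max e k) l))) ≫ (T ≫ ψ : X (pw (max e k) l) ⟶ C) = 0
          rw [Linear.smul_comp, Category.id_comp,
            ← pow_sub_mul_pow f (le_max_right e k), mul_smul, ← Linear.comp_smul, hk', comp_zero, smul_zero])
      refine ⟨max e k, χ, ?_⟩
      show (t _ ≫ g _) ≫ χ = x
      rw [Category.assoc, ← hχ, ← Category.assoc, hTt, hψ]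

open Groth.Agent.Lib.Gen43.Affine Groth.Agent.Lib.DerivedOX Groth.Agent.Lib.KoszulOrth36

/-- The sheaf form. -/
theorem spec_factor (fs : List A) {E : DCoh.D (S A)} (hq : DCoh.IsQCohD E)
    (hU : ∀ i : ℤ, -(fs.length : ℤ) < i → i ≤ 0 → IsZero ((DCoh.HD E i).restrict (Sheaf.U A fs).ι))
    (s : DCoh.inD (S A) (SheafOfModules.unit (S A).ringCatSheaf) ⟶ E) :
    ∃ (e : ℕ) (ψ : (T A).obj (X (pw e fs)) ⟶ E)
      (t : DCoh.inD (S A) (SheafOfModules.unit (S A).ringCatSheaf) ⟶ (T A).obj (X (pw e fs))),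
      t ≫ ψ = s := by
  obtain ⟨C, ⟨eC⟩⟩ := TildeEquiv.exists_preimage (CommRingCat.of A) E hq
  haveI := TildeEquiv.full (CommRingCat.of A)
  let e₀ : (T A).obj (X ([] : List A)) ≅ DCoh.inD (S A) (SheafOfModules.unit (S A).ringCatSheaf) :=
    (T A).mapIso nilIso ≪≫ sgIso' (CommRingCat.of A) 0
  obtain ⟨x, hx⟩ := (T A).map_surjective (e₀.hom ≫ s ≫ eC.inv)
  obtain ⟨t, -, hfac⟩ := exists_factor fs
  obtain ⟨e, ψ, hψ⟩ := hfac C (fun f hf i h1 h2 m =>
    (Sheaf.isZero_restrict_iff A fs _).1 ((hU i h1 h2).of_iso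
      ((Scheme.Modules.restrictFunctor (Sheaf.U A fs).ι).mapIso
        ((Sheaf.HI (CommRingCat.of A) C i).symm ≪≫
          (DerivedCategory.homologyFunctor _ i).mapIso eC))) f hf m) x
  refine ⟨e, (T A).map ψ ≫ eC.hom, e₀.inv ≫ (T A).map (t e), ?_⟩
  rw [Category.assoc, ← (T A).map_comp_assoc, hψ, hx]
  simp

end Groth.Agent.Lib.Gen43.KoszulFactor
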