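import Groth.Agent.Lib.Gen43.Approx
import Groth.Agent.Lib.DerivedOX.TensorExact
import Groth.Agent.Lib.DerivedOX.FlatResolve
import Groth.Agent.Lib.DerivedOX.Amplitude
import Groth.Agent.Lib.DerivedOX.RpushQCoh
import Groth.Agent.Lib.DerivedOX.RpushTriangulated
import Groth.Agent.Lib.DerivedOX.QCohLocal
import Groth.Agent.Lib.LocalTor.Coherent
import Groth.Agent.H56.PCSingle.QCoh

/-!
# Pseudo-coherence of `Rf_*(E ⊗^L K)` from the perfect case
-/

set_option autoImplicit false
set_option linter.style.haveILetI false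
set_option linter.unusedSectionVars false

universe u

open CategoryTheory Limits AlgebraicGeometry Pretriangulated

attribute [local instance] HasDerivedCategory.standard

namespace Groth.Agent.Lib.Gen43.RpushTensor

open Groth.Agent.Lib.DerivedOX Groth.Agent.Lib.Perfect

variable {X Y : Scheme.{u}}

/-- Cohomological bound for `- ⊗^L K`. -/
theorem isZero_HD_tensor (K : CochainComplex X.Modules ℤ) [DCoh.HasLTensorCx K] (b : ℤ)
    [(DCoh.toD X K).IsLE b] (C : DCoh.D X) (c : ℤ) (hC : C.IsLE c) (n : ℤ) (hn : b + c < n) :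
    IsZero (DCoh.HD ((DCoh.LTensorCx K).obj C) n) := by
  let L := DerivedCategory.Q.objPreimage C
  let eL : DerivedCategory.Q.obj L ≅ C := DerivedCategory.Q.objObjPreimageIso C
  have hL : ∀ i, c < i → L.ExactAt i := fun i hi => by
    rw [HomologicalComplex.exactAt_iff_isZero_homology]
    haveI := hC
    exact (DerivedCategory.isZero_of_isLE C c i hi).of_iso
      (((DerivedCategory.homologyFunctorFactors X.Modules i).app L).symm ≪≫
        (DerivedCategory.homologyFunctor X.Modules i).mapIso eL)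
  obtain ⟨G, s, hG0, hGf, hs⟩ := FlatResolve.exists_flat_resolution L c hL
  have hG := Amplitude.isKFlat_of_bounded G c hG0 hGf
  obtain ⟨e⟩ := QCohLocal.nonempty_LTensorCx_iso K hG
  haveI : QuasiIso s := hs
  have hK : ∀ i, b + 1 ≤ i → K.ExactAt i := fun i hi => by
    rw [HomologicalComplex.exactAt_iff_isZero_homology]
    exact (DerivedCategory.isZero_of_isLE (DCoh.toD X K) b i (by omega)).of_iso
      ((DerivedCategory.homologyFunctorFactors X.Modules i).app K).symm
  have hz := (HomologicalComplex.exactAt_iff_isZero_homology _ _).1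
    (LocalTor.Coherent.exactAt_tensor' G K (b + 1) c hK hG0 hG n (by omega))
  exact hz.of_iso ((DerivedCategory.homologyFunctor X.Modules n).mapIso
    ((DCoh.LTensorCx K).mapIso (eL.symm ≪≫ (asIso (DerivedCategory.Q.map s)).symm) ≪≫ e) ≪≫
      (DerivedCategory.homologyFunctorFactors X.Modules n).app _)


/-- Pseudo-coherence of `Rf_*(E ⊗^L K)` for all pseudo-coherent `E` from the perfect case. -/
theorem pseudoCoherent [CompactSpace X] [QuasiSeparatedSpace X] [CompactSpace Y]
    (f : X ⟶ Y) [QuasiCompact f] [QuasiSeparated f] [DCoh.HasRpush f]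
    (K : CochainComplex X.Modules ℤ) (hK : DCoh.IsQCohD (DCoh.toD X K)) (b : ℤ)
    [(DCoh.toD X K).IsLE b] [DCoh.HasLTensorCx K]
    (h : ∀ E : DCoh.D X, DCoh.IsPerfect E →
      ∀ m : ℤ, DCoh.IsPseudoCoherentD m ((DCoh.Rpush f).obj ((DCoh.LTensorCx K).obj E)))
    (E : DCoh.D X) (hE : ∀ m : ℤ, DCoh.IsPseudoCoherentD m E) (m : ℤ) :
    DCoh.IsPseudoCoherentD m ((DCoh.Rpush f).obj ((DCoh.LTensorCx K).obj E)) := by
  obtain ⟨N, hN⟩ := RpushQCoh.exists_bound f
  obtain ⟨r, hr⟩ := Approx.exists_approx (⊥ : X.Opens) (by simp)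
  have hEq : DCoh.IsQCohD E := fun j =>
    H56.PCSingle.isQCoh_HD ((PseudoCoh.iff_forall (j - 1) E).1 (hE _)) j (by omega)
  let c : ℤ := m - b - N - 2
  obtain ⟨P, α, hP, -, hα⟩ := hr (c + 1) E hEq (hE _) (fun i _ x hx => hx.elim)
  obtain ⟨C, g, δ, hT⟩ := distinguished_cocone_triangle α
  have hC : C.IsLE c := (DerivedCategory.isLE_iff _ _).2 fun i hi =>
    (Ascent.good_iff _ _ hT).1 hα i (by omega)
  have hCq : DCoh.IsQCohD C := TildeEquiv.isQCohD_mor₃ _ hT (QCohD.isQCohD_of_isPerfect hP) hEq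
  let W := DCoh.LTensorCx K ⋙ DCoh.Rpush f
  -- the bound
  have hvan : ∀ (Z : DCoh.D X) (d : ℤ), DCoh.IsQCohD Z → Z.IsLE d → ∀ p : ℤ, N + b + d ≤ p →
      IsZero (DCoh.HD (W.obj Z) p) := fun Z d hZ hd p hp => by
    let M := (DCoh.LTensorCx K).obj Z
    have hMq : DCoh.IsQCohD (M⟦b + d⟧) := CompactUnit.qcD_shift _ _ (QCohLocal.isQCohD_LTensorCx K hK hZ)
    have hMle : M.IsLE (b + d) := (DerivedCategory.isLE_iff _ _).2 fun i hi =>
      isZero_HD_tensor K b Z d hd i hi
    haveI := hMle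
    have hz := hN (M⟦b + d⟧) hMq
      ((DerivedCategory.TStructure.t (C := X.Modules)).isLE_shift M (b + d) (b + d) 0 (by omega))
      (p - (b + d)) (by omega)
    exact hz.of_iso
      ((((DerivedCategory.homologyFunctor Y.Modules 0).shiftIso (b + d) (p - (b + d)) p (by omega)).app _).symm ≪≫
        (DerivedCategory.homologyFunctor Y.Modules _).mapIso
          (((DCoh.Rpush f).commShiftIso (b + d)).app M).symm)
  have hC1 : (C⟦(-1 : ℤ)⟧).IsLE (c + 1) :=
    (DR.Basic.isLE_shift_iff' C (-1) c (c + 1) (by omega)).2 hC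
  have hgood : Ascent.Good m (W.map α) := by
    have hepi : ∀ p, m ≤ p → Epi ((DerivedCategory.homologyFunctor Y.Modules p).map (W.map α)) :=
      fun p hp => (TensorExact.exact K (DCoh.Rpush f) _ hT p).epi_f
        ((hvan C c hCq hC p (by omega)).eq_of_tgt _ _)
    refine ⟨fun p hp => ?_, hepi m le_rfl⟩
    haveI := hepi p hp.le
    haveI : Mono ((DerivedCategory.homologyFunctor Y.Modules p).map (W.map α)) :=
      (TensorExact.exact K (DCoh.Rpush f) _ (inv_rot_of_distTriang _ hT) p).mono_g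
        ((hvan (C⟦(-1 : ℤ)⟧) (c + 1) (CompactUnit.qcD_shift _ _ hCq) hC1 p (by omega)).eq_of_src _ _)
    exact isIso_of_mono_of_epi _
  refine (PseudoCoh.iff_forall _ _).2 fun x => ?_
  obtain ⟨U, j, _, y, F, β, hy, hF, hβ⟩ := (PseudoCoh.iff_forall _ _).1 (h P hP m) x
  exact ⟨U, j, inferInstance, y, F, β ≫ (Perfect.Basic.RD j).map (W.map α), hy, hF,
    hβ.comp (PseudoCoh.good_restrict j hgood)⟩

end Groth.Agent.Lib.Gen43.RpushTensor
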